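import Groth.Agent.GrLC.LocCohLES
import Groth.Agent.GrSegre.Bigr
import Groth.Agent.LocCoh.CohDim
import Mathlib.LinearAlgebra.Pi

/-!
# Top local cohomology is right exact: generators and relations
-/

set_option autoImplicit false
set_option linter.unusedSectionVars false
set_option linter.style.haveILetI false
universe u

open Groth.Agent.GrLC

namespace Groth.Agent.GrDual

variable {R : Type u} [CommRing R] (I : Ideal R) (i : ℕ)
variable {M N : Type u} [AddCommGroup M] [Module R M] [AddCommGroup N] [Module R N]

theorem H_map_smul (r : R) (f : M →ₗ[R] N) (x : LocCoh.H I i M) :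
    LocCohElt.map I i (r • f) x = r • LocCohElt.map I i f x := by
  have h : r • f = (r • LinearMap.id : N →ₗ[R] N) ∘ₗ f := LinearMap.ext fun _ => rfl
  rw [h, ← LocCohElt.map_comp, LocCohElt.map_smul_id]

variable [IsNoetherianRing R] {n : ℕ}

theorem map_surjective_top (hn : ringKrullDim R = n) [Module.Finite R M]
    (g : M →ₗ[R] N) (hg : Function.Surjective g) : Function.Surjective (LocCohElt.map I n g) := by
  intro y
  have hf : Function.Injective (LinearMap.ker g).subtype := Subtype.val_injective
  have hfg : Function.Exact (LinearMap.ker g).subtype g := LinearMap.exact_subtype_ker_map g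
  refine ((LocCohElt.exact_map_δ I n hf hfg hg) y).1 ?_
  haveI : Subsingleton (LocCoh.H I (n + 1) (LinearMap.ker g)) := by
    refine Groth.Agent.LocCoh.subsingleton_H_of_supportDim_lt I (n + 1) _ ?_ _ le_rfl
    exact (Module.supportDim_le_ringKrullDim R _).trans_lt (by
      rw [hn]; exact_mod_cast Nat.lt_succ_self n)
  exact Subsingleton.elim _ _

theorem map_exact_top {P : Type u} [AddCommGroup P] [Module R P] (f : M →ₗ[R] N) (g : N →ₗ[R] P)
    (hn : ringKrullDim R = n) [Module.Finite R M] (hfg : Function.Exact f g) (hg : Function.Surjective g) :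
    Function.Exact (LocCohElt.map I n f) (LocCohElt.map I n g) := by
  have hcod : f = (LinearMap.ker g).subtype ∘ₗ f.codRestrict (LinearMap.ker g)
      (fun x => LinearMap.mem_ker.2 (hfg.apply_apply_eq_zero x)) := LinearMap.ext fun _ => rfl
  have hsur : Function.Surjective (f.codRestrict (LinearMap.ker g)
      (fun x => LinearMap.mem_ker.2 (hfg.apply_apply_eq_zero x))) := fun z => by
    obtain ⟨x, hx⟩ := (hfg z.1).1 (LinearMap.mem_ker.1 z.2)
    exact ⟨x, Subtype.ext hx⟩
  have hex := LocCohElt.exact_map_map I n (f := (LinearMap.ker g).subtype) (g := g) Subtype.val_injective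
    (LinearMap.exact_subtype_ker_map g) hg
  intro y
  refine ⟨fun hy => ?_, fun ⟨x, hx⟩ => ?_⟩
  · obtain ⟨z, hz⟩ := (hex y).1 hy
    obtain ⟨x, hx⟩ := map_surjective_top I hn _ hsur z
    refine ⟨x, ?_⟩
    rw [hcod, ← LocCohElt.map_comp, hx, hz]
  · subst hx
    rw [hcod, ← LocCohElt.map_comp]
    exact (hex _).2 ⟨_, rfl⟩

section Gens

variable {s : ℕ} (x : Fin s → M)

theorem linearCombination_comp_single (a : Fin s) :
    Fintype.linearCombination R x ∘ₗ LinearMap.single R (fun _ : Fin s => R) a =
      LinearMap.toSpanSingleton R M (x a) := by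
  refine LinearMap.ext_ring ?_
  simp [Fintype.linearCombination_apply]

theorem proj_comp_linearCombination {t : ℕ} (r : Fin t → Fin s → R) (a : Fin s) :
    LinearMap.proj a ∘ₗ Fintype.linearCombination R r =
      ∑ b, r b a • LinearMap.proj (φ := fun _ : Fin t => R) b := by
  refine LinearMap.ext fun v => ?_
  simp [Fintype.linearCombination_apply, Finset.sum_apply, mul_comm]

theorem eq_sum_single (y : LocCoh.H I i (Fin s → R)) :
    y = ∑ a, LocCohElt.map I i (LinearMap.single R (fun _ : Fin s => R) a)
      (LocCohElt.map I i (LinearMap.proj a) y) := by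
  have hid : ∑ a, LinearMap.single R (fun _ : Fin s => R) a ∘ₗ LinearMap.proj a = LinearMap.id :=
    LinearMap.ext fun v => by simp [LinearMap.sum_apply, Finset.univ_sum_single]
  conv_lhs => rw [← LocCohElt.map_id I i y, ← hid, GrSegre.H_map_sum]
  simp only [LocCohElt.map_comp]

theorem exists_gens (hn : ringKrullDim R = n) (hx : Function.Surjective (Fintype.linearCombination R x))
    (y : LocCoh.H I n M) : ∃ h : Fin s → LocCoh.H I n R,
      y = ∑ a, LocCohElt.map I n (LinearMap.toSpanSingleton R M (x a)) (h a) := by
  obtain ⟨z, rfl⟩ := map_surjective_top I hn _ hx y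
  refine ⟨fun a => LocCohElt.map I n (LinearMap.proj a) z, ?_⟩
  conv_lhs => rw [eq_sum_single I n z, map_sum]
  exact Finset.sum_congr rfl fun a _ => by
    rw [LocCohElt.map_comp, linearCombination_comp_single]

theorem exists_relations (hn : ringKrullDim R = n) (hx : Function.Surjective (Fintype.linearCombination R x))
    {t : ℕ} (r : Fin t → Fin s → R)
    (hr : Function.Exact (Fintype.linearCombination R r) (Fintype.linearCombination R x))
    (h : Fin s → LocCoh.H I n R)
    (h0 : ∑ a, LocCohElt.map I n (LinearMap.toSpanSingleton R M (x a)) (h a) = 0) :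
    ∃ h' : Fin t → LocCoh.H I n R, ∀ a, h a = ∑ b, r b a • h' b := by
  let z : LocCoh.H I n (Fin s → R) :=
    ∑ a, LocCohElt.map I n (LinearMap.single R (fun _ : Fin s => R) a) (h a)
  have hz : LocCohElt.map I n (Fintype.linearCombination R x) z = 0 := by
    rw [map_sum, ← h0]
    exact Finset.sum_congr rfl fun a _ => by rw [LocCohElt.map_comp, linearCombination_comp_single]
  obtain ⟨w, hw⟩ := (map_exact_top I _ _ hn hr hx z).1 hz
  refine ⟨fun b => LocCohElt.map I n (LinearMap.proj b) w, fun a => ?_⟩
  have h1 : LocCohElt.map I n (LinearMap.proj (φ := fun _ : Fin s => R) a) z = h a := by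
    rw [map_sum, Finset.sum_eq_single a]
    · rw [LocCohElt.map_comp, LinearMap.proj_comp_single_same, LocCohElt.map_id]
    · intro b _ hb
      rw [LocCohElt.map_comp, LinearMap.proj_comp_single_ne R _ a b (Ne.symm hb)]
      exact GrSegre.H_map_zero I n _
    · intro ha; exact absurd (Finset.mem_univ a) ha
  rw [← h1, ← hw, LocCohElt.map_comp, proj_comp_linearCombination, GrSegre.H_map_sum]
  exact Finset.sum_congr rfl fun b _ => H_map_smul I n _ _ _

end Gens

end Groth.Agent.GrDual
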