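import Groth.Agent.GrDual.CanonType
import Groth.Agent.GrBass.Shift
import Groth.Agent.GrDual.HullInj
import Groth.Agent.Depth.Local
import Groth.Agent.LocCoh.DepthVanishing
import Mathlib.RingTheory.LocalProperties.InjectiveDimension

/-!
# The canonical module is maximal Cohen–Macaulay of finite injective dimension
-/

set_option autoImplicit false
set_option linter.unusedSectionVars false
set_option linter.style.haveILetI false
universe u

open DirectSum CategoryTheory CategoryTheory.Abelian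
open Groth.Agent.GrLC

noncomputable section

namespace Groth.Agent.GrDual

section Torsion

variable {R : Type u} [CommRing R] [IsNoetherianRing R] {𝒜 : ℤ → AddSubgroup R} [GradedRing 𝒜]
variable {E : Type u} [AddCommGroup E] [Module R E] {𝓔 : ℤ → AddSubgroup E} [DirectSum.Decomposition 𝓔]
  [SetLike.GradedSMul 𝒜 𝓔] {m : HomogeneousIdeal 𝒜} {e : (R ⧸ m.toIdeal) →ₗ[R] E}

/-- the hull of `R/m` is torsion -/
theorem torsion_starHull (he : _root_.GrLC.IsStarInjHull 𝒜 (_root_.GrLC.quotGr 𝒜 m) 𝓔 e) (y : E) :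
    ∃ c : ℕ, ∀ r ∈ m.toIdeal ^ c, r • y = 0 := by
  have hje := isEssentialInj_of_starHull he
  let P : Submodule R E := R ∙ y
  haveI : Module.Finite R P := Module.Finite.of_fg (Submodule.fg_span_singleton y)
  let N : Submodule R P := (LinearMap.range e).comap P.subtype
  obtain ⟨c, hc⟩ := Ideal.exists_pow_inf_eq_pow_smul m.toIdeal N
  refine ⟨c + 1, fun r hr => ?_⟩
  by_contra hne
  obtain ⟨s, q, hq, hs⟩ := InjHull.Basic.exists_smul_mem_range hje hne
  have hP : s • r • y ∈ P := P.smul_mem s (P.smul_mem r (Submodule.mem_span_singleton_self y))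
  have hmem : (⟨s • r • y, hP⟩ : P) ∈ m.toIdeal ^ (c + 1) • (⊤ : Submodule R P) ⊓ N := by
    refine ⟨?_, ⟨q, hq⟩⟩
    have : (⟨s • r • y, hP⟩ : P) = (s * r) • ⟨y, Submodule.mem_span_singleton_self y⟩ :=
      Subtype.ext (mul_smul s r y).symm
    rw [this]
    exact Submodule.smul_mem_smul (Ideal.mul_mem_left _ _ hr) trivial
  rw [hc (c + 1) (Nat.le_succ c), Nat.add_sub_cancel_left, pow_one] at hmem
  refine hs ?_
  have hzero : m.toIdeal • (m.toIdeal ^ c • (⊤ : Submodule R P) ⊓ N) ≤ ⊥ := by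
    refine Submodule.smul_le.2 fun t ht z hz => ?_
    obtain ⟨w, hw⟩ := hz.2
    rw [Submodule.mem_bot]
    refine Subtype.ext ?_
    change t • (z : E) = 0
    rw [show (z : E) = e w from hw.symm, ← map_smul]
    obtain ⟨w, rfl⟩ := Ideal.Quotient.mk_surjective w
    rw [show t • Ideal.Quotient.mk m.toIdeal w = Ideal.Quotient.mk m.toIdeal (t * w) from rfl,
      Ideal.Quotient.eq_zero_iff_mem.2 (Ideal.mul_mem_right _ _ ht), map_zero]
  exact congrArg Subtype.val ((Submodule.mem_bot R).1 (hzero hmem))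

end Torsion

variable {k : Type u} [Field k] {R : Type u} [CommRing R] [Algebra k R] [LocCoh.IsCohenMacaulayRing R]
  {𝒜 : ℤ → AddSubgroup R} [GradedRing 𝒜]
variable (hB : Base k 𝒜) {m : HomogeneousIdeal 𝒜} (hm : _root_.GrLC.IsStarLocal 𝒜 m)
  (hm0 : ∀ i : ℤ, 0 < i → ∀ x ∈ 𝒜 i, x ∈ m.toIdeal) [m.toIdeal.IsMaximal]
variable {n : ℕ} (hn : ringKrullDim R = n) (I : _root_.GrLC.StarInjRes 𝒜 𝒜)
  [Module k (I.H m n)] [IsScalarTower k R (I.H m n)] [DirectSum.Decomposition (I.Hgr m n)]
  [SetLike.GradedSMul 𝒜 (I.Hgr m n)]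
variable {C : Type u} [AddCommGroup C] [Module R C] [Module k C] [IsScalarTower k R C]
  {𝒞 : ℤ → AddSubgroup C} [DirectSum.Decomposition 𝒞] [SetLike.GradedSMul 𝒜 𝒞] [Module.Finite R C]
variable {β : C →ₗ[k] I.H m n →ₗ[k] k} (hβ : _root_.GrSeg.IsGDual R (I.Hgr m n) 𝒞 β)
variable {E : Type u} [AddCommGroup E] [Module R E] {𝓔 : ℤ → AddSubgroup E} [DirectSum.Decomposition 𝓔]
  [SetLike.GradedSMul 𝒜 𝓔] {e : (R ⧸ m.toIdeal) →ₗ[R] E}
  (he : _root_.GrLC.IsStarInjHull 𝒜 (_root_.GrLC.quotGr 𝒜 m) 𝓔 e)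

include hB hm hm0 hn hβ he in
/-- the top local cohomology of the canonical module is the hull of `R/m` -/
theorem nonempty_topH_equiv : Nonempty (LocCoh.H m.toIdeal n C ≃ₗ[R] E) := by
  classical
  letI : Module k (LocCoh.H m.toIdeal n C) := Module.compHom _ (algebraMap k R)
  haveI : IsScalarTower k R (LocCoh.H m.toIdeal n C) := IsScalarTower.of_algebraMap_smul fun _ _ => rfl
  letI : Module k E := Module.compHom E (algebraMap k R)
  haveI : IsScalarTower k R E := IsScalarTower.of_algebraMap_smul fun _ _ => rfl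
  obtain ⟨π, e₁, hπ⟩ := exists_coord hB hm0 (ne_top_of_starLocal hm) he
  obtain ⟨β₀, h₀⟩ := exists_gdual_ring hB hm0 hπ
  obtain ⟨-, hsoc⟩ := canonical_locCoh hB hm hm0 hn I hβ
  have hk := hk_of_base hB hm hm0
  let SH : ℕ → Submodule k (LocCoh.H m.toIdeal n C) := fun N =>
    { carrier := {x | ∀ a ∈ m.toIdeal ^ N, a • x = 0}
      add_mem' := fun {x y} hx hy a ha => by rw [smul_add, hx a ha, hy a ha, add_zero]
      zero_mem' := fun a _ => smul_zero a
      smul_mem' := fun c x hx a ha => by rw [smul_comm, hx a ha, smul_zero] }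
  let SE : ℕ → Submodule k E := fun N =>
    { carrier := {x | ∀ a ∈ m.toIdeal ^ N, a • x = 0}
      add_mem' := fun {x y} hx hy a ha => by rw [smul_add, hx a ha, hy a ha, add_zero]
      zero_mem' := fun a _ => smul_zero a
      smul_mem' := fun c x hx a ha => by rw [smul_comm, hx a ha, smul_zero] }
  have h1 : Module.finrank k (SH 1) = 1 := by
    rw [(hsoc 1 (SH 1) fun x => Iff.rfl).2,
      ((Submodule.quotEquivOfEq _ m.toIdeal (by rw [pow_one, smul_eq_mul, Ideal.mul_top])).restrictScalars k).finrank_eq,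
      finrank_quot_self hB hm hm0]
  obtain ⟨v, hv0, hv⟩ := finrank_eq_one_iff'.1 h1
  have hvm : ∀ a ∈ m.toIdeal, a • v.1 = 0 := fun a ha => v.2 a (by rwa [pow_one])
  let f0 : (R ⧸ m.toIdeal) →ₗ[R] LocCoh.H m.toIdeal n C :=
    Submodule.liftQ m.toIdeal (LinearMap.toSpanSingleton R _ v.1) fun a ha => hvm a ha
  have hf0 : Function.Injective f0 := (injective_iff_map_eq_zero f0).2 fun x hx => by
    obtain ⟨r, rfl⟩ := Ideal.Quotient.mk_surjective x
    refine Ideal.Quotient.eq_zero_iff_mem.2 (by_contra fun hr => hv0 (Subtype.ext ?_))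
    obtain ⟨t, u, hu, htu⟩ := Ideal.IsMaximal.exists_inv ‹_› hr
    change r • v.1 = 0 at hx
    calc v.1 = (t * r + u) • v.1 := by rw [htu, one_smul]
      _ = 0 := by rw [add_smul, mul_smul, hx, hvm u hu, smul_zero, add_zero]
  obtain ⟨f, hf⟩ := (injective_starHull he).out f0 hf0 e
  have hfz : ∀ (N : ℕ) (z : LocCoh.H m.toIdeal n C), (∀ a ∈ m.toIdeal ^ N, a • z = 0) → f z = 0 → z = 0 := by
    intro N
    induction N with
    | zero => intro z hz _; simpa using hz 1 (by simp)
    | succ N ih =>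
      intro z hz hfz
      have hsz : z ∈ SH 1 := fun a ha => by
        rw [pow_one] at ha
        exact ih _ (fun b hb => by rw [smul_smul]; exact hz _ (pow_succ m.toIdeal N ▸ Ideal.mul_mem_mul hb ha))
          (by rw [map_smul, hfz, smul_zero])
      obtain ⟨c, hc⟩ := hv ⟨z, hsz⟩
      have hc' : f0 (Ideal.Quotient.mk _ (algebraMap k R c)) = z := by
        change algebraMap k R c • v.1 = z
        rw [algebraMap_smul]
        exact congrArg Subtype.val hc
      have h2 := hf (Ideal.Quotient.mk _ (algebraMap k R c))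
      rw [hc', hfz] at h2
      rw [← hc', he.injective (h2.symm.trans (map_zero e).symm), map_zero]
  have hfinj : Function.Injective f := (injective_iff_map_eq_zero f).2 fun z hz => by
    obtain ⟨N, hN⟩ := LocCoh.isPowerTorsion_H (I := m.toIdeal) (i := n) (ModuleCat.of R C) z
    exact hfz N z hN hz
  refine ⟨LinearEquiv.ofBijective f ⟨hfinj, fun y => ?_⟩⟩
  obtain ⟨N, hN⟩ := torsion_starHull he y
  haveI : Module.Finite k (R ⧸ (m.toIdeal ^ N • ⊤ : Submodule R R)) :=
    finite_of_killed m.toIdeal hk N _ fun r hr w => by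
      obtain ⟨w, rfl⟩ := Submodule.Quotient.mk_surjective _ w
      rw [← Submodule.Quotient.mk_smul, Submodule.Quotient.mk_eq_zero]
      exact Submodule.smul_mem_smul hr Submodule.mem_top
  obtain ⟨hfE, hrE⟩ := exists_dual_quot hB h₀ (GrLC.isHomogeneous_pow m.isHomogeneous N) (SE N) fun x => Iff.rfl
  obtain ⟨hfH, hrH⟩ := hsoc N (SH N) fun x => Iff.rfl
  let g : SH N →ₗ[k] SE N :=
    LinearMap.codRestrict (SE N) ((f.restrictScalars k) ∘ₗ (SH N).subtype) fun x a ha => by
      change a • f x.1 = 0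
      rw [← map_smul, x.2 a ha, map_zero]
  have hginj : Function.Injective g := fun a b h => Subtype.ext (hfinj (congrArg Subtype.val h))
  haveI := hfE
  haveI := hfH
  obtain ⟨z, hz⟩ := (LinearMap.injective_iff_surjective_of_finrank_eq_finrank (hrH.trans hrE.symm)).1 hginj ⟨y, hN⟩
  exact ⟨z.1, congrArg Subtype.val hz⟩

include hB hm hm0 hn hβ he in
/-- the Bass numbers at `m` beyond the dimension vanish -/
theorem subsingleton_ext_above {i : ℕ} (hi : n < i) :
    Subsingleton (Ext.{u} (ModuleCat.of (Localization.AtPrime m.toIdeal)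
      (IsLocalRing.ResidueField (Localization.AtPrime m.toIdeal)))
      (ModuleCat.of (Localization.AtPrime m.toIdeal) (LocalizedModule m.toIdeal.primeCompl C)) i) := by
  let A := Localization.AtPrime m.toIdeal
  let S := m.toIdeal.primeCompl
  letI : Module k (LocCoh.H m.toIdeal n C) := Module.compHom _ (algebraMap k R)
  haveI : IsScalarTower k R (LocCoh.H m.toIdeal n C) := IsScalarTower.of_algebraMap_smul fun _ _ => rfl
  obtain ⟨hvan, -⟩ := canonical_locCoh hB hm hm0 hn I hβ
  have Φ : ∀ j, Nonempty (LocalizedModule S (LocCoh.H m.toIdeal j C) ≃ₗ[A]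
      LocCoh.H (IsLocalRing.maximalIdeal A) j (LocalizedModule S C)) := fun j => by
    rw [← Localization.AtPrime.map_eq_maximalIdeal]
    exact LocCoh.BaseChangeIso.nonempty_H_localized m.toIdeal S C j
  have hne : ∀ j, j ≠ n → Subsingleton (LocCoh.H (IsLocalRing.maximalIdeal A) j (LocalizedModule S C)) := fun j hj => by
    obtain ⟨Φj⟩ := Φ j
    haveI : Subsingleton (LocCoh.H m.toIdeal j C) := by
      rcases lt_or_gt_of_ne hj with h | h
      · exact hvan j h
      · refine LocCoh.subsingleton_H_of_supportDim_lt m.toIdeal j C ?_ j le_rfl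
        refine lt_of_le_of_lt (Module.supportDim_le_ringKrullDim R C) ?_
        rw [hn]
        exact_mod_cast h
    exact Φj.symm.toEquiv.subsingleton
  obtain ⟨ψ⟩ := nonempty_topH_equiv hB hm hm0 hn I hβ he
  let ψ' : LocalizedModule S (LocCoh.H m.toIdeal n C) ≃ₗ[A] LocalizedModule S E :=
    LinearEquiv.ofBijective (LocalizedModule.map S ψ.toLinearMap)
      ⟨LocalizedModule.map_injective S _ ψ.injective, LocalizedModule.map_surjective S _ ψ.surjective⟩
  obtain ⟨Φn⟩ := Φ n
  have htorV : ∀ v : LocalizedModule S E,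
      ∃ j : ℕ, ∀ r ∈ IsLocalRing.maximalIdeal A ^ j, r • v = 0 := fun v => by
    obtain ⟨j, hj⟩ := LocCoh.isPowerTorsion_H (I := IsLocalRing.maximalIdeal A) (i := n)
      (ModuleCat.of A (LocalizedModule S C)) (Φn (ψ'.symm v))
    exact ⟨j, fun r hr => (Φn.injective.comp ψ'.symm.injective) (by
      simp only [Function.comp_apply, map_smul, map_zero]; exact hj r hr)⟩
  have hinj : Module.Injective A (LocCoh.H (IsLocalRing.maximalIdeal A) n (LocalizedModule S C)) :=
    InjHull.Basic.injective_of_equiv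
      (GorTop.injective_of_ext_one _ htorV (GorTop.subsingleton_ext_localized he.starInj 1 le_rfl))
      (ψ'.symm.trans Φn)
  exact Gor.LocCohCriterion.subsingleton_ext_of_single n (ModuleCat.of A (LocalizedModule S C)) hne hinj i hi

include hB hm hm0 hn hβ in
/-- the canonical module is maximal Cohen–Macaulay at `m` -/
theorem isCohenMacaulay_canonical :
    LocCoh.IsCohenMacaulayModule (Localization.AtPrime m.toIdeal) (LocalizedModule m.toIdeal.primeCompl C) := by
  let A := Localization.AtPrime m.toIdeal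
  let S := m.toIdeal.primeCompl
  letI : Module k (LocCoh.H m.toIdeal n C) := Module.compHom _ (algebraMap k R)
  haveI : IsScalarTower k R (LocCoh.H m.toIdeal n C) := IsScalarTower.of_algebraMap_smul fun _ _ => rfl
  obtain ⟨hvan, -⟩ := canonical_locCoh hB hm hm0 hn I hβ
  haveI hnt : Nontrivial (LocalizedModule S C) := by
    by_contra hsub
    rw [not_nontrivial_iff_subsingleton] at hsub
    have h1 := bassNum_canonical hB hm hm0 hn I hβ
    have hs : Subsingleton (Ext.{u} (ModuleCat.of A (IsLocalRing.ResidueField A))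
        (ModuleCat.of A (LocalizedModule S C)) n) := subsingleton_of_forall_eq 0 fun x => by
      rw [← Ext.comp_mk₀_id x, (ModuleCat.isZero_of_subsingleton _).eq_of_tgt (𝟙 _) 0, Ext.mk₀_zero, Ext.comp_zero]
    rw [_root_.GrLC.bassNum, _root_.GrLC.bassNumLocal, Module.length_eq_zero_iff.2 hs] at h1
    exact zero_ne_one h1
  have hdepth : (n : ℕ∞) ≤ LocCoh.depth A (LocalizedModule S C) := by
    refine (GrBass.natCast_le_depth_iff C m.toIdeal n).2 fun i hi => Module.length_eq_zero_iff.2 ?_
    refine LocCoh.subsingleton_ext_of_forall_subsingleton_H (J := IsLocalRing.maximalIdeal A) (i + 1) _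
      (fun j hj => ?_) _ 1 ?_ i (Nat.lt_succ_self i)
    · obtain ⟨Φj⟩ : Nonempty (LocalizedModule S (LocCoh.H m.toIdeal j C) ≃ₗ[A]
          LocCoh.H (IsLocalRing.maximalIdeal A) j (LocalizedModule S C)) := by
        rw [← Localization.AtPrime.map_eq_maximalIdeal]
        exact LocCoh.BaseChangeIso.nonempty_H_localized m.toIdeal S C j
      haveI := hvan j (by omega)
      exact Φj.symm.toEquiv.subsingleton
    · intro a ha
      rw [pow_one] at ha
      exact Module.mem_annihilator.2 fun c => TypeSocle.residue_smul_eq_zero ha c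
  refine le_antisymm ?_ Depth.depth_le_supportDim
  refine (Module.supportDim_le_ringKrullDim A (LocalizedModule S C)).trans ?_
  rw [GorTop.ringKrullDim_eq (m := m) (height_eq hB hm hn)]
  exact_mod_cast hdepth

include hB hm hm0 hn hβ he in
/-- finite injective dimension -/
theorem exists_injDim : ∃ N : ℕ, HasInjectiveDimensionLT (ModuleCat.of R C) N := by
  let A := Localization.AtPrime m.toIdeal
  have hidA : HasInjectiveDimensionLT (ModuleCat.of A (LocalizedModule m.toIdeal.primeCompl C)) (n + 1) :=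
    Gor.InjDim.hasInjectiveDimensionLT_of_residue _ n fun i hi =>
      subsingleton_ext_above hB hm hm0 hn I hβ he hi
  -- at every prime inside `m`
  have hle : ∀ (P : Ideal R) [P.IsPrime], P ≤ m.toIdeal → ∀ i, n < i → _root_.GrLC.bassNum P C i = 0 := by
    intro P _ hPm i hi
    let F := ModuleCat.localizedModuleFunctor.{u} P.primeCompl
    let G := ModuleCat.localizedModuleFunctor.{u} m.toIdeal.primeCompl
    obtain ⟨iM⟩ := GrBass.exists_module_iso C m.toIdeal
    haveI := hidA
    haveI : HasInjectiveDimensionLT (G.obj (ModuleCat.of R C)) (n + 1) :=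
      hasInjectiveDimensionLT_of_iso iM.symm _
    obtain ⟨hs, -⟩ := GrBass.ExtLoc.key R P.primeCompl (ModuleCat.of R C) i (ModuleCat.of R (R ⧸ P))
    obtain ⟨-, hk'⟩ := GrBass.ExtLoc.key R m.toIdeal.primeCompl (ModuleCat.of R C) i (ModuleCat.of R (R ⧸ P))
    obtain ⟨iT⟩ := GrBass.exists_quot_iso P P
    obtain ⟨iP⟩ := GrBass.exists_module_iso C P
    have iK : ModuleCat.of (Localization.AtPrime P) (Localization.AtPrime P ⧸
        P.map (algebraMap R (Localization.AtPrime P))) ≅
          ModuleCat.of (Localization.AtPrime P) (IsLocalRing.ResidueField (Localization.AtPrime P)) :=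
      (Submodule.quotEquivOfEq _ _ Localization.AtPrime.map_eq_maximalIdeal).toModuleIso
    let ψ := GrBass.extIso (iT ≪≫ iK) iP i
    refine Module.length_eq_zero_iff.2 (subsingleton_of_forall_eq 0 fun y => ?_)
    obtain ⟨x, s, hxs⟩ := hs (ψ.symm y)
    have hzero : x.mapExactFunctor G = 0 :=
      (HasInjectiveDimensionLT.subsingleton (G.obj (ModuleCat.of R C)) (n + 1) i hi _).elim _ _
    obtain ⟨t, ht⟩ := hk' x hzero
    have h2 := GrBass.ExtLoc.map_smul_ext R P.primeCompl (t : R) x
    rw [ht, Ext.mapExactFunctor_zero] at h2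
    have hx0 : x.mapExactFunctor F = 0 :=
      (IsLocalization.map_units (Localization P.primeCompl)
        (⟨t.1, fun h => t.2 (hPm h)⟩ : P.primeCompl)).smul_eq_zero.mp h2.symm
    rw [hx0] at hxs
    have := congrArg ψ hxs
    rw [map_smul, ψ.apply_symm_apply, map_zero] at this
    exact (IsLocalization.map_units _ s).smul_eq_zero.mp this
  refine ⟨2 * n + 1, (ModuleCat.hasInjectiveDimensionLE_iff_forall_primeSpectrum (2 * n) (ModuleCat.of R C)).2
    fun p => ?_⟩
  obtain ⟨p, hp⟩ := p
  haveI : (Ideal.homogeneousCore 𝒜 p).toIdeal.IsPrime := hp.homogeneousCore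
  haveI hq : (p.map (Ideal.Quotient.mk (Ideal.homogeneousCore 𝒜 p).toIdeal)).IsPrime :=
    Ideal.map_isPrime_of_surjective Ideal.Quotient.mk_surjective
      (by rw [Ideal.mk_ker]; exact Ideal.toIdeal_homogeneousCore_le 𝒜 p)
  obtain ⟨d, hd⟩ := ENat.ne_top_iff_exists.mp
    (Ideal.height_ne_top hq.ne_top :
      (p.map (Ideal.Quotient.mk (Ideal.homogeneousCore 𝒜 p).toIdeal)).height ≠ ⊤)
  have hdn : d ≤ n := by
    have h1 := (Ideal.height_le_ringKrullDim_of_ne_top hq.ne_top).trans
      (ringKrullDim_quotient_le (Ideal.homogeneousCore 𝒜 p).toIdeal)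
    rw [hn, ← hd] at h1
    exact_mod_cast h1
  obtain ⟨-, h2⟩ := GrBass.bassNum_shift 𝒜 C 𝒞 p d hd.symm
  have hPm := Groth.Agent.GrLC.starLocal_le m hm _ (‹(Ideal.homogeneousCore 𝒜 p).toIdeal.IsPrime›).ne_top
  obtain ⟨iP⟩ := GrBass.exists_module_iso C p
  haveI : HasInjectiveDimensionLT (ModuleCat.of (Localization.AtPrime p) (LocalizedModule p.primeCompl C)) (2 * n + 1) :=
    Gor.InjDim.hasInjectiveDimensionLT_of_residue _ (2 * n) fun i hi => by
      obtain ⟨j, rfl⟩ : ∃ j, i = j + d := ⟨i - d, by omega⟩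
      exact Module.length_eq_zero_iff.1 ((h2 j).trans (hle _ hPm j (by omega)))
  exact hasInjectiveDimensionLT_of_iso iP.symm _

end Groth.Agent.GrDual
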