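import Groth.Agent.GrDual.GorPair
import Groth.Agent.GrLC.StandardCM
import Groth.Agent.GrLC.StarCM
import Groth.Agent.Gor.Basic

/-!
# A graded algebra over a field is Gorenstein iff a shift of it is dual to its only local cohomology
-/

set_option autoImplicit false
set_option linter.unusedSectionVars false
set_option linter.style.haveILetI false
universe u

open DirectSum
open Groth.Agent.GrLC

noncomputable section

namespace Groth.Agent.GrDual

theorem isCohenMacaulayRing_of_gorenstein (R : Type u) [CommRing R] [h : LocCoh.IsGorensteinRing R] :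
    LocCoh.IsCohenMacaulayRing R :=
  { isCohenMacaulayLocalRing_localization := fun p _ =>
      have := h.isGorensteinLocalRing_localization p
      Gor.Basic.isCohenMacaulay_of_gorenstein (Localization.AtPrime p) }

variable {k : Type u} [Field k] {R : Type u} [CommRing R] [Algebra k R] [IsNoetherianRing R]
  {𝒜 : ℤ → AddSubgroup R} [GradedRing 𝒜]
variable (hB : Base k 𝒜)
variable {m : HomogeneousIdeal 𝒜} (hm : _root_.GrLC.IsStarLocal 𝒜 m)
  (hm0 : ∀ i : ℤ, 0 < i → ∀ x ∈ 𝒜 i, x ∈ m.toIdeal)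
variable {n : ℕ} (I : _root_.GrLC.StarInjRes 𝒜 𝒜)
  [Module k (I.H m n)] [IsScalarTower k R (I.H m n)] [DirectSum.Decomposition (I.Hgr m n)]
  [SetLike.GradedSMul 𝒜 (I.Hgr m n)]

include hB hm in
theorem height_eq (hn : ringKrullDim R = n) : m.toIdeal.height = n := by
  have h := height_starLocal_eq_ringKrullDim hB.pos m hm
  rw [hn] at h
  exact_mod_cast h

include hB hm hm0 in
/-- Gorenstein gives the pairing -/
theorem exists_shiftDual_of_gorenstein [LocCoh.IsGorensteinRing R] (hn : ringKrullDim R = n) :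
    ∃ (g : ℤ) (β : R →ₗ[k] I.H m n →ₗ[k] k), _root_.GrSeg.IsGDual R (I.Hgr m n) (shA 𝒜 g) β := by
  haveI := TorsLoc.isPrime hm
  haveI := LocCoh.IsGorensteinRing.isGorensteinLocalRing_localization (A := R) m.toIdeal
  letI := quotDec 𝒜 m
  haveI := quotGradedSMul m
  obtain ⟨E, e, he⟩ := exists_hull (𝒜 := 𝒜) (ℳ := _root_.GrLC.quotGr 𝒜 m)
  obtain ⟨g, φ, hφ⟩ := GorTop.exists_equiv_starHull hm I (height_eq hB hm hn) he
  letI : Module k E.carrier := Module.compHom E.carrier (algebraMap k R)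
  haveI : IsScalarTower k R E.carrier := IsScalarTower.of_algebraMap_smul fun _ _ => rfl
  have hdec : (Hdec I m n) = (‹DirectSum.Decomposition (I.Hgr m n)›) := Subsingleton.elim _ _
  obtain ⟨π, e₁, hπ⟩ := exists_coord hB hm0 (ne_top_of_starLocal hm) he
  exact ⟨g, exists_shiftDual hB hm0 hπ φ hφ⟩

include hB hm hm0 in
/-- the pairing and vanishing give Gorenstein -/
theorem isGorensteinRing_of_shiftDual (hvan : ∀ i, i ≠ n → Subsingleton (I.H m i)) {g : ℤ}
    {β : R →ₗ[k] I.H m n →ₗ[k] k} (hβ : _root_.GrSeg.IsGDual R (I.Hgr m n) (shA 𝒜 g) β) :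
    LocCoh.IsGorensteinRing R := by
  haveI := TorsLoc.isPrime hm
  letI := quotDec 𝒜 m
  haveI := quotGradedSMul m
  obtain ⟨E, e, he⟩ := exists_hull (𝒜 := 𝒜) (ℳ := _root_.GrLC.quotGr 𝒜 m)
  letI : Module k E.carrier := Module.compHom E.carrier (algebraMap k R)
  haveI : IsScalarTower k R E.carrier := IsScalarTower.of_algebraMap_smul fun _ _ => rfl
  obtain ⟨π, e₁, hπ⟩ := exists_coord hB hm0 (ne_top_of_starLocal hm) he
  obtain ⟨φ⟩ := nonempty_equiv_of_shiftDual hB hm0 hπ hβ
  exact Descent.isGorensteinRing 𝒜 hm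
    (GorTop.isGorensteinLocalRing_of_vanish I hvan φ he.starInj)

include hB hm in
omit [Module k (I.H m n)] [IsScalarTower k R (I.H m n)] [DirectSum.Decomposition (I.Hgr m n)]
  [SetLike.GradedSMul 𝒜 (I.Hgr m n)] in
theorem subsingleton_H_of_ne [LocCoh.IsCohenMacaulayRing R] (hn : ringKrullDim R = n) {i : ℕ} (hi : i ≠ n) :
    Subsingleton (I.H m i) := by
  have := GrLC.subsingleton_H_of_ne_dim hB.pos m hm hn hi
  exact (Hequiv I m i).toEquiv.subsingleton

end Groth.Agent.GrDual
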