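import Groth.Agent.GrDual.GorTop

/-!
# The type is the dimension of the socle of top local cohomology

`nonempty_ext_equiv`: `Ext^d(k, M) ≅ Hom(k, H^d_m(M))` when lower local cohomology vanishes.
-/

set_option autoImplicit false
set_option linter.unusedSectionVars false
universe u

open CategoryTheory CategoryTheory.Abelian IsLocalRing

noncomputable section

namespace Groth.Agent.GrDual.TypeSocle

section Local

variable {A : Type u} [CommRing A] [IsLocalRing A] [IsNoetherianRing A]

local notation "𝔪" => maximalIdeal A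
local notation "κA" => ModuleCat.of A (ResidueField A)

omit [IsNoetherianRing A] in
theorem residue_smul_eq_zero {a : A} (ha : a ∈ 𝔪) (c : ResidueField A) : a • c = 0 := by
  rw [Algebra.smul_def, show algebraMap A (ResidueField A) a = 0 from (residue_eq_zero_iff a).mpr ha, zero_mul]

omit [IsNoetherianRing A] in
theorem mem_torsion (M : ModuleCat.{u} A) (φ : ResidueField A →ₗ[A] M) (c : ResidueField A) :
    φ c ∈ DRing.torsionSub 𝔪 M :=
  ⟨1, fun a ha => by
    rw [pow_one] at ha
    rw [← map_smul, residue_smul_eq_zero ha, map_zero]⟩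

theorem nonempty_ext_equiv : ∀ (d : ℕ) (M : ModuleCat.{u} A),
    (∀ i, i < d → Subsingleton ((localCohomology 𝔪 i).obj M)) →
    Nonempty (Ext.{u} κA M d ≃ₗ[A] (ResidueField A →ₗ[A] (localCohomology 𝔪 d).obj M))
  | 0, M, _ => by
    let e1 : (ResidueField A →ₗ[A] M) ≃ₗ[A] (ResidueField A →ₗ[A] DRing.torsionSub 𝔪 M) :=
      { toFun := fun φ => φ.codRestrict _ (mem_torsion M φ)
        invFun := fun ψ => (DRing.torsionSub 𝔪 M).subtype ∘ₗ ψ
        left_inv := fun φ => rfl
        right_inv := fun ψ => rfl
        map_add' := fun _ _ => rfl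
        map_smul' := fun _ _ => rfl }
    exact ⟨(Ext.linearEquiv₀ (R := A)).trans ((ModuleCat.homLinearEquiv (S := A)).trans
      (e1.trans (LinearEquiv.congrRight (LocCoh.H0Equiv 𝔪 M).symm)))⟩
  | d + 1, M, h => by
    obtain ⟨S, hS, rfl, hJ, hJ0⟩ := Gor.LocCohCriterion.exists_hull_ses M (h 0 (by omega))
    have hJi : ∀ i, Subsingleton ((localCohomology 𝔪 i).obj S.X₂) := fun i => by
      cases i with
      | zero => exact hJ0
      | succ i => exact LocCoh.subsingleton_H_succ_of_injective S.X₂
    have hδ : Function.Bijective (LocCoh.δH (I := 𝔪) d hS) := by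
      refine ⟨(injective_iff_map_eq_zero _).mpr fun z hz => ?_, fun z => ?_⟩
      · obtain ⟨y, rfl⟩ := (LocCoh.exact₃ hS z).mp hz
        have := hJi d
        rw [Subsingleton.elim y 0, map_zero]
      · exact (LocCoh.exact₁ hS z).mp (@Subsingleton.elim _ (hJi (d + 1)) _ _)
    have hExtJ : ∀ (j : ℕ) (y : Ext.{u} κA S.X₂ j), y = 0 := fun j y => by
      cases j with
      | succ j => exact Ext.eq_zero_of_injective y
      | zero =>
        obtain ⟨φ, rfl⟩ := (Ext.mk₀_bijective _ _).2 y
        suffices hφ : φ = 0 by rw [hφ, Ext.mk₀_zero]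
        have hT := (LocCoh.H0Equiv 𝔪 S.X₂).symm.toEquiv.subsingleton
        refine ModuleCat.hom_ext (LinearMap.ext fun c => ?_)
        exact congrArg Subtype.val
          (Subsingleton.elim (⟨_, mem_torsion S.X₂ φ.hom c⟩ : DRing.torsionSub 𝔪 S.X₂) 0)
    obtain ⟨e⟩ := nonempty_ext_equiv d S.X₃ fun i hi =>
      LocCoh.subsingleton_X₃ hS (hJi i) (h (i + 1) (by omega))
    let ψ : Ext.{u} κA S.X₃ d →ₗ[A] Ext.{u} κA S.X₁ (d + 1) :=
      { toFun := fun x => x.comp hS.extClass rfl
        map_add' := fun x y => Ext.add_comp x y _ _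
        map_smul' := fun a x => Ext.smul_comp x hS.extClass rfl a }
    have hψ : Function.Bijective ψ := by
      refine ⟨(injective_iff_map_eq_zero ψ).mpr fun x hx => ?_, fun y => ?_⟩
      · obtain ⟨w, rfl⟩ := Ext.covariant_sequence_exact₃ _ hS x rfl hx
        rw [hExtJ d w, Ext.zero_comp]
      · obtain ⟨x, hx⟩ := Ext.covariant_sequence_exact₁ _ hS y (hExtJ _ _) rfl
        exact ⟨x, hx⟩
    exact ⟨(LinearEquiv.ofBijective ψ hψ).symm.trans
      (e.trans (LinearEquiv.congrRight (LinearEquiv.ofBijective _ hδ)))⟩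

end Local

/-- modules on which two rings act through each other have the same length -/
theorem length_eq_of_actions {A B : Type u} [CommRing A] [CommRing B] (V : Type u) [AddCommGroup V]
    [Module A V] [Module B V] (h1 : ∀ (a : A) (v : V), ∃ b : B, a • v = b • v)
    (h2 : ∀ (b : B) (v : V), ∃ a : A, b • v = a • v) : Module.length A V = Module.length B V := by
  have f : ∀ (N : Submodule A V) (b : B) (v : V), v ∈ N → b • v ∈ N := fun N b v hv => by
    obtain ⟨a, ha⟩ := h2 b v; rw [ha]; exact N.smul_mem a hv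
  have g : ∀ (N : Submodule B V) (a : A) (v : V), v ∈ N → a • v ∈ N := fun N a v hv => by
    obtain ⟨b, hb⟩ := h1 a v; rw [hb]; exact N.smul_mem b hv
  let o : Submodule A V ≃o Submodule B V :=
    { toFun := fun N => { toAddSubmonoid := N.toAddSubmonoid, smul_mem' := fun b v hv => f N b v hv }
      invFun := fun N => { toAddSubmonoid := N.toAddSubmonoid, smul_mem' := fun a v hv => g N a v hv }
      left_inv := fun N => rfl
      right_inv := fun N => rfl
      map_rel_iff' := Iff.rfl }
  rw [← WithBot.coe_inj, Module.coe_length, Module.coe_length]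
  exact Order.krullDim_eq_of_orderIso o

variable {k : Type u} [Field k] {R : Type u} [CommRing R] [Algebra k R] [IsNoetherianRing R]
variable (m : Ideal R) [m.IsMaximal] (hk : ∀ r : R, ∃ c : k, r - algebraMap k R c ∈ m)

include hk in
/-- the Bass number is the dimension of the socle of the first nonvanishing local cohomology -/
theorem bassNum_eq_finrank_socle {M : Type u} [AddCommGroup M] [Module R M] {n : ℕ}
    (hvan : ∀ i, i < n → Subsingleton (_root_.LocCoh.H m i M))
    {H : Type u} [AddCommGroup H] [Module R H] [Module k H] [IsScalarTower k R H]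
    (e : H ≃ₗ[R] _root_.LocCoh.H m n M) (S : Submodule k H) [Module.Finite k S]
    (hS : ∀ x, x ∈ S ↔ ∀ a ∈ m, a • x = 0) :
    _root_.GrLC.bassNum m M n = (Module.finrank k S : ℕ∞) := by
  classical
  let A := Localization.AtPrime m
  let p := m.primeCompl
  obtain ⟨Φ⟩ : Nonempty (LocalizedModule p (_root_.LocCoh.H m n M) ≃ₗ[A]
      _root_.LocCoh.H (maximalIdeal A) n (LocalizedModule p M)) := by
    rw [← Localization.AtPrime.map_eq_maximalIdeal]
    exact LocCoh.BaseChangeIso.nonempty_H_localized m p M n
  have hvanA : ∀ i, i < n →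
      Subsingleton (_root_.LocCoh.H (maximalIdeal A) i (LocalizedModule p M)) := fun i hi => by
    obtain ⟨Ψ⟩ : Nonempty (LocalizedModule p (_root_.LocCoh.H m i M) ≃ₗ[A]
        _root_.LocCoh.H (maximalIdeal A) i (LocalizedModule p M)) := by
      rw [← Localization.AtPrime.map_eq_maximalIdeal]
      exact LocCoh.BaseChangeIso.nonempty_H_localized m p M i
    have := hvan i hi
    exact Ψ.symm.toEquiv.subsingleton
  obtain ⟨ε⟩ := nonempty_ext_equiv (A := A) n (ModuleCat.of A (LocalizedModule p M)) hvanA
  let V := LocalizedModule p H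
  let e' : V ≃ₗ[A] LocalizedModule p (_root_.LocCoh.H m n M) :=
    LinearEquiv.ofBijective (LocalizedModule.map p e.toLinearMap)
      ⟨LocalizedModule.map_injective p _ e.injective, LocalizedModule.map_surjective p _ e.surjective⟩
  -- the socle of `V`
  let T : Submodule A V :=
    { carrier := {v | ∀ a ∈ maximalIdeal A, a • v = 0}
      add_mem' := fun {x y} hx hy a ha => by rw [smul_add, hx a ha, hy a ha, add_zero]
      zero_mem' := fun a _ => smul_zero a
      smul_mem' := fun c x hx a ha => by rw [smul_comm, hx a ha, smul_zero] }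
  let η : (ResidueField A →ₗ[A] V) ≃ₗ[A] T :=
    { toFun := fun φ => ⟨φ 1, fun a ha => by rw [← map_smul, residue_smul_eq_zero ha, map_zero]⟩
      invFun := fun v => Submodule.liftQ (maximalIdeal A) (LinearMap.toSpanSingleton A V v.1)
        fun a ha => by rw [LinearMap.mem_ker, LinearMap.toSpanSingleton_apply, v.2 a ha]
      left_inv := fun φ => LinearMap.ext fun c => by
        obtain ⟨c, rfl⟩ := IsLocalRing.residue_surjective c
        change c • φ 1 = φ (residue A c)
        rw [← map_smul, Algebra.smul_def, mul_one]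
        rfl
      right_inv := fun v => Subtype.ext (one_smul A v.1)
      map_add' := fun _ _ => rfl
      map_smul' := fun _ _ => rfl }
  let total : Ext.{u} (ModuleCat.of A (ResidueField A)) (ModuleCat.of A (LocalizedModule p M)) n ≃ₗ[A] T :=
    ε.trans ((LinearEquiv.congrRight (e'.trans Φ).symm).trans η)
  change Module.length A _ = _
  rw [total.length_eq]
  -- `H → V` is bijective on socles
  let L := LocalizedModule.mkLinearMap p H
  have hinv : ∀ s ∈ p, ∀ x : H, (∀ a ∈ m, a • x = 0) → ∃ c : R, (c * s) • x = x := fun s hs x hx => by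
    obtain ⟨a, ha, c, hac⟩ : ∃ a ∈ m, ∃ c : R, a + c * s = 1 := by
      have htop : m ⊔ Ideal.span {s} = ⊤ := (Ideal.IsMaximal.out (I := m)).2 _
        (SetLike.lt_iff_le_and_exists.mpr ⟨le_sup_left, s,
          Ideal.mem_sup_right (Ideal.mem_span_singleton_self s), hs⟩)
      obtain ⟨a, ha, b, hb, hab⟩ := Submodule.mem_sup.mp ((Ideal.eq_top_iff_one _).mp htop)
      obtain ⟨c, rfl⟩ := Ideal.mem_span_singleton'.mp hb
      exact ⟨a, ha, c, hab⟩
    refine ⟨c, ?_⟩
    rw [eq_sub_of_add_eq' hac, sub_smul, one_smul, hx a ha, sub_zero]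
  let S' : Submodule R H :=
    { carrier := {x | ∀ a ∈ m, a • x = 0}
      add_mem' := fun {x y} hx hy a ha => by rw [smul_add, hx a ha, hy a ha, add_zero]
      zero_mem' := fun a _ => smul_zero a
      smul_mem' := fun c x hx a ha => by rw [smul_comm, hx a ha, smul_zero] }
  have hLT : ∀ x ∈ S', L x ∈ T := fun x hx a ha => by
    obtain ⟨⟨r, s⟩, hrs⟩ := IsLocalization.surj p a
    have hr : r ∈ m := (IsLocalization.AtPrime.to_map_mem_maximal_iff A m r).mp
      (hrs ▸ Ideal.mul_mem_right _ _ ha)
    refine (IsLocalization.map_units A s).smul_eq_zero.mp ?_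
    rw [smul_smul, mul_comm, hrs, algebraMap_smul, ← map_smul, hx r hr, map_zero]
  let LS : S' →ₗ[R] T :=
    { toFun := fun x => ⟨L x.1, hLT x.1 x.2⟩
      map_add' := fun x y => Subtype.ext (map_add L x.1 y.1)
      map_smul' := fun c x => Subtype.ext (map_smul L c x.1) }
  have hLS : Function.Bijective LS := by
    refine ⟨(injective_iff_map_eq_zero LS).mpr fun x hx => ?_, fun v => ?_⟩
    · obtain ⟨s, hs⟩ := (IsLocalizedModule.eq_zero_iff p L).mp (congrArg Subtype.val hx)
      obtain ⟨c, hc⟩ := hinv s s.2 x.1 x.2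
      exact Subtype.ext (by rw [← hc, mul_smul]; exact (congrArg (c • ·) hs).trans (smul_zero c))
    · obtain ⟨⟨x, s⟩, hxs⟩ := IsLocalizedModule.surj p L v.1
      obtain ⟨t, ht⟩ : ∃ t : p, ∀ a ∈ m, a • (t : R) • x = 0 := by
        obtain ⟨G, hG⟩ := IsNoetherian.noetherian m
        have hkill : ∀ a ∈ m, L (a • x) = 0 := fun a ha => by
          rw [map_smul, ← hxs]
          change a • (s : R) • v.1 = 0
          rw [smul_smul, ← algebraMap_smul A (a * (s : R)) v.1]
          exact v.2 _ ((IsLocalization.AtPrime.to_map_mem_maximal_iff A m _).mpr (m.mul_mem_right _ ha))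
        have hex : ∀ a ∈ G, ∃ t : p, (t : R) • a • x = 0 := fun a ha =>
          (IsLocalizedModule.eq_zero_iff p L).mp (hkill a (hG ▸ Submodule.subset_span ha))
        choose f hf using hex
        refine ⟨∏ a ∈ G.attach, f a.1 a.2, fun a ha => ?_⟩
        rw [← hG] at ha
        induction ha using Submodule.span_induction with
        | mem a ha =>
          rw [smul_comm, Submonoid.coe_finsetProd, ← Finset.prod_erase_mul _ _ (Finset.mem_attach G ⟨a, ha⟩),
            mul_smul, hf a ha, smul_zero]
        | zero => exact zero_smul R _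
        | add a b _ _ ha hb => rw [add_smul, ha, hb, add_zero]
        | smul c a _ ha => rw [smul_eq_mul, mul_smul, ha, smul_zero]
      obtain ⟨c, hc⟩ := hinv ((t : R) * (s : R)) (p.mul_mem t.2 s.2) ((t : R) • x) ht
      refine ⟨⟨c • (t : R) • x, fun a ha => by rw [smul_comm, ht a ha, smul_zero]⟩, Subtype.ext ?_⟩
      change L (c • (t : R) • x) = v.1
      have hv : L ((t : R) • x) = ((t : R) * (s : R)) • v.1 := by
        rw [map_smul, ← hxs, mul_smul]; rfl
      refine (IsLocalizedModule.smul_injective L (t * s : p) ?_)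
      change ((t : R) * (s : R)) • L (c • (t : R) • x) = ((t : R) * (s : R)) • v.1
      rw [← hv, ← map_smul, smul_comm, smul_smul c, mul_comm c, ← mul_smul]
      congr 1
      rw [smul_smul] at hc
      rw [show (t : R) * s * c * t = c * ((t : R) * s) * t by ring]
      exact hc
  let SR : S ≃+ S' :=
    { toFun := fun x => ⟨x.1, (hS x.1).mp x.2⟩
      invFun := fun x => ⟨x.1, (hS x.1).mpr x.2⟩
      left_inv := fun _ => rfl
      right_inv := fun _ => rfl
      map_add' := fun _ _ => rfl }
  have hAR : Module.length A T = Module.length R T := length_eq_of_actions T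
    (fun a v => by
      obtain ⟨c, hc⟩ : ∃ c : R, a - algebraMap R A c ∈ maximalIdeal A := by
        obtain ⟨⟨r, s⟩, hrs⟩ := IsLocalization.surj p a
        obtain ⟨b, hb, c, hbc⟩ : ∃ b ∈ m, ∃ c : R, b + c * (s : R) = 1 := by
          have htop : m ⊔ Ideal.span {(s : R)} = ⊤ := (Ideal.IsMaximal.out (I := m)).2 _
            (SetLike.lt_iff_le_and_exists.mpr ⟨le_sup_left, (s : R),
              Ideal.mem_sup_right (Ideal.mem_span_singleton_self _), s.2⟩)
          obtain ⟨b, hb, d, hd, hbd⟩ := Submodule.mem_sup.mp ((Ideal.eq_top_iff_one _).mp htop)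
          obtain ⟨c, rfl⟩ := Ideal.mem_span_singleton'.mp hd
          exact ⟨b, hb, c, hbd⟩
        refine ⟨c * r, ?_⟩
        have : a - algebraMap R A (c * r) = a * algebraMap R A b := by
          rw [map_mul, ← hrs, eq_sub_of_add_eq hbc, map_sub, map_one, map_mul]; ring
        rw [this]
        exact Ideal.mul_mem_left _ _ ((IsLocalization.AtPrime.to_map_mem_maximal_iff A m b).mpr hb)
      refine ⟨c, Subtype.ext ?_⟩
      have := v.2 _ hc
      rw [sub_smul, sub_eq_zero, algebraMap_smul] at this
      exact this)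
    (fun b v => ⟨algebraMap R A b, (algebraMap_smul A b v).symm⟩)
  rw [hAR, ← (LinearEquiv.ofBijective LS hLS).length_eq]
  letI : Module k S' := Module.compHom S' (algebraMap k R)
  have hRk : Module.length R S' = Module.length k S' := length_eq_of_actions S'
    (fun r v => by
      obtain ⟨c, hc⟩ := hk r
      refine ⟨c, ?_⟩
      change r • v = algebraMap k R c • v
      rw [← sub_eq_zero, ← sub_smul]
      exact Subtype.ext (v.2 _ hc))
    (fun c v => ⟨algebraMap k R c, rfl⟩)
  let SL : S ≃ₗ[k] S' := { SR with map_smul' := fun c x => Subtype.ext (algebraMap_smul R c x.1).symm }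
  rw [hRk, ← SL.length_eq, Module.length_eq_finrank]

end Groth.Agent.GrDual.TypeSocle
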