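import Groth.Agent.GrDual.DualInduction
import Groth.Agent.GrDual.GorCriterion
import Groth.Agent.GrDual.TypeSocle
import Mathlib.LinearAlgebra.TensorProduct.Quotient

/-!
# Local cohomology and type of the canonical module of a Cohen–Macaulay graded algebra over a field

`H^i_m(C) = 0` for `i < n`, `μ_n(m, C) = 1` and `μ_n(m, R) = dim C/mC`.
-/

set_option autoImplicit false
set_option linter.unusedSectionVars false
set_option linter.style.haveILetI false
universe u

open DirectSum
open Groth.Agent.GrLC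
open scoped TensorProduct

noncomputable section

namespace Groth.Agent.GrDual

variable {k : Type u} [Field k] {R : Type u} [CommRing R] [Algebra k R] [LocCoh.IsCohenMacaulayRing R]
  {𝒜 : ℤ → AddSubgroup R} [GradedRing 𝒜]
variable (hB : Base k 𝒜) {m : HomogeneousIdeal 𝒜} (hm : _root_.GrLC.IsStarLocal 𝒜 m)
  (hm0 : ∀ i : ℤ, 0 < i → ∀ x ∈ 𝒜 i, x ∈ m.toIdeal)
variable {n : ℕ} (hn : ringKrullDim R = n) (I : _root_.GrLC.StarInjRes 𝒜 𝒜)
  [Module k (I.H m n)] [IsScalarTower k R (I.H m n)] [DirectSum.Decomposition (I.Hgr m n)]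
  [SetLike.GradedSMul 𝒜 (I.Hgr m n)]
variable {C : Type u} [AddCommGroup C] [Module R C] [Module k C] [IsScalarTower k R C]
  {𝒞 : ℤ → AddSubgroup C} [DirectSum.Decomposition 𝒞] [SetLike.GradedSMul 𝒜 𝒞] [Module.Finite R C]
variable {β : C →ₗ[k] I.H m n →ₗ[k] k} (hβ : _root_.GrSeg.IsGDual R (I.Hgr m n) 𝒞 β)

include hB hm hm0 hn hβ in
/-- local cohomology of the canonical module -/
theorem canonical_locCoh [Module k (LocCoh.H m.toIdeal n C)] [IsScalarTower k R (LocCoh.H m.toIdeal n C)] :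
    (∀ i, i < n → Subsingleton (LocCoh.H m.toIdeal i C)) ∧
      ∀ (N : ℕ) (S : Submodule k (LocCoh.H m.toIdeal n C)),
        (∀ x, x ∈ S ↔ ∀ a ∈ m.toIdeal ^ N, a • x = 0) →
        Module.Finite k S ∧
          Module.finrank k S = Module.finrank k (R ⧸ (m.toIdeal ^ N • ⊤ : Submodule R R)) := by
  letI : Module k (LocCoh.H m.toIdeal n R) := Module.compHom _ (algebraMap k R)
  haveI : IsScalarTower k R (LocCoh.H m.toIdeal n R) := IsScalarTower.of_algebraMap_smul fun _ _ => rfl
  let e := Hequiv I m n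
  let ek : LocCoh.H m.toIdeal n R →ₗ[k] I.H m n := e.symm.toLinearMap.restrictScalars k
  letI := LC.dec (ℳ := 𝒜) (a := m) (i := n)
  have hgr : ∀ (j : ℤ) (h : LocCoh.H m.toIdeal n R), h ∈ LC.gr 𝒜 m n j ↔ e.symm h ∈ I.Hgr m n j := by
    intro j h
    rw [LC.gr_eq m n I]
    constructor
    · rintro ⟨y, hy, rfl⟩
      change e.symm (e y) ∈ _
      rwa [LinearEquiv.symm_apply_apply]
    · exact fun hh => ⟨e.symm h, hh, e.apply_symm_apply h⟩
  have hβ' : _root_.GrSeg.IsGDual R (LC.gr 𝒜 m n) 𝒞 (LinearMap.compl₂ β ek) :=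
    { map_smul := fun r d z => by
        change β (r • d) (e.symm z) = β d (e.symm (r • z))
        rw [hβ.map_smul, e.symm.map_smul]
      vanish := fun g d hd j hj z hz => hβ.vanish g d hd j hj _ ((hgr j z).1 hz)
      eq_zero := fun g d hd h => hβ.eq_zero g d hd fun x hx => by
        have h' := h (e x) ((hgr _ _).2 (by rwa [LinearEquiv.symm_apply_apply]))
        change β d (e.symm (e x)) = 0 at h'
        rwa [LinearEquiv.symm_apply_apply] at h'
      exists_eq := fun g l => by
        obtain ⟨d, hd, hdx⟩ := hβ.exists_eq g (l ∘ₗ e.toLinearMap.restrictScalars k)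
        refine ⟨d, hd, fun z hz => ?_⟩
        change β d (e.symm z) = l z
        rw [hdx _ ((hgr _ _).1 hz)]
        change l (e (e.symm z)) = l z
        rw [e.apply_symm_apply] }
  have hvanR : ∀ i, i < n → Subsingleton (LocCoh.H m.toIdeal i R) := fun i hi =>
    GrLC.subsingleton_H_of_ne_dim hB.pos m hm hn (Nat.ne_of_lt hi)
  have hdim : Module.supportDim R R ≤ (n : WithBot ℕ∞) := by
    rw [Module.supportDim_self_eq_ringKrullDim, hn]
  obtain ⟨h1, h2⟩ := dual_main hB hm hm0 n R 𝒜 hvanR hdim C 𝒞 (LinearMap.compl₂ β ek) hβ'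
  exact ⟨h1, fun N S hS => h2 N S hS⟩

include hB hm hm0 in
/-- `k = R/m` -/
theorem finrank_quot_self : Module.finrank k (R ⧸ m.toIdeal) = 1 := by
  have hk := hk_of_base hB hm hm0
  haveI : Nontrivial (R ⧸ m.toIdeal) := Ideal.Quotient.nontrivial_iff.2 (ne_top_of_starLocal hm)
  refine finrank_eq_one (Ideal.Quotient.mk m.toIdeal 1) one_ne_zero fun x => ?_
  obtain ⟨r, rfl⟩ := Ideal.Quotient.mk_surjective x
  obtain ⟨c, hc⟩ := hk r
  refine ⟨c, ?_⟩
  rw [Algebra.smul_def, map_one, mul_one, IsScalarTower.algebraMap_apply k R (R ⧸ m.toIdeal),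
    Ideal.Quotient.algebraMap_eq]
  exact (Ideal.Quotient.eq.2 hc).symm

include hB hm hm0 hn hβ in
/-- the type of the canonical module is one -/
theorem bassNum_canonical [m.toIdeal.IsMaximal] : _root_.GrLC.bassNum m.toIdeal C n = 1 := by
  letI : Module k (LocCoh.H m.toIdeal n C) := Module.compHom _ (algebraMap k R)
  haveI : IsScalarTower k R (LocCoh.H m.toIdeal n C) := IsScalarTower.of_algebraMap_smul fun _ _ => rfl
  obtain ⟨hvan, hsoc⟩ := canonical_locCoh hB hm hm0 hn I hβ
  let S : Submodule k (LocCoh.H m.toIdeal n C) :=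
    { carrier := {x | ∀ a ∈ m.toIdeal, a • x = 0}
      add_mem' := fun {x y} hx hy a ha => by rw [smul_add, hx a ha, hy a ha, add_zero]
      zero_mem' := fun a _ => smul_zero a
      smul_mem' := fun c x hx a ha => by rw [smul_comm, hx a ha, smul_zero] }
  obtain ⟨hf, hr⟩ := hsoc 1 S fun x => by rw [pow_one]; rfl
  rw [TypeSocle.bassNum_eq_finrank_socle m.toIdeal (hk_of_base hB hm hm0) hvan (LinearEquiv.refl R _) S
    (fun x => Iff.rfl), hr]
  have he : (m.toIdeal ^ 1 • ⊤ : Submodule R R) = m.toIdeal := by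
    rw [pow_one, smul_eq_mul, Ideal.mul_top]
  let q := ((Submodule.quotEquivOfEq _ _ he).restrictScalars k)
  rw [q.finrank_eq, finrank_quot_self hB hm hm0, Nat.cast_one]

include hB hm hm0 hn hβ in
/-- the type of `R` is the number of generators of the canonical module -/
theorem bassNum_self [m.toIdeal.IsMaximal] : _root_.GrLC.bassNum m.toIdeal R n =
    (Module.finrank (R ⧸ m.toIdeal) ((R ⧸ m.toIdeal) ⊗[R] C) : ℕ∞) := by
  have hk := hk_of_base hB hm hm0
  have hvanR : ∀ i, i < n → Subsingleton (LocCoh.H m.toIdeal i R) := fun i hi =>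
    GrLC.subsingleton_H_of_ne_dim hB.pos m hm hn (Nat.ne_of_lt hi)
  haveI : Module.Finite k (C ⧸ (m.toIdeal • ⊤ : Submodule R C)) :=
    finite_of_killed m.toIdeal hk 1 _ fun r hr w => by
      rw [pow_one] at hr
      obtain ⟨w, rfl⟩ := Submodule.Quotient.mk_surjective _ w
      rw [← Submodule.Quotient.mk_smul, Submodule.Quotient.mk_eq_zero]
      exact Submodule.smul_mem_smul hr Submodule.mem_top
  let S : Submodule k (I.H m n) :=
    { carrier := {x | ∀ a ∈ m.toIdeal, a • x = 0}
      add_mem' := fun {x y} hx hy a ha => by rw [smul_add, hx a ha, hy a ha, add_zero]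
      zero_mem' := fun a _ => smul_zero a
      smul_mem' := fun c x hx a ha => by rw [smul_comm, hx a ha, smul_zero] }
  obtain ⟨hf, hr⟩ := exists_dual_quot hB hβ m.isHomogeneous S fun x => Iff.rfl
  rw [TypeSocle.bassNum_eq_finrank_socle m.toIdeal hk hvanR (Hequiv I m n) S (fun x => Iff.rfl), hr]
  haveI : Module.Free (R ⧸ m.toIdeal) ((R ⧸ m.toIdeal) ⊗[R] C) := by
    letI := Ideal.Quotient.field m.toIdeal
    infer_instance
  have h1 := Module.finrank_mul_finrank k (R ⧸ m.toIdeal) ((R ⧸ m.toIdeal) ⊗[R] C)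
  rw [finrank_quot_self hB hm hm0, one_mul] at h1
  rw [h1, ((TensorProduct.quotTensorEquivQuotSMul C m.toIdeal).restrictScalars k).finrank_eq]

end Groth.Agent.GrDual
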