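import Groth.Agent.GrLC.Summand
import Groth.Agent.GrLC.Inj
import Mathlib.Algebra.Module.LocalizedModule.Basic
import Mathlib.RingTheory.Localization.Module
import Mathlib.RingTheory.Localization.AtPrime.Basic
import Mathlib.RingTheory.Ideal.Operations

/-!
# Graded `m`-torsion modules over a *local ring and their localisation at `m`

Homogeneous elements outside `m` act bijectively, localisation is injective, and *injectivity follows from
injectivity of the localisation.
-/

set_option autoImplicit false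
set_option linter.unusedSectionVars false
universe u

open DirectSum

noncomputable section

namespace Groth.Agent.GrDual.TorsLoc

open _root_.Groth.Agent.GrLC

/-- an injective module over a localisation is injective -/
theorem injective_restrict {R : Type u} [CommRing R] (S : Submonoid R) (V : Type u) [AddCommGroup V]
    [Module R V] [Module (Localization S) V] [IsScalarTower R (Localization S) V]
    (hV : Module.Injective (Localization S) V) : Module.Injective R V := by
  refine ⟨fun A B _ _ _ _ f hf g => ?_⟩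
  have hu : ∀ s : S, IsUnit (algebraMap R (Module.End R V) s) := fun s => by
    obtain ⟨u, hu⟩ := IsLocalization.map_units (Localization S) s
    refine (Module.End.isUnit_iff _).mpr ⟨fun a b hab => ?_, fun b => ⟨(u⁻¹ : (Localization S)ˣ).1 • b, ?_⟩⟩
    · have hab' : (u : Localization S) • a = (u : Localization S) • b := by
        rw [hu, algebraMap_smul, algebraMap_smul]; exact hab
      have := congrArg ((u⁻¹ : (Localization S)ˣ).1 • ·) hab'
      simpa [smul_smul] using this
    · rw [Module.algebraMap_end_apply]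
      rw [← algebraMap_smul (Localization S) (s : R), ← hu, smul_smul, u.mul_inv, one_smul]
  let fm : LocalizedModule S A →ₗ[Localization S] LocalizedModule S B := LocalizedModule.map S f
  let gm : LocalizedModule S A →ₗ[Localization S] V :=
    (IsLocalizedModule.lift S (LocalizedModule.mkLinearMap S A) g hu).extendScalarsOfIsLocalization S _
  obtain ⟨h, hh⟩ := hV.out fm (LocalizedModule.map_injective S f hf) gm
  refine ⟨h.restrictScalars R ∘ₗ LocalizedModule.mkLinearMap S B, fun a => ?_⟩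
  have h1 : fm (LocalizedModule.mkLinearMap S A a) = LocalizedModule.mkLinearMap S B (f a) := by
    simp [fm]
  have h2 := hh (LocalizedModule.mkLinearMap S A a)
  rw [h1] at h2
  exact h2.trans (DFunLike.congr_fun (IsLocalizedModule.lift_comp S _ g hu) a)

variable {ι : Type} [AddCommGroup ι] [DecidableEq ι]
variable {R : Type u} [CommRing R] [IsNoetherianRing R] {𝒜 : ι → AddSubgroup R} [GradedRing 𝒜]
variable {m : HomogeneousIdeal 𝒜} (hm : _root_.GrLC.IsStarLocal 𝒜 m)

include hm in
theorem starLocal_le (J : Ideal R) (hJ : J.IsHomogeneous 𝒜) (hne : J ≠ ⊤) : J ≤ m.toIdeal := by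
  obtain ⟨K, ⟨hJK, hK⟩, hmax⟩ := WellFounded.has_min
    (InvImage.wf (fun K : HomogeneousIdeal 𝒜 => K.toIdeal)
      (wellFounded_gt (α := Ideal R))) {K | J ≤ K.toIdeal ∧ K.toIdeal ≠ ⊤} ⟨⟨J, hJ⟩, le_rfl, hne⟩
  have hco : IsCoatom K := by
    refine ⟨fun h => hK (by rw [h]; rfl), fun L hL => ?_⟩
    by_contra hc
    refine hmax L ⟨hJK.trans hL.le, fun h => hc (HomogeneousIdeal.toIdeal_injective h)⟩ ?_
    exact lt_of_le_of_ne hL.le fun e => hL.ne (HomogeneousIdeal.toIdeal_injective e)
  exact hm.2 K hco ▸ hJK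

include hm in
theorem exists_eq_one {h : ι} {u : R} (hu : u ∈ 𝒜 h) (hum : u ∉ m.toIdeal) :
    ∃ a ∈ m.toIdeal, ∃ r : R, a + r * u = 1 := by
  have hhom : (m.toIdeal ⊔ Ideal.span {u}).IsHomogeneous 𝒜 :=
    m.isHomogeneous.sup (Ideal.homogeneous_span 𝒜 _ fun x hx => ⟨h, by rwa [Set.mem_singleton_iff.mp hx]⟩)
  have htop : m.toIdeal ⊔ Ideal.span {u} = ⊤ := by
    by_contra hne
    exact hum (starLocal_le hm _ hhom hne (Ideal.mem_sup_right (Ideal.mem_span_singleton_self u)))
  obtain ⟨a, ha, b, hb, hab⟩ := Submodule.mem_sup.mp ((Ideal.eq_top_iff_one _).mp htop)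
  obtain ⟨r, rfl⟩ := Ideal.mem_span_singleton'.mp hb
  exact ⟨a, ha, r, hab⟩

include hm in
theorem toIdeal_ne_top : m.toIdeal ≠ ⊤ := fun h => hm.1.1 (HomogeneousIdeal.toIdeal_injective h)

variable [Module.Free ℤ ι] [Module.Finite ℤ ι]

include hm in
theorem isPrime : m.toIdeal.IsPrime := by
  refine isPrime_of_homogeneous m.isHomogeneous (toIdeal_ne_top hm) fun i j x y hx hy hxy => ?_
  by_contra hc
  push Not at hc
  obtain ⟨a, ha, r, har⟩ := exists_eq_one hm hx hc.1
  refine hc.2 ?_
  rw [← one_mul y, ← har, add_mul, mul_assoc]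
  exact add_mem (Ideal.mul_mem_right _ _ ha) (Ideal.mul_mem_left _ _ hxy)

variable {X : Type u} [AddCommGroup X] [Module R X] {𝒳 : ι → AddSubgroup X} [DirectSum.Decomposition 𝒳]
  [SetLike.GradedSMul 𝒜 𝒳]
variable (htor : ∀ x : X, ∃ k : ℕ, ∀ r ∈ m.toIdeal ^ k, r • x = 0)

include hm htor in
/-- homogeneous elements outside `m` act bijectively -/
theorem bijective_smul {h : ι} {u : R} (hu : u ∈ 𝒜 h) (hum : u ∉ m.toIdeal) :
    Function.Bijective fun x : X => u • x := by
  obtain ⟨a, ha, r, har⟩ := exists_eq_one hm hu hum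
  have key : ∀ x : X, ∃ s : R, (s * u) • x = x := fun x => by
    obtain ⟨k, hk⟩ := htor x
    refine ⟨r * ∑ i ∈ Finset.range k, a ^ i, ?_⟩
    have h1 : (r * ∑ i ∈ Finset.range k, a ^ i) * u = 1 - a ^ k := by
      rw [← geom_sum_mul_neg a k, ← har]; ring
    rw [h1, sub_smul, one_smul, hk _ (Ideal.pow_mem_pow ha k), sub_zero]
  refine ⟨fun x y hxy => ?_, fun x => ?_⟩
  · obtain ⟨s, hs⟩ := key (x - y)
    rw [mul_smul, smul_sub, show u • x = u • y from hxy, sub_self, smul_zero] at hs
    exact sub_eq_zero.mp hs.symm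
  · obtain ⟨s, hs⟩ := key x
    exact ⟨s • x, by simp only [smul_smul, mul_comm u s]; exact hs⟩

include hm htor 𝒳 in
/-- elements outside `m` act injectively -/
theorem eq_zero_of_smul {s : R} (hs : s ∉ m.toIdeal) {x : X} (h0 : s • x = 0) : x = 0 := by
  obtain ⟨o, ho, hd⟩ := exists_order ι
  subst hd
  letI := o
  haveI := ho
  classical
  obtain ⟨k, hk⟩ := htor x
  induction k generalizing x with
  | zero => simpa using hk 1 (by simp)
  | succ k ih =>
    have hm0 : ∀ a ∈ m.toIdeal, a • x = 0 := fun a ha => ih (x := a • x) (by rw [smul_comm, h0, smul_zero])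
      fun r hr => by rw [smul_smul]; exact hk _ (pow_succ m.toIdeal k ▸ Ideal.mul_mem_mul hr ha)
    by_contra hx
    let T := (degs 𝒜 s).filter fun i => cpt 𝒜 i s ∉ m.toIdeal
    have hrest : ∀ i ∈ degs 𝒜 s, i ∉ T → cpt 𝒜 i s • x = 0 := fun i hi hiT => hm0 _ <| by
      by_contra h
      exact hiT (Finset.mem_filter.mpr ⟨hi, h⟩)
    have hsum : ∑ i ∈ T, cpt 𝒜 i s • x = 0 := by
      rw [Finset.sum_subset (Finset.filter_subset _ _) hrest, ← Finset.sum_smul, sum_cpt, h0]
    have hT : T.Nonempty := by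
      by_contra h
      rw [Finset.not_nonempty_iff_eq_empty, Finset.filter_eq_empty_iff] at h
      refine hs ?_
      rw [← sum_cpt 𝒜 s]
      exact sum_mem fun i hi => not_not.mp (h hi)
    have hD : (degs 𝒳 x).Nonempty := by
      by_contra h
      rw [Finset.not_nonempty_iff_eq_empty] at h
      exact hx (by rw [← sum_cpt 𝒳 x, h, Finset.sum_empty])
    have hg := Finset.max'_mem _ hD
    have hh := Finset.max'_mem _ hT
    set g := (degs 𝒳 x).max' hD
    set h := T.max' hT
    have h1 := congrArg (cpt 𝒳 (h + g)) hsum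
    rw [map_sum, map_zero, Finset.sum_eq_single h] at h1
    · rw [cpt_smul_left (𝒜 := 𝒜) 𝒳 (cpt_mem 𝒜 h s)] at h1
      exact (mem_degs _).mp hg ((bijective_smul hm htor (cpt_mem 𝒜 h s) (Finset.mem_filter.mp hh).2).1
        (h1.trans (smul_zero _).symm))
    · intro i hi hne
      have hlt : i < h := lt_of_le_of_ne (Finset.le_max' _ i hi) hne
      rw [show h + g = i + (h + g - i) by abel, cpt_smul_left (𝒜 := 𝒜) 𝒳 (cpt_mem 𝒜 i s)]
      have : cpt 𝒳 (h + g - i) x = 0 := by
        by_contra hne'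
        have := Finset.le_max' _ _ ((mem_degs 𝒳).mpr hne')
        have hlt' : g < h + g - i := lt_sub_iff_add_lt.mpr (by
          have := add_lt_add_left hlt g; rwa [add_comm i g] at this)
        exact absurd this (not_le.mpr hlt')
      rw [this, smul_zero]
    · exact fun h' => absurd hh h'

include hm htor 𝒳 in
theorem injective_mkLinearMap [m.toIdeal.IsPrime] :
    Function.Injective (LocalizedModule.mkLinearMap m.toIdeal.primeCompl X) := by
  refine (injective_iff_map_eq_zero _).mpr fun x hx => ?_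
  obtain ⟨s, hs⟩ := (IsLocalizedModule.eq_zero_iff m.toIdeal.primeCompl
    (LocalizedModule.mkLinearMap m.toIdeal.primeCompl X)).mp hx
  exact eq_zero_of_smul (𝒳 := 𝒳) hm htor s.2 hs

include hm htor in
/-- an `m`-torsion graded module with injective localisation is *injective -/
theorem starInj_of_injective [m.toIdeal.IsPrime]
    (hV : Module.Injective (Localization.AtPrime m.toIdeal) (LocalizedModule m.toIdeal.primeCompl X)) :
    _root_.GrLC.IsStarInj 𝒜 𝒳 := by
  set L := LocalizedModule.mkLinearMap m.toIdeal.primeCompl X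
  have hVR : Module.Injective R (LocalizedModule m.toIdeal.primeCompl X) := injective_restrict _ _ hV
  refine starInj_of_forall_ess (𝒜 := 𝒜) (ℳ := 𝒳) fun N f hf => ?_
  obtain ⟨G, hG⟩ := hVR.out f hf.injective L
  intro y
  induction y using homogeneous_induction N.gr with
  | zero => exact ⟨0, map_zero f⟩
  | add a b ha hb =>
    obtain ⟨p, rfl⟩ := ha
    obtain ⟨q, rfl⟩ := hb
    exact ⟨p + q, map_add f p q⟩
  | hom j y hy =>
    obtain ⟨⟨x, s⟩, hxs⟩ := IsLocalizedModule.surj m.toIdeal.primeCompl L (G y)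
    obtain ⟨h, hh⟩ : ∃ h, cpt 𝒜 h (s : R) ∉ m.toIdeal := by
      by_contra hc
      push Not at hc
      exact s.2 (by rw [← sum_cpt 𝒜 (s : R)]; exact sum_mem fun i _ => hc i)
    obtain ⟨w, hw⟩ := (bijective_smul hm htor (cpt_mem 𝒜 h (s : R)) hh).2 (cpt 𝒳 (h + j) x)
    have hwdeg : cpt 𝒳 j w = w := (bijective_smul hm htor (cpt_mem 𝒜 h (s : R)) hh).1 <| by
      change cpt 𝒜 h (s : R) • cpt 𝒳 j w = cpt 𝒜 h (s : R) • w
      rw [← cpt_smul_left (𝒜 := 𝒜) 𝒳 (cpt_mem 𝒜 h (s : R))]
      have hw' : cpt 𝒜 h (s : R) • w = cpt 𝒳 (h + j) x := hw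
      rw [hw', cpt_of_mem 𝒳 (cpt_mem 𝒳 _ x)]
    have hfw : f w ∈ N.gr j := hf.grHom j w (hwdeg ▸ cpt_mem 𝒳 j w)
    refine ⟨w, ?_⟩
    by_contra hne
    set y' := y - f w
    have hy' : y' ∈ N.gr j := sub_mem hy hfw
    -- multiples of `y'` in the range vanish
    have key : ∀ e, ∀ r ∈ 𝒜 e, r • y' ∈ LinearMap.range f → r • y' = 0 := fun e r hr hry => by
      obtain ⟨z, hz⟩ : r • y ∈ LinearMap.range f := by
        have := add_mem hry (LinearMap.mem_range_self f (r • w))
        rwa [smul_sub, map_smul, sub_add_cancel] at this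
      have hzdeg : cpt 𝒳 (e + j) z = z := hf.injective <| by
        have hm' := map_cpt hf.grHom (e + j) z
        rw [hz] at hm'
        rw [hz, ← cpt_of_mem N.gr (smul_mem_gr (ℳ := N.gr) hr hy)]
        exact hm'.symm ▸ rfl
      have h1 : (s : R) • z = r • x := injective_mkLinearMap (𝒳 := 𝒳) hm htor <| by
        change L ((s : R) • z) = L (r • x)
        rw [map_smul, map_smul, ← hG, hz, map_smul, smul_comm]
        exact congrArg (r • ·) hxs
      have h2 := congrArg (cpt 𝒳 (e + (h + j))) h1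
      rw [cpt_smul_left (𝒜 := 𝒜) 𝒳 hr, cpt_smul_right' (𝒜 := 𝒜) 𝒳 (hzdeg ▸ cpt_mem 𝒳 (e + j) z),
        show e + (h + j) - (e + j) = h by abel] at h2
      have h3 : z = r • w := (bijective_smul hm htor (cpt_mem 𝒜 h (s : R)) hh).1 <| by
        change cpt 𝒜 h (s : R) • z = cpt 𝒜 h (s : R) • r • w
        rw [h2, smul_comm]
        exact congrArg (r • ·) hw.symm
      change r • (y - f w) = 0
      rw [smul_sub, ← hz, h3, map_smul, sub_self]
    have hbot : (Submodule.span R {y'}) ⊓ LinearMap.range f = ⊥ := by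
      refine eq_bot_of_homogeneous N.gr (isHomogeneous_inf N.gr (isHomogeneous_span (𝒜 := 𝒜) N.gr
        fun z hz => ⟨j, by rwa [Set.mem_singleton_iff.mp hz]⟩) (isHomogeneous_range (𝒩 := N.gr) 𝒳 hf.grHom)) ?_
      rintro i z hz ⟨hzs, hzr⟩
      obtain ⟨r, rfl⟩ := Submodule.mem_span_singleton.mp hzs
      rw [← cpt_of_mem N.gr hz, cpt_smul_right' (𝒜 := 𝒜) N.gr hy'] at hzr ⊢
      exact key _ _ (cpt_mem 𝒜 _ r) hzr
    refine hf.essential _ (isHomogeneous_span (𝒜 := 𝒜) N.gr
      fun z hz => ⟨j, by rwa [Set.mem_singleton_iff.mp hz]⟩) ?_ hbot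
    rw [Ne, Submodule.span_singleton_eq_bot]
    exact fun h0 => hne (sub_eq_zero.mp h0).symm

end Groth.Agent.GrDual.TorsLoc
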