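import Groth.Agent.GrDual.Pairing
import Groth.Agent.GrLC.Pieces
import Mathlib.RingTheory.Ideal.Quotient.Basic

/-!
# *Canonical modules of positively graded algebras over a field
-/

set_option autoImplicit false
set_option linter.unusedSectionVars false
set_option linter.style.haveILetI false
universe u

open DirectSum
open Groth.Agent.GrLC

namespace Groth.Agent.GrDual

section Deg0

variable {R : Type u} [CommRing R] {σ : Type u} [SetLike σ R] [AddSubgroupClass σ R] {𝒜 : ℤ → σ}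
  [GradedRing 𝒜]

/-- The field structure of `R₀`. -/
@[instance_reducible]
noncomputable def deg0Field (h0 : IsField (_root_.GrLC.deg0 𝒜)) : Field (_root_.GrLC.deg0 𝒜) := h0.toField

theorem base_deg0 (hpos : ∀ n : ℤ, n < 0 → ∀ x ∈ 𝒜 n, x = 0) (h0 : IsField (_root_.GrLC.deg0 𝒜)) :
    letI := deg0Field h0
    Base (_root_.GrLC.deg0 𝒜) 𝒜 :=
  letI := deg0Field h0
  { pos := hpos
    alg_mem := fun c => c.2
    exists_alg := fun x hx => ⟨⟨x, hx⟩, rfl⟩ }

end Deg0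

variable {k : Type u} [Field k] {R : Type u} [CommRing R] [Algebra k R] [IsNoetherianRing R]
  {σ : Type u} [SetLike σ R] [AddSubgroupClass σ R] {𝒜 : ℤ → σ} [GradedRing 𝒜]
variable (hB : Base k 𝒜)
variable {E : Type u} [AddCommGroup E] [Module R E] {τE : Type u} [SetLike τE E] [AddSubgroupClass τE E]
  {𝓔 : ℤ → τE} [DirectSum.Decomposition 𝓔] [SetLike.GradedSMul 𝒜 𝓔]
variable {m : HomogeneousIdeal 𝒜} {e : (R ⧸ m.toIdeal) →ₗ[R] E}
  (hm0 : ∀ i : ℤ, 0 < i → ∀ x ∈ 𝒜 i, x ∈ m.toIdeal) (hm1 : m.toIdeal ≠ ⊤)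
  (he : _root_.GrLC.IsStarInjHull 𝒜 (_root_.GrLC.quotGr 𝒜 m) 𝓔 e)
variable {C : Type u} [AddCommGroup C] [Module R C] {τC : Type u} [SetLike τC C] [AddSubgroupClass τC C]
  {𝒞 : ℤ → τC} [DirectSum.Decomposition 𝒞] [SetLike.GradedSMul 𝒜 𝒞]
variable {n : ℕ} {I : _root_.GrLC.StarInjRes 𝒜 𝒜}

attribute [local instance] Groth.Agent.GrLC.Hdec

include hB hm0 hm1 he in
/-- A *canonical module pairs perfectly with top local cohomology. -/
theorem exists_pairing [Module k C] [IsScalarTower k R C] [Module k (I.H m n)]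
    [IsScalarTower k R (I.H m n)] [DirectSum.Decomposition (I.Hgr m n)]
    (hC : _root_.GrLC.IsStarCanonical 𝒜 𝒞 𝓔 m n I) :
    ∃ β : C →ₗ[k] I.H m n →ₗ[k] k, _root_.GrSeg.IsGDual R (I.Hgr m n) 𝒞 β := by
  letI : Module k E := Module.compHom E (algebraMap k R)
  haveI : IsScalarTower k R E := IsScalarTower.of_algebraMap_smul fun _ _ => rfl
  haveI := Hgr_gradedSMul I m n
  obtain ⟨hfin, φ, hφ⟩ := hC
  haveI := hfin
  obtain ⟨π, e₁, hπ⟩ := exists_coord hB hm0 hm1 he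
  exact exists_gdual hB (I.Hgr m n) 𝒞 hm0 hπ φ hφ

include hB hm0 hm1 he in
/-- A finite module pairing perfectly with top local cohomology is *canonical. -/
theorem isStarCanonical_of_pairing [Module k C] [IsScalarTower k R C] [Module.Finite R C]
    [Module k (I.H m n)] [IsScalarTower k R (I.H m n)] [DirectSum.Decomposition (I.Hgr m n)]
    {β : C →ₗ[k] I.H m n →ₗ[k] k} (hD : _root_.GrSeg.IsGDual R (I.Hgr m n) 𝒞 β) :
    _root_.GrLC.IsStarCanonical 𝒜 𝒞 𝓔 m n I := by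
  letI : Module k E := Module.compHom E (algebraMap k R)
  haveI : IsScalarTower k R E := IsScalarTower.of_algebraMap_smul fun _ _ => rfl
  haveI := Hgr_gradedSMul I m n
  obtain ⟨π, e₁, hπ⟩ := exists_coord hB hm0 hm1 he
  obtain ⟨φ, hφ⟩ := exists_equiv_of_gdual hB (I.Hgr m n) 𝒞 hm0 hπ hD
  exact ⟨inferInstance, φ, hφ⟩

/-- The pieces of `H` as `R₀`-modules. -/
theorem comp_Hgr_eq (i : ℕ) (j : ℤ) [SetLike.GradedSMul 𝒜 (I.Hgr m i)] :
    _root_.GrLC.comp 𝒜 (I.Hgr m i) j = I.Hcomp m i j := rfl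

include hB hm0 hm1 he in
/-- `dim C_j = dim H^n(R)_{-j}`. -/
theorem finrank_canonical [Nontrivial R] (hC : _root_.GrLC.IsStarCanonical 𝒜 𝒞 𝓔 m n I) (j : ℤ) :
    Module.Finite (_root_.GrLC.deg0 𝒜) (I.Hcomp m n (-j)) ∧
    Module.finrank (_root_.GrLC.deg0 𝒜) (_root_.GrLC.comp 𝒜 𝒞 j) =
      Module.finrank (_root_.GrLC.deg0 𝒜) (I.Hcomp m n (-j)) := by
  letI : Module k C := Module.compHom C (algebraMap k R)
  haveI : IsScalarTower k R C := IsScalarTower.of_algebraMap_smul fun _ _ => rfl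
  letI : Module k (I.H m n) := Module.compHom (I.H m n) (algebraMap k R)
  haveI : IsScalarTower k R (I.H m n) := IsScalarTower.of_algebraMap_smul fun _ _ => rfl
  haveI := Hgr_gradedSMul I m n
  obtain ⟨β, hβ⟩ := exists_pairing (k := k) hB hm0 hm1 he hC
  haveI := hC.1
  obtain ⟨hf, hr⟩ := finrank_eq hB (I.Hgr m n) 𝒞 hβ j
  have h2 : Module.finrank (_root_.GrLC.deg0 𝒜) (I.Hcomp m n (-j)) =
      Module.finrank k (pieceK hB (I.Hgr m n) (-j)) := finrank_comp_eq hB (I.Hgr m n) (-j)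
  refine ⟨?_, by rw [h2, finrank_comp_eq hB 𝒞 j, hr]⟩
  haveI := hf
  obtain ⟨G, hG⟩ := hf.fg_top
  classical
  let f : pieceK hB (I.Hgr m n) (-j) → I.Hcomp m n (-j) := fun x => ⟨x.1, x.2⟩
  refine ⟨G.image f, eq_top_iff.2 fun y _ => ?_⟩
  suffices h : ∀ x ∈ Submodule.span k (G : Set (pieceK hB (I.Hgr m n) (-j))),
      f x ∈ Submodule.span (_root_.GrLC.deg0 𝒜) ((G.image f : Finset (I.Hcomp m n (-j))) :
        Set (I.Hcomp m n (-j))) from h ⟨y.1, y.2⟩ (by rw [hG]; trivial)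
  intro x hx
  induction hx using Submodule.span_induction with
  | mem y hy => exact Submodule.subset_span (Finset.mem_coe.2 (Finset.mem_image_of_mem _ hy))
  | zero => exact zero_mem _
  | add a b _ _ ha hb => exact add_mem ha hb
  | smul c a _ ha =>
    have h' := Submodule.smul_mem _ (toDeg0 hB c) ha
    convert h' using 1
    exact Subtype.ext (algebraMap_smul R c (a : I.H m n)).symm

end Groth.Agent.GrDual

namespace Groth.Agent.GrDual

open Groth.Agent.GrLC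

/-- A finite end is attained. -/
theorem ne_bot_of_endDeg_eq {M : Type u} [AddCommGroup M] {ℳ : ℤ → AddSubgroup M} {a : ℤ}
    (h : _root_.GrLC.endDeg ℳ = ((a : WithTop ℤ) : WithBot (WithTop ℤ))) : ℳ a ≠ ⊥ := by
  intro hbot
  have hle : _root_.GrLC.endDeg ℳ ≤ (((a - 1 : ℤ) : WithTop ℤ) : WithBot (WithTop ℤ)) := by
    refine iSup₂_le fun n hn => ?_
    have h1 : ((n : WithTop ℤ) : WithBot (WithTop ℤ)) ≤ _root_.GrLC.endDeg ℳ :=
      le_iSup₂_of_le n hn le_rfl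
    rw [h, WithBot.coe_le_coe, WithTop.coe_le_coe] at h1
    rw [WithBot.coe_le_coe, WithTop.coe_le_coe]
    have : n ≠ a := fun e => hn (e ▸ hbot)
    omega
  rw [h, WithBot.coe_le_coe, WithTop.coe_le_coe] at hle
  omega

theorem eq_bot_of_endDeg_lt {M : Type u} [AddCommGroup M] {ℳ : ℤ → AddSubgroup M} {a n : ℤ}
    (h : _root_.GrLC.endDeg ℳ = ((a : WithTop ℤ) : WithBot (WithTop ℤ))) (hn : a < n) : ℳ n = ⊥ := by
  by_contra hne
  have h1 : ((n : WithTop ℤ) : WithBot (WithTop ℤ)) ≤ _root_.GrLC.endDeg ℳ :=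
    le_iSup₂_of_le n hne le_rfl
  rw [h, WithBot.coe_le_coe, WithTop.coe_le_coe] at h1
  omega

theorem irr_of_span {R : Type u} [CommRing R] {σ : Type u} [SetLike σ R] [AddSubgroupClass σ R]
    {𝒜 : ℤ → σ} [GradedRing 𝒜] {m : HomogeneousIdeal 𝒜}
    (hmsp : m.toIdeal = Ideal.span (⋃ n ∈ Set.Ioi (0 : ℤ), (𝒜 n : Set R))) :
    ∀ i : ℤ, 0 < i → ∀ x ∈ 𝒜 i, x ∈ m.toIdeal := fun i hi x hx =>
  hmsp ▸ Ideal.subset_span (Set.mem_iUnion₂.2 ⟨i, hi, hx⟩)

theorem ne_top_of_starLocal {R : Type u} [CommRing R] {σ : Type u} [SetLike σ R] [AddSubgroupClass σ R]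
    {𝒜 : ℤ → σ} [GradedRing 𝒜] {m : HomogeneousIdeal 𝒜} (hm : _root_.GrLC.IsStarLocal 𝒜 m) :
    m.toIdeal ≠ ⊤ := fun h => hm.1.1 (HomogeneousIdeal.toIdeal_injective h)

end Groth.Agent.GrDual
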