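import Groth.Agent.GrBass.Shift
import Groth.Agent.GrLC.Core
import Groth.Agent.Gor.InjDim
import Groth.Agent.Gor.Ring
import Groth.Prelude.Def_CAlg

/-!
# A graded ring is Gorenstein as soon as it is Gorenstein at its graded primes
-/

set_option autoImplicit false
universe u

open CategoryTheory

noncomputable section

namespace Groth.Agent.GrDual.Descent

/-- `R_p ≅` the localised module `R_p`. -/
theorem nonempty_self_equiv {R : Type u} [CommRing R] (p : Ideal R) [p.IsPrime] :
    Nonempty (Localization.AtPrime p ≃ₗ[Localization.AtPrime p] LocalizedModule p.primeCompl R) :=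
  ⟨((IsLocalizedModule.iso p.primeCompl (Algebra.linearMap R (Localization.AtPrime p))).symm).extendScalarsOfIsLocalization
    p.primeCompl (Localization.AtPrime p)⟩

theorem bassNum_eq_zero_iff {R : Type u} [CommRing R] (p : Ideal R) [p.IsPrime] (i : ℕ) :
    _root_.GrLC.bassNum p R i = 0 ↔ Subsingleton (Abelian.Ext.{u}
      (ModuleCat.of (Localization.AtPrime p) (IsLocalRing.ResidueField (Localization.AtPrime p)))
      (ModuleCat.of (Localization.AtPrime p) (Localization.AtPrime p)) i) := by
  obtain ⟨e⟩ := nonempty_self_equiv p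
  refine Module.length_eq_zero_iff.trans
    (Equiv.subsingleton_congr (((Abelian.extFunctorObj _ i).mapIso e.toModuleIso.symm).addCommGroupIsoToAddEquiv).toEquiv)

variable {R : Type u} [CommRing R] [IsNoetherianRing R] (𝒜 : ℤ → AddSubgroup R) [GradedRing 𝒜]

/-- descent from the core -/
theorem gorenstein_atPrime (p : Ideal R) [p.IsPrime] [(Ideal.homogeneousCore 𝒜 p).toIdeal.IsPrime]
    (h : LocCoh.IsGorensteinLocalRing (Localization.AtPrime (Ideal.homogeneousCore 𝒜 p).toIdeal)) :
    LocCoh.IsGorensteinLocalRing (Localization.AtPrime p) := by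
  obtain ⟨N, hN⟩ := h.exists_hasInjectiveDimensionLT
  have : (p.map (Ideal.Quotient.mk (Ideal.homogeneousCore 𝒜 p).toIdeal)).IsPrime :=
    Ideal.map_isPrime_of_surjective Ideal.Quotient.mk_surjective
      (by rw [Ideal.mk_ker]; exact Ideal.toIdeal_homogeneousCore_le 𝒜 p)
  obtain ⟨d, hd⟩ := ENat.ne_top_iff_exists.mp
    (Ideal.height_ne_top (Ideal.IsPrime.ne_top this) :
      (p.map (Ideal.Quotient.mk (Ideal.homogeneousCore 𝒜 p).toIdeal)).height ≠ ⊤)
  obtain ⟨-, h2⟩ := GrBass.bassNum_shift 𝒜 R 𝒜 p d hd.symm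
  refine ⟨⟨N + d + 1, Gor.InjDim.hasInjectiveDimensionLT_of_residue _ (N + d) fun i hi => ?_⟩⟩
  obtain ⟨j, rfl⟩ : ∃ j, i = j + d := ⟨i - d, by omega⟩
  rw [← bassNum_eq_zero_iff, h2 j, bassNum_eq_zero_iff]
  exact HasInjectiveDimensionLT.subsingleton _ N j (by omega) _

/-- localisations of a Gorenstein local ring -/
theorem gorenstein_of_le {A : Type u} [CommRing A] {P Q : Ideal A} [P.IsPrime] [Q.IsPrime] (hle : P ≤ Q)
    (h : LocCoh.IsGorensteinLocalRing (Localization.AtPrime Q)) :
    LocCoh.IsGorensteinLocalRing (Localization.AtPrime P) := by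
  obtain ⟨P', hP', hcomap⟩ : ∃ P' : Ideal (Localization.AtPrime Q), P'.IsPrime ∧
      P'.comap (algebraMap A (Localization.AtPrime Q)) = P :=
    ⟨_, IsLocalization.isPrime_of_isPrime_disjoint Q.primeCompl _ P inferInstance
        (Set.disjoint_left.mpr fun x hx hxP => hx (hle hxP)),
      IsLocalization.comap_map_of_isPrime_disjoint Q.primeCompl _ inferInstance
        (Set.disjoint_left.mpr fun x hx hxP => hx (hle hxP))⟩
  have := (Gor.Ring.isGorensteinRing_of_local (Localization.AtPrime Q)).isGorensteinLocalRing_localization P'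
  have : IsLocalization.AtPrime (Localization.AtPrime P') P := by
    subst hcomap
    exact IsLocalization.isLocalization_isLocalization_atPrime_isLocalization Q.primeCompl _ P'
  exact Gor.FlatLocal.gorenstein_of_ringEquiv
    (IsLocalization.algEquiv P.primeCompl (Localization.AtPrime P') (Localization.AtPrime P)).toRingEquiv

/-- a graded ring is Gorenstein once it is so at one graded ideal containing all graded primes -/
theorem isGorensteinRing {m : HomogeneousIdeal 𝒜} (hm : _root_.GrLC.IsStarLocal 𝒜 m) [m.toIdeal.IsPrime]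
    (h : LocCoh.IsGorensteinLocalRing (Localization.AtPrime m.toIdeal)) : LocCoh.IsGorensteinRing R := by
  refine ⟨fun p hp => ?_⟩
  have : (Ideal.homogeneousCore 𝒜 p).toIdeal.IsPrime := hp.homogeneousCore
  refine gorenstein_atPrime 𝒜 p ?_
  have hle : (Ideal.homogeneousCore 𝒜 p).toIdeal ≤ m.toIdeal :=
    GrLC.starLocal_le m hm _ this.ne_top
  exact gorenstein_of_le hle h

end Groth.Agent.GrDual.Descent
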