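import Groth.Agent.GrDual.QuotDual
import Groth.Agent.GrLC.Core
import Groth.Agent.GrDual.TopCoh
import Groth.Agent.GrLC.GrCohExact
import Groth.Agent.GrLC.Devissage
import Groth.Agent.GrLC.LocCohTors
import Mathlib.RingTheory.Ideal.AssociatedPrime.Localization
import Mathlib.RingTheory.KrullDimension.Regular

/-!
# The dual of the top local cohomology of a Cohen–Macaulay module

For `M` with local cohomology only in degree `n` and `C` the dual of `H^n(M)`: `C` has no lower local cohomology and
`dim (0 :_{H^n(C)} m^N) = dim M/m^N M`.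
-/

set_option autoImplicit false
set_option linter.unusedSectionVars false
set_option linter.style.haveILetI false
universe u

open DirectSum
open Groth.Agent.GrLC
open scoped Pointwise

noncomputable section

namespace Groth.Agent.GrDual

variable {k : Type u} [Field k] {R : Type u} [CommRing R] [Algebra k R] [IsNoetherianRing R]
  {𝒜 : ℤ → AddSubgroup R} [GradedRing 𝒜]
variable (hB : Base k 𝒜) {m : HomogeneousIdeal 𝒜} (hm : _root_.GrLC.IsStarLocal 𝒜 m)
  (hm0 : ∀ i : ℤ, 0 < i → ∀ x ∈ 𝒜 i, x ∈ m.toIdeal)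

include hB hm hm0 in
theorem hk_of_base : ∀ r : R, ∃ c : k, r - algebraMap k R c ∈ m.toIdeal := fun r => by
  obtain ⟨c, hc⟩ := hB.exists_alg _ (cpt_mem 𝒜 0 r)
  refine ⟨c, (mem_of_forall_cpt (C := m.toIdeal) m.isHomogeneous).2 fun i => ?_⟩
  rw [hc, map_sub, cpt_cpt]
  rcases lt_trichotomy i 0 with hi | rfl | hi
  · rw [if_neg (Ne.symm hi.ne), hB.pos i hi _ (cpt_mem 𝒜 i r), sub_zero]; exact zero_mem _
  · rw [if_pos rfl, sub_self]; exact zero_mem _
  · rw [if_neg hi.ne, sub_zero]; exact hm0 i hi _ (cpt_mem 𝒜 i r)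

include hB hm in
theorem exists_eq_sum_pos {a : R} (ha : a ∈ m.toIdeal) :
    a ∈ Ideal.span {r : R | ∃ i : ℤ, 0 < i ∧ r ∈ 𝒜 i} := by
  rw [← sum_cpt 𝒜 a]
  refine sum_mem fun i _ => ?_
  have hi' : cpt 𝒜 i a ∈ m.toIdeal := m.isHomogeneous i ha
  rcases lt_trichotomy i 0 with hi | rfl | hi
  · rw [hB.pos i hi _ (cpt_mem 𝒜 i a)]; exact zero_mem _
  · obtain ⟨c, hc⟩ := hB.exists_alg _ (cpt_mem 𝒜 0 a)
    rcases eq_or_ne c 0 with rfl | hc0
    · rw [← hc, map_zero]; exact zero_mem _
    · exact absurd (Ideal.eq_top_of_isUnit_mem _ hi' (hc ▸ (IsUnit.mk0 c hc0).map _)) (ne_top_of_starLocal hm)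
  · exact Ideal.subset_span ⟨i, hi, cpt_mem 𝒜 i a⟩

include hB hm hm0 in
/-- a positive-degree nonzerodivisor in any power of `m` -/
theorem exists_nzd_in_pow {M : Type u} [AddCommGroup M] [Module R M] [Module.Finite R M]
    (hsoc : ∀ z : M, (∀ a ∈ m.toIdeal, a • z = 0) → z = 0) (N : ℕ) :
    ∃ (e : ℤ) (y : R), y ∈ 𝒜 e ∧ y ∈ m.toIdeal ^ N ∧ y ∈ m.toIdeal ∧ Function.Injective fun z : M => y • z := by
  obtain ⟨d, hd, x, hx, hinj⟩ := exists_nzd_pos hB.pos (N := M) fun z hz => hsoc z fun a ha => by
    have h := exists_eq_sum_pos hB hm ha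
    clear ha
    induction h using Submodule.span_induction with
    | mem r hr => exact hz hr.choose hr.choose_spec.1 r hr.choose_spec.2
    | zero => exact zero_smul R z
    | add a b _ _ hu hv => rw [add_smul, hu, hv, add_zero]
    | smul a b _ hv => rw [smul_eq_mul, mul_smul, hv, smul_zero]
  have hxm := hm0 d hd x hx
  refine ⟨(N + 1) • d, x ^ (N + 1), SetLike.pow_mem_graded _ hx, ?_, Ideal.pow_mem_of_mem _ hxm _ (by omega), ?_⟩
  · rw [pow_succ]; exact Ideal.mul_mem_right _ _ (Ideal.pow_mem_pow hxm N)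
  · have : ∀ j : ℕ, Function.Injective fun z : M => x ^ j • z := fun j => by
      induction j with
      | zero => intro a b h; simpa using h
      | succ j ih =>
        intro a b h
        simp only [pow_succ, mul_smul] at h
        exact hinj (ih h)
    exact this _

include hB hm hm0 in
/-- a finite graded module of dimension zero is torsion -/
theorem gam_eq_top_of_supportDim_le_zero {M : Type u} [AddCommGroup M] [Module R M] [Module.Finite R M]
    (ℳ : ℤ → AddSubgroup M) [DirectSum.Decomposition ℳ] [SetLike.GradedSMul 𝒜 ℳ]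
    (h : Module.supportDim R M ≤ 0) : ∀ z : M, z ∈ _root_.GrLC.gam m.toIdeal M := by
  have hann : (Module.annihilator R M).IsHomogeneous 𝒜 := fun i a ha => by
    change cpt 𝒜 i a ∈ Module.annihilator R M
    refine Module.mem_annihilator.2 fun z => ?_
    induction z using homogeneous_induction ℳ with
    | zero => exact smul_zero _
    | add a b ha hb => rw [smul_add, ha, hb, add_zero]
    | hom j z hz => rw [← cpt_smul_right (𝒜 := 𝒜) ℳ hz, Module.mem_annihilator.1 ha z, map_zero]
  have hrad : m.toIdeal ≤ (Module.annihilator R M).radical := by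
    rw [Ideal.radical_eq_sInf]
    refine le_sInf fun P hP => ?_
    obtain ⟨hle, hP⟩ := hP
    have hcp : (Ideal.homogeneousCore 𝒜 P).toIdeal.IsPrime := hP.homogeneousCore
    have hle' : Module.annihilator R M ≤ (Ideal.homogeneousCore 𝒜 P).toIdeal :=
      (hann.toIdeal_homogeneousCore_eq_self).symm.le.trans (Ideal.homogeneousCore_mono 𝒜 hle)
    have hcm := Groth.Agent.GrLC.starLocal_le m hm (Ideal.homogeneousCore 𝒜 P) hcp.ne_top
    refine le_trans ?_ (Ideal.toIdeal_homogeneousCore_le 𝒜 P)
    by_contra hne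
    have hlt : (Ideal.homogeneousCore 𝒜 P).toIdeal < m.toIdeal := lt_of_le_not_ge hcm hne
    haveI := starLocal_isMaximal hB.pos m hm
    let p0 : Module.support R M := ⟨⟨_, hcp⟩, Module.mem_support_iff_of_finite.2 hle'⟩
    let p1 : Module.support R M := ⟨⟨m.toIdeal, inferInstance⟩,
      Module.mem_support_iff_of_finite.2 (hle'.trans hcm)⟩
    let s : LTSeries (Module.support R M) := (RelSeries.singleton _ p0).snoc p1 hlt
    have h1 : ((s.length : ℕ∞) : WithBot ℕ∞) ≤ Module.supportDim R M :=
      Order.LTSeries.length_le_krullDim s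
    have h2 := h1.trans h
    have h3 : s.length = 1 := rfl
    rw [h3] at h2
    exact absurd h2 (by simp)
  obtain ⟨r, hr⟩ := Ideal.exists_pow_le_of_le_radical_of_fg hrad (IsNoetherian.noetherian _)
  exact fun z => ⟨r, fun a ha => Module.mem_annihilator.1 (hr ha) z⟩

section Step

variable {M : Type u} [AddCommGroup M] [Module R M]

theorem H_smul_id (I : Ideal R) (i : ℕ) (y : R) (h : LocCoh.H I i M) :
    LocCohElt.map I i (y • LinearMap.id : M →ₗ[R] M) h = y • h := by
  rw [LocCohElt.map_smul_id]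

theorem exact_smul_mkQ (y : R) : Function.Exact (y • LinearMap.id : M →ₗ[R] M)
    (Submodule.mkQ (y • ⊤ : Submodule R M)) := fun z => by
  rw [Submodule.mkQ_apply, Submodule.Quotient.mk_eq_zero, Submodule.mem_smul_pointwise_iff_exists]
  exact ⟨fun ⟨w, _, hw⟩ => ⟨w, hw⟩, fun ⟨w, hw⟩ => ⟨w, Submodule.mem_top, hw⟩⟩

variable (ℳ : ℤ → AddSubgroup M) [DirectSum.Decomposition ℳ] [SetLike.GradedSMul 𝒜 ℳ]

include ℳ in
theorem isHomogeneous_smul_top {y : R} {e : ℤ} (hy : y ∈ 𝒜 e) :
    (y • ⊤ : Submodule R M).IsHomogeneous ℳ := fun i z hz => by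
  change cpt ℳ i z ∈ (y • ⊤ : Submodule R M)
  obtain ⟨w, -, rfl⟩ := (Submodule.mem_smul_pointwise_iff_exists _ _ _).1 hz
  rw [cpt_smul_left' (𝒜 := 𝒜) ℳ hy]
  exact Submodule.smul_mem_pointwise_smul _ _ _ Submodule.mem_top

theorem isGrHomDeg_smul_id {y : R} {e : ℤ} (hy : y ∈ 𝒜 e) :
    _root_.GrLC.IsGrHomDeg ℳ ℳ (y • LinearMap.id : M →ₗ[R] M) e := fun g z hz => by
  have := smul_mem_gr (𝒜 := 𝒜) (ℳ := ℳ) hy hz
  rwa [add_comm] at this

include hm hm0 in
theorem eq_zero_of_smul_injective {i : ℕ} {y : R} (hy : y ∈ m.toIdeal)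
    (hinj : Function.Injective fun h : LocCoh.H m.toIdeal i M => y • h) : Subsingleton (LocCoh.H m.toIdeal i M) := by
  refine subsingleton_of_forall_eq 0 fun h => ?_
  obtain ⟨r, hr⟩ := LocCoh.isPowerTorsion_H (I := m.toIdeal) (i := i) (ModuleCat.of R M) h
  have : ∀ j : ℕ, Function.Injective fun h : LocCoh.H m.toIdeal i M => y ^ j • h := fun j => by
    induction j with
    | zero => intro a b h; simpa using h
    | succ j ih =>
      intro a b hab
      simp only [pow_succ, mul_smul] at hab
      exact hinj (ih hab)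
  exact this r ((hr (y ^ r) (Ideal.pow_mem_pow hy r)).trans (smul_zero _).symm)

end Step

set_option maxRecDepth 4000 in
set_option maxHeartbeats 1600000 in
include hB hm hm0 in
theorem dual_main : ∀ (n : ℕ) (M : Type u) [AddCommGroup M] [Module R M] [Module k M] [IsScalarTower k R M]
    (ℳ : ℤ → AddSubgroup M) [DirectSum.Decomposition ℳ] [SetLike.GradedSMul 𝒜 ℳ] [Module.Finite R M]
    (_ : ∀ i, i < n → Subsingleton (LocCoh.H m.toIdeal i M)) (_ : Module.supportDim R M ≤ (n : WithBot ℕ∞))
    (C : Type u) [AddCommGroup C] [Module R C] [Module k C] [IsScalarTower k R C]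
    (𝒞 : ℤ → AddSubgroup C) [DirectSum.Decomposition 𝒞] [SetLike.GradedSMul 𝒜 𝒞] [Module.Finite R C]
    [Module k (LocCoh.H m.toIdeal n M)] [IsScalarTower k R (LocCoh.H m.toIdeal n M)]
    (β : C →ₗ[k] LocCoh.H m.toIdeal n M →ₗ[k] k)
    (_ : letI := LC.dec (ℳ := ℳ) (a := m) (i := n); _root_.GrSeg.IsGDual R (LC.gr ℳ m n) 𝒞 β),
    (∀ i, i < n → Subsingleton (LocCoh.H m.toIdeal i C)) ∧
      ∀ [Module k (LocCoh.H m.toIdeal n C)] [IsScalarTower k R (LocCoh.H m.toIdeal n C)] (N : ℕ)
        (S : Submodule k (LocCoh.H m.toIdeal n C)), (∀ x, x ∈ S ↔ ∀ a ∈ m.toIdeal ^ N, a • x = 0) →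
        Module.Finite k S ∧
          Module.finrank k S = Module.finrank k (M ⧸ (m.toIdeal ^ N • ⊤ : Submodule R M)) := by
  intro n
  induction n with
  | zero =>
    intro M _ _ _ _ ℳ _ _ _ _ hdim C _ _ _ _ 𝒞 _ _ _ _ _ β hβ
    letI := LC.dec (ℳ := ℳ) (a := m) (i := 0)
    haveI : SetLike.GradedSMul 𝒜 (LC.gr ℳ m 0) := LC.gr_gradedSMul m _
    refine ⟨fun i hi => absurd hi (by omega), fun {_ _} N S hS => ?_⟩
    -- `H⁰(M) = M`
    have htop := gam_eq_top_of_supportDim_le_zero hB hm hm0 ℳ (by exact_mod_cast hdim)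
    obtain ⟨z0, hz0⟩ := LC.exists_zero_equiv m ℳ
    let ι0 : M ≃ₗ[R] LocCoh.H m.toIdeal 0 M :=
      (LinearEquiv.ofTop (_root_.GrLC.gam m.toIdeal M) (eq_top_iff.2 fun z _ => htop z)).symm.trans z0
    have hι0 : ∀ (g : ℤ) (z : M), z ∈ ℳ g ↔ ι0 z ∈ LC.gr ℳ m 0 g := fun g z => hz0 g ⟨z, htop z⟩
    let ι0k : M →ₗ[k] LocCoh.H m.toIdeal 0 M := ι0.toLinearMap.restrictScalars k
    let βM : C →ₗ[k] M →ₗ[k] k := LinearMap.compl₂ β ι0k
    have hβM : _root_.GrSeg.IsGDual R ℳ 𝒞 βM :=
      { map_smul := fun r d z => by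
          change β (r • d) (ι0 z) = β d (ι0 (r • z))
          rw [hβ.map_smul, ι0.map_smul]
        vanish := fun g d hd j hj z hz => hβ.vanish g d hd j hj _ ((hι0 j z).1 hz)
        eq_zero := fun g d hd h => hβ.eq_zero g d hd fun x hx => by
          obtain ⟨z, rfl⟩ := ι0.surjective x
          exact h z ((hι0 _ z).2 hx)
        exists_eq := fun g l => by
          obtain ⟨d, hd, hdx⟩ := hβ.exists_eq g (l ∘ₗ ι0.symm.toLinearMap.restrictScalars k)
          refine ⟨d, hd, fun z hz => ?_⟩
          change β d (ι0 z) = l z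
          rw [hdx _ ((hι0 _ z).1 hz)]
          change l (ι0.symm (ι0 z)) = l z
          rw [ι0.symm_apply_apply] }
    have hflip := flip_isGDual hB ℳ 𝒞 hβM fun g => finite_pieceK hB ℳ g
    have hk := hk_of_base hB hm hm0
    have hq : (m.toIdeal ^ N).IsHomogeneous 𝒜 := GrLC.isHomogeneous_pow m.isHomogeneous N
    haveI : Module.Finite k (M ⧸ (m.toIdeal ^ N • ⊤ : Submodule R M)) :=
      finite_of_killed m.toIdeal hk N _ fun r hr w => by
        obtain ⟨w, rfl⟩ := Submodule.Quotient.mk_surjective _ w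
        rw [← Submodule.Quotient.mk_smul, Submodule.Quotient.mk_eq_zero]
        exact Submodule.smul_mem_smul hr Submodule.mem_top
    let SC : Submodule k C :=
      { carrier := {x | ∀ a ∈ m.toIdeal ^ N, a • x = 0}
        add_mem' := fun {x y} hx hy a ha => by rw [smul_add, hx a ha, hy a ha, add_zero]
        zero_mem' := fun a _ => smul_zero a
        smul_mem' := fun c x hx a ha => by rw [smul_comm, hx a ha, smul_zero] }
    obtain ⟨hf, hr⟩ := exists_dual_quot hB hflip hq SC fun x => Iff.rfl
    obtain ⟨zC, -⟩ := LC.exists_zero_equiv m 𝒞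
    let ι : SC →ₗ[k] S :=
      { toFun := fun x => ⟨zC ⟨x.1, N, x.2⟩, (hS _).2 fun a ha => by
          rw [← map_smul, show (a • (⟨x.1, N, x.2⟩ : _root_.GrLC.gam m.toIdeal C)) = 0 from Subtype.ext (x.2 a ha),
            map_zero]⟩
        map_add' := fun x y => Subtype.ext <| by
          change zC _ = zC _ + zC _
          rw [← map_add]; rfl
        map_smul' := fun c x => Subtype.ext <| by
          change zC _ = c • zC _
          rw [← algebraMap_smul R c (zC _), ← map_smul]
          congr 1
          exact Subtype.ext (algebraMap_smul R c x.1).symm }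
    have hι : Function.Bijective ι := by
      refine ⟨fun x y h => Subtype.ext (congrArg (fun g : _root_.GrLC.gam m.toIdeal C => (g : C)) (zC.injective (congrArg Subtype.val h))), fun s => ?_⟩
      refine ⟨⟨(zC.symm s.1).1, fun a ha => ?_⟩, Subtype.ext ?_⟩
      · have := (hS s.1).1 s.2 a ha
        have h2 := congrArg zC.symm this
        rw [map_smul, map_zero] at h2
        exact congrArg Subtype.val h2
      · change zC _ = s.1
        exact (congrArg zC (Subtype.ext rfl)).trans (zC.apply_symm_apply s.1)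
    let ιe := LinearEquiv.ofBijective ι hι
    exact ⟨Module.Finite.equiv ιe, ιe.finrank_eq.symm.trans hr⟩
  | succ n ih =>
    intro M _ _ _ _ ℳ _ _ _ hvan hdim C _ _ _ _ 𝒞 _ _ _ _ _ β hβ
    letI := LC.dec (ℳ := ℳ) (a := m) (i := n + 1)
    haveI : SetLike.GradedSMul 𝒜 (LC.gr ℳ m (n + 1)) := LC.gr_gradedSMul m _
    have hsoc : ∀ z : M, (∀ a ∈ m.toIdeal, a • z = 0) → z = 0 := fun z hz => by
      obtain ⟨z0, -⟩ := LC.exists_zero_equiv m ℳ
      have := hvan 0 (by omega)
      have hz' : z ∈ _root_.GrLC.gam m.toIdeal M := ⟨1, fun a ha => hz a (by rwa [pow_one] at ha)⟩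
      exact congrArg Subtype.val (z0.injective (Subsingleton.elim (z0 ⟨z, hz'⟩) (z0 0)))
    -- the construction for one nonzerodivisor
    have step : ∀ N : ℕ, (∀ i, i < n + 1 → Subsingleton (LocCoh.H m.toIdeal i C)) ∧
        ∀ [Module k (LocCoh.H m.toIdeal (n + 1) C)] [IsScalarTower k R (LocCoh.H m.toIdeal (n + 1) C)]
          (S : Submodule k (LocCoh.H m.toIdeal (n + 1) C)), (∀ x, x ∈ S ↔ ∀ a ∈ m.toIdeal ^ N, a • x = 0) →
          Module.Finite k S ∧
            Module.finrank k S = Module.finrank k (M ⧸ (m.toIdeal ^ N • ⊤ : Submodule R M)) := by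
      intro N
      obtain ⟨e, y, hy, hyN, hym, hyinj⟩ := exists_nzd_in_pow hB hm hm0 hsoc N
      let fM : M →ₗ[R] M := y • LinearMap.id
      let PM : Submodule R M := y • ⊤
      let gM : M →ₗ[R] M ⧸ PM := PM.mkQ
      have hfgM : Function.Exact fM gM := exact_smul_mkQ y
      have hfM : Function.Injective fM := hyinj
      have hPM := isHomogeneous_smul_top (𝒜 := 𝒜) ℳ hy
      letI := quoDec ℳ hPM
      haveI := quoGr_gradedSMul (𝒜 := 𝒜) ℳ PM
      have hdimM' : Module.supportDim R (M ⧸ PM) ≤ (n : WithBot ℕ∞) := by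
        have h1 : Module.supportDim R (QuotSMulTop y M) + 1 ≤ Module.supportDim R M :=
          Module.supportDim_quotSMulTop_succ_le_of_notMem_minimalPrimes fun p hp hyp => by
            obtain ⟨z, hz0, hyz⟩ : ∃ z : M, z ≠ 0 ∧ y • z = 0 := by
              have hmem : y ∈ ⋃ q ∈ associatedPrimes R M, (q : Set R) :=
                Set.mem_iUnion₂.2 ⟨p, Module.associatedPrimes.minimalPrimes_annihilator_subset_associatedPrimes R M hp, hyp⟩
              rw [biUnion_associatedPrimes_eq_zero_divisors] at hmem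
              exact hmem
            exact hz0 (hyinj (hyz.trans (smul_zero y).symm))
        have h2 := h1.trans hdim
        change Module.supportDim R (QuotSMulTop y M) ≤ _
        cases hd : Module.supportDim R (QuotSMulTop y M) with
        | bot => exact bot_le
        | coe v =>
          rw [hd] at h2
          have h3 : v + 1 ≤ ((n + 1 : ℕ) : ℕ∞) := by exact_mod_cast h2
          push_cast at h3
          exact WithBot.coe_le_coe.2 ((ENat.add_le_add_iff_right ENat.one_ne_top).1 h3)
      have hvanM' : ∀ i, i < n → Subsingleton (LocCoh.H m.toIdeal i (M ⧸ PM)) := fun i hi => by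
        refine subsingleton_of_forall_eq 0 fun z => ?_
        have := hvan i (by omega)
        obtain ⟨w, rfl⟩ := (LocCohElt.exact_map_δ m.toIdeal i hfM hfgM PM.mkQ_surjective z).1
          ((hvan (i + 1) (by omega)).elim _ _)
        rw [Subsingleton.elim w 0, map_zero]
      -- `δ` on `M`
      let δM := LocCohElt.δ m.toIdeal n hfM hfgM PM.mkQ_surjective
      have hδinj : Function.Injective δM := (injective_iff_map_eq_zero δM).2 fun z hz => by
        obtain ⟨w, rfl⟩ := (LocCohElt.exact_map_δ m.toIdeal n hfM hfgM PM.mkQ_surjective z).1 hz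
        have := hvan n (by omega)
        rw [Subsingleton.elim w 0, map_zero]
      have hδrange : ∀ z, y • z = 0 ↔ ∃ w, δM w = z := fun z => by
        have h := LocCohElt.exact_δ_map m.toIdeal n hfM hfgM PM.mkQ_surjective z
        rw [H_smul_id] at h
        exact h
      have hysurj : ∀ z : LocCoh.H m.toIdeal (n + 1) M, ∃ w, y • w = z := fun z => by
        have : Subsingleton (LocCoh.H m.toIdeal (n + 1) (M ⧸ PM)) :=
          LocCoh.subsingleton_H_of_supportDim_lt m.toIdeal (n + 1) _
            (lt_of_le_of_lt hdimM' (by exact_mod_cast Nat.lt_succ_self n)) _ le_rfl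
        obtain ⟨w, hw⟩ := (LocCohElt.exact_map_map m.toIdeal (n + 1) hfM hfgM PM.mkQ_surjective z).1
          (Subsingleton.elim _ _)
        exact ⟨w, (H_smul_id m.toIdeal (n + 1) y w).symm.trans hw⟩
      have hfMgr : _root_.GrLC.IsGrHomDeg ℳ ℳ fM e := isGrHomDeg_smul_id ℳ hy
      have hδdeg : ∀ (j : ℤ) (z), z ∈ LC.gr (quoGr ℳ PM) m n j → δM z ∈ LC.gr ℳ m (n + 1) (j - e) :=
        fun j z hz => LC.δ_mem_gr_deg m n hfM hfgM PM.mkQ_surjective hfMgr (isGrHom_mkQ ℳ PM) hz
      letI := LC.dec (ℳ := quoGr ℳ PM) (a := m) (i := n)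
      haveI : SetLike.GradedSMul 𝒜 (LC.gr (quoGr ℳ PM) m n) := LC.gr_gradedSMul m _
      have hδdeg' : ∀ (j : ℤ) (z), z ∈ LC.gr ℳ m (n + 1) (j - e) → y • z = 0 →
          ∃ w ∈ LC.gr (quoGr ℳ PM) m n j, δM w = z := fun j z hz hyz => by
        obtain ⟨w, rfl⟩ := (hδrange z).1 hyz
        refine ⟨cpt (LC.gr (quoGr ℳ PM) m n) j w, cpt_mem _ j w, ?_⟩
        have hgr : _root_.GrLC.IsGrHomDeg (LC.gr (quoGr ℳ PM) m n) (LC.gr ℳ m (n + 1)) δM (-e) :=
          fun g x hx => by rw [← sub_eq_add_neg]; exact hδdeg g x hx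
        have h1 := map_cptDeg (ℳ := LC.gr (quoGr ℳ PM) m n) (𝒩 := LC.gr ℳ m (n + 1)) hgr j w
        rw [← sub_eq_add_neg, cpt_of_mem _ hz] at h1
        exact h1
      -- `y` on `C`
      have hyC : Function.Injective fun c : C => y • c := fun a b hab => by
        rw [← sub_eq_zero]
        refine gdual_ext hβ fun z => ?_
        obtain ⟨w, rfl⟩ := hysurj z
        rw [← hβ.map_smul, smul_sub, show y • a = y • b from hab, sub_self, map_zero, LinearMap.zero_apply]
      let fC : C →ₗ[R] C := y • LinearMap.id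
      let PC : Submodule R C := y • ⊤
      have hfgC : Function.Exact fC PC.mkQ := exact_smul_mkQ y
      have hfC : Function.Injective fC := hyC
      have hPC := isHomogeneous_smul_top (𝒜 := 𝒜) 𝒞 hy
      letI := quoDec 𝒞 hPC
      haveI := quoGr_gradedSMul (𝒜 := 𝒜) 𝒞 PC
      let 𝒞' : ℤ → AddSubgroup (C ⧸ PC) := fun j => quoGr 𝒞 PC (j + e)
      letI : DirectSum.Decomposition 𝒞' := (shiftGMod 𝒜 (quoGr 𝒞 PC) e).dec
      haveI : SetLike.GradedSMul 𝒜 𝒞' := (shiftGMod 𝒜 (quoGr 𝒞 PC) e).gsmul
      letI : Module k (LocCoh.H m.toIdeal n (M ⧸ PM)) := Module.compHom _ (algebraMap k R)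
      haveI : IsScalarTower k R (LocCoh.H m.toIdeal n (M ⧸ PM)) :=
        IsScalarTower.of_algebraMap_smul fun _ _ => rfl
      let δMk : LocCoh.H m.toIdeal n (M ⧸ PM) →ₗ[k] LocCoh.H m.toIdeal (n + 1) M :=
        { toFun := δM, map_add' := map_add δM
          map_smul' := fun c z => by
            rw [RingHom.id_apply, ← algebraMap_smul R c (δM z), ← map_smul]
            exact congrArg δM (algebraMap_smul R c z).symm }
      let β0 : C →ₗ[k] LocCoh.H m.toIdeal n (M ⧸ PM) →ₗ[k] k := LinearMap.compl₂ β δMk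
      have hβ0 : ∀ c ∈ PC.restrictScalars k, β0 c = 0 := fun c hc => by
        obtain ⟨c, -, rfl⟩ := (Submodule.mem_smul_pointwise_iff_exists _ _ _).1 hc
        ext z
        change β (y • c) (δM z) = 0
        rw [hβ.map_smul, (hδrange _).2 ⟨z, rfl⟩, map_zero]
      let β' : (C ⧸ PC) →ₗ[k] LocCoh.H m.toIdeal n (M ⧸ PM) →ₗ[k] k :=
        (PC.restrictScalars k).liftQ β0 hβ0 ∘ₗ (Submodule.Quotient.restrictScalarsEquiv k PC).symm.toLinearMap
      have hβ' : _root_.GrSeg.IsGDual R (LC.gr (quoGr ℳ PM) m n) 𝒞' β' :=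
        { map_smul := fun r d z => by
            obtain ⟨d, rfl⟩ := Submodule.Quotient.mk_surjective PC d
            rw [← Submodule.Quotient.mk_smul]
            change β (r • d) (δM z) = β d (δM (r • z))
            rw [hβ.map_smul, δM.map_smul]
          vanish := fun g d hd j hj z hz => by
            obtain ⟨d, hd', rfl⟩ := (mem_quoGr 𝒞).1 hd
            exact hβ.vanish (g + e) d hd' (j - e) (fun h => hj (by omega)) _ (hδdeg j z hz)
          eq_zero := fun g d hd h => by
            obtain ⟨d, hd', rfl⟩ := (mem_quoGr 𝒞).1 hd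
            refine (Submodule.Quotient.mk_eq_zero PC).2 ?_
            -- the functional factors through `y`
            let A := pieceK hB (LC.gr ℳ m (n + 1)) (-(g + e))
            let yA : A →ₗ[k] LocCoh.H m.toIdeal (n + 1) M :=
              { toFun := fun z => y • z.1
                map_add' := fun a b => smul_add y a.1 b.1
                map_smul' := fun c a => smul_comm y c a.1 }
            have hker : LinearMap.ker yA ≤ LinearMap.ker ((β d) ∘ₗ A.subtype) := fun z hz => by
              obtain ⟨w, hw, hwz⟩ := hδdeg' (-g) z.1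
                (by rw [show -g - e = -(g + e) by ring]; exact z.2) hz
              change β d z.1 = 0
              rw [← hwz]
              exact h w hw
            obtain ⟨L, hL⟩ := LinearMap.exists_extend
              ((LinearMap.ker yA).liftQ _ hker ∘ₗ (LinearMap.quotKerEquivRange yA).symm.toLinearMap)
            obtain ⟨c, hc, hcx⟩ := hβ.exists_eq g L
            refine (Submodule.mem_smul_pointwise_iff_exists _ _ _).2 ⟨c, Submodule.mem_top, ?_⟩
            rw [← sub_eq_zero]
            refine hβ.eq_zero (g + e) _ (sub_mem ?_ hd') fun z hz => ?_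
            · have := smul_mem_gr (𝒜 := 𝒜) (ℳ := 𝒞) hy hc; rwa [add_comm] at this
            · rw [map_sub, LinearMap.sub_apply, hβ.map_smul]
              have hyz : y • z ∈ LC.gr ℳ m (n + 1) (-g) := by
                have := smul_mem_gr (𝒜 := 𝒜) (ℳ := LC.gr ℳ m (n + 1)) hy hz
                rwa [show e + -(g + e) = -g by ring] at this
              rw [hcx _ hyz]
              have h1 := LinearMap.congr_fun hL ⟨y • z, ⟨⟨z, hz⟩, rfl⟩⟩
              rw [LinearMap.comp_apply, Submodule.subtype_apply] at h1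
              rw [h1, LinearMap.comp_apply, LinearEquiv.coe_coe,
                show (⟨y • z, ⟨⟨z, hz⟩, rfl⟩⟩ : LinearMap.range yA) =
                  LinearMap.quotKerEquivRange yA (Submodule.Quotient.mk ⟨z, hz⟩) from Subtype.ext rfl,
                LinearEquiv.symm_apply_apply]
              exact sub_self _
          exists_eq := fun g l => by
            let A := pieceK hB (LC.gr (quoGr ℳ PM) m n) (-g)
            let δA : A →ₗ[k] LocCoh.H m.toIdeal (n + 1) M := δMk ∘ₗ A.subtype
            have hδA : Function.Injective δA := hδinj.comp Subtype.val_injective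
            obtain ⟨L, hL⟩ := LinearMap.exists_extend
              ((l ∘ₗ A.subtype) ∘ₗ (LinearEquiv.ofInjective δA hδA).symm.toLinearMap)
            obtain ⟨c, hc, hcx⟩ := hβ.exists_eq (g + e) L
            refine ⟨Submodule.Quotient.mk c, (mem_quoGr 𝒞).2 ⟨c, hc, rfl⟩, fun z hz => ?_⟩
            change β c (δM z) = l z
            rw [hcx _ (by have := hδdeg (-g) z hz; rwa [show -g - e = -(g + e) by ring] at this)]
            have h1 := LinearMap.congr_fun hL ⟨δM z, ⟨⟨z, hz⟩, rfl⟩⟩
            rw [LinearMap.comp_apply, Submodule.subtype_apply] at h1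
            rw [h1, LinearMap.comp_apply, LinearEquiv.coe_coe,
              show (⟨δM z, ⟨⟨z, hz⟩, rfl⟩⟩ : LinearMap.range δA) =
                LinearEquiv.ofInjective δA hδA ⟨z, hz⟩ from Subtype.ext rfl,
              LinearEquiv.symm_apply_apply]
            rfl }
      obtain ⟨hvanC', hSC'⟩ := ih (M ⧸ PM) (quoGr ℳ PM) hvanM' hdimM' (C ⧸ PC) 𝒞' β' hβ'
      refine ⟨fun i hi => ?_, fun {_ _} S hS => ?_⟩
      · refine eq_zero_of_smul_injective hm hm0 hym ?_
        intro a b hab
        rw [← sub_eq_zero]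
        have hab' : y • (a - b) = 0 := by rw [smul_sub]; exact sub_eq_zero.2 hab
        cases i with
        | zero =>
          obtain ⟨zC, -⟩ := LC.exists_zero_equiv m 𝒞
          obtain ⟨c, hc⟩ := zC.surjective (a - b)
          rw [← hc, ← map_smul] at hab'
          have := zC.injective (hab'.trans (map_zero zC).symm)
          rw [← hc, show c = 0 from Subtype.ext (hyC ((congrArg Subtype.val this).trans (smul_zero y).symm)),
            map_zero]
        | succ i =>
          obtain ⟨w, hw⟩ := (LocCohElt.exact_δ_map m.toIdeal i hfC hfgC PC.mkQ_surjective (a - b)).1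
            (by rw [H_smul_id]; exact hab')
          have := hvanC' i (by omega)
          rw [← hw, Subsingleton.elim w 0, map_zero]
      · -- socles along `δ`
        have hvanCn : Subsingleton (LocCoh.H m.toIdeal n C) := by
          refine eq_zero_of_smul_injective hm hm0 hym ?_
          intro a b hab
          rw [← sub_eq_zero]
          have hab' : y • (a - b) = 0 := by rw [smul_sub]; exact sub_eq_zero.2 hab
          cases n with
          | zero =>
            obtain ⟨zC, -⟩ := LC.exists_zero_equiv m 𝒞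
            obtain ⟨c, hc⟩ := zC.surjective (a - b)
            rw [← hc, ← map_smul] at hab'
            have := zC.injective (hab'.trans (map_zero zC).symm)
            rw [← hc, show c = 0 from Subtype.ext (hyC ((congrArg Subtype.val this).trans (smul_zero y).symm)),
              map_zero]
          | succ i =>
            obtain ⟨w, hw⟩ := (LocCohElt.exact_δ_map m.toIdeal i hfC hfgC PC.mkQ_surjective (a - b)).1
              (by rw [H_smul_id]; exact hab')
            have := hvanC' i (by omega)
            rw [← hw, Subsingleton.elim w 0, map_zero]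
        let δC := LocCohElt.δ m.toIdeal n hfC hfgC PC.mkQ_surjective
        have hδCinj : Function.Injective δC := (injective_iff_map_eq_zero δC).2 fun z hz => by
          obtain ⟨w, rfl⟩ := (LocCohElt.exact_map_δ m.toIdeal n hfC hfgC PC.mkQ_surjective z).1 hz
          rw [Subsingleton.elim w 0, map_zero]
        letI : Module k (LocCoh.H m.toIdeal n (C ⧸ PC)) := Module.compHom _ (algebraMap k R)
        haveI : IsScalarTower k R (LocCoh.H m.toIdeal n (C ⧸ PC)) :=
          IsScalarTower.of_algebraMap_smul fun _ _ => rfl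
        let S' : Submodule k (LocCoh.H m.toIdeal n (C ⧸ PC)) :=
          { carrier := {x | ∀ a ∈ m.toIdeal ^ N, a • x = 0}
            add_mem' := fun {x z} hx hz a ha => by rw [smul_add, hx a ha, hz a ha, add_zero]
            zero_mem' := fun a _ => smul_zero a
            smul_mem' := fun c x hx a ha => by rw [smul_comm, hx a ha, smul_zero] }
        obtain ⟨hf', hr'⟩ := hSC' N S' fun x => Iff.rfl
        let ι : S' →ₗ[k] S :=
          { toFun := fun x => ⟨δC x.1, (hS _).2 fun a ha => by rw [← map_smul, x.2 a ha, map_zero]⟩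
            map_add' := fun x z => Subtype.ext (map_add δC x.1 z.1)
            map_smul' := fun c x => Subtype.ext <| by
              change δC (c • x.1) = c • δC x.1
              rw [← algebraMap_smul R c x.1, map_smul, algebraMap_smul] }
        have hι : Function.Bijective ι := by
          refine ⟨fun x z h => Subtype.ext (hδCinj (congrArg Subtype.val h)), fun s => ?_⟩
          obtain ⟨w, hw⟩ := (LocCohElt.exact_δ_map m.toIdeal n hfC hfgC PC.mkQ_surjective s.1).1
            (by rw [H_smul_id]; exact (hS _).1 s.2 y hyN)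
          refine ⟨⟨w, fun a ha => hδCinj ?_⟩, Subtype.ext hw⟩
          rw [map_smul, map_zero, show δC w = s.1 from hw]
          exact (hS _).1 s.2 a ha
        let ιe := LinearEquiv.ofBijective ι hι
        refine ⟨Module.Finite.equiv ιe, ιe.finrank_eq.symm.trans (hr'.trans ?_)⟩
        -- `M'/m^N M' = M/m^N M`
        let P' : Submodule R (M ⧸ PM) := m.toIdeal ^ N • ⊤
        let P : Submodule R M := m.toIdeal ^ N • ⊤
        have hcomap : P = P'.comap PM.mkQ := by
          rw [show P' = P.map PM.mkQ by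
            rw [Submodule.map_smul'', Submodule.map_top, Submodule.range_mkQ], Submodule.comap_map_eq,
            Submodule.ker_mkQ, eq_comm, sup_eq_left]
          intro z hz
          obtain ⟨w, -, rfl⟩ := (Submodule.mem_smul_pointwise_iff_exists _ _ _).1 hz
          exact Submodule.smul_mem_smul hyN Submodule.mem_top
        let q : M →ₗ[R] (M ⧸ PM) ⧸ P' := P'.mkQ ∘ₗ PM.mkQ
        have hq : LinearMap.ker q = P := by rw [hcomap, LinearMap.ker_comp, Submodule.ker_mkQ]
        let eq1 := ((Submodule.quotEquivOfEq _ _ hq).symm.trans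
          (q.quotKerEquivOfSurjective (P'.mkQ_surjective.comp PM.mkQ_surjective))).restrictScalars k
        exact eq1.finrank_eq.symm
    exact ⟨(step 0).1, fun N S hS => (step N).2 S hS⟩

end Groth.Agent.GrDual
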