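import Groth.Agent.GrDual.Pairing
import Groth.Agent.GrDual.TopCoh
import Groth.Agent.GrLC.GrCohExact

/-!
# The dual of top local cohomology is `Hom` into the dual of `H^n(R)`
-/

set_option autoImplicit false
set_option linter.unusedSectionVars false
set_option linter.style.haveILetI false
set_option maxRecDepth 20000
universe u

open DirectSum
open Groth.Agent.GrLC

namespace Groth.Agent.GrDual

variable {k : Type u} [Field k] {R : Type u} [CommRing R] [Algebra k R] [IsNoetherianRing R]
  {σ : Type u} [SetLike σ R] [AddSubgroupClass σ R] {𝒜 : ℤ → σ} [GradedRing 𝒜]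
variable {m : HomogeneousIdeal 𝒜} {n : ℕ} (I : _root_.GrLC.StarInjRes 𝒜 𝒜)
variable {M : Type u} [AddCommGroup M] [Module R M] {τ : Type u} [SetLike τ M] [AddSubgroupClass τ M]
  {ℳ : ℤ → τ} [DirectSum.Decomposition ℳ] [SetLike.GradedSMul 𝒜 ℳ] (EM : _root_.GrLC.StarInjRes 𝒜 ℳ)

variable (m n) in
/-- `h ↦ h • x` from `H^n(R)` to `H^n(M)`. -/
noncomputable def pushH (x : M) : I.H m n →ₗ[R] EM.H m n :=
  (Hequiv EM m n).symm.toLinearMap ∘ₗ LocCohElt.map m.toIdeal n (LinearMap.toSpanSingleton R M x) ∘ₗ
    (Hequiv I m n).toLinearMap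

theorem pushH_apply (x : M) (h : I.H m n) : pushH m n I EM x h = (Hequiv EM m n).symm
    (LocCohElt.map m.toIdeal n (LinearMap.toSpanSingleton R M x) (Hequiv I m n h)) := rfl

theorem pushH_add (x y : M) (h : I.H m n) :
    pushH m n I EM (x + y) h = pushH m n I EM x h + pushH m n I EM y h := by
  rw [pushH_apply, pushH_apply, pushH_apply, ← map_add (Hequiv EM m n).symm]
  congr 1
  rw [← GrSegre.H_map_add]
  congr 2
  exact LinearMap.ext fun r => smul_add r x y

theorem pushH_smul (r : R) (x : M) (h : I.H m n) :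
    pushH m n I EM (r • x) h = pushH m n I EM x (r • h) := by
  have e : LinearMap.toSpanSingleton R M (r • x) = r • LinearMap.toSpanSingleton R M x :=
    LinearMap.ext fun s => smul_comm s r x
  rw [map_smul (pushH m n I EM x), pushH_apply, pushH_apply, e, H_map_smul, map_smul]

theorem pushH_mem {q j : ℤ} {x : M} (hx : x ∈ ℳ q) {h : I.H m n} (hh : h ∈ I.Hgr m n j) :
    pushH m n I EM x h ∈ EM.Hgr m n (j + q) := by
  have h1 : Hequiv I m n h ∈ LC.gr 𝒜 m n j := by rw [LC.gr_eq m n I]; exact ⟨h, hh, rfl⟩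
  have hdeg : _root_.GrLC.IsGrHomDeg 𝒜 ℳ (LinearMap.toSpanSingleton R M x) q := fun i r hr =>
    smul_mem_gr (𝒜 := 𝒜) (ℳ := ℳ) hr hx
  have h2 := LC.map_mem_gr_deg m n hdeg h1
  rw [LC.gr_eq m n EM] at h2
  obtain ⟨y, hy, hyx⟩ := h2
  rw [pushH_apply, ← hyx]
  change (Hequiv EM m n).symm (Hequiv EM m n y) ∈ _
  rwa [LinearEquiv.symm_apply_apply]

variable {H : Type u} [AddCommGroup H] [Module R H] [Module k H] [IsScalarTower k R H]
  {τH : Type u} [SetLike τH H] [AddSubgroupClass τH H] {ℋ : ℤ → τH} [DirectSum.Decomposition ℋ]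
variable {D : Type u} [AddCommGroup D] [Module R D] [Module k D] [IsScalarTower k R D]
  {τD : Type u} [SetLike τD D] [AddSubgroupClass τD D] {𝒟 : ℤ → τD} [DirectSum.Decomposition 𝒟]

/-- A pairing of a graded dual detects elements. -/
theorem gdual_ext {β : D →ₗ[k] H →ₗ[k] k} (hD : _root_.GrSeg.IsGDual R ℋ 𝒟 β) {d : D}
    (h : ∀ x, β d x = 0) : d = 0 := by
  refine eq_zero_of_cpt 𝒟 fun i => hD.eq_zero i _ (cpt_mem 𝒟 i d) fun x hx => ?_
  have h1 := h x
  rw [← sum_cpt 𝒟 d, map_sum, LinearMap.sum_apply, Finset.sum_eq_single i] at h1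
  · exact h1
  · exact fun j _ hj => hD.vanish j _ (cpt_mem 𝒟 j d) (-i) (fun e => hj (neg_injective e).symm) x hx
  · intro hi
    by_cases hz : cpt 𝒟 i d = 0
    · rw [hz, map_zero, LinearMap.zero_apply]
    · exact absurd ((mem_degs 𝒟).2 hz) hi

end Groth.Agent.GrDual

namespace Groth.Agent.GrDual

open Groth.Agent.GrLC

variable {k : Type u} [Field k] {R : Type u} [CommRing R] [Algebra k R] [IsNoetherianRing R]
  {σ : Type u} [SetLike σ R] [AddSubgroupClass σ R] {𝒜 : ℤ → σ} [GradedRing 𝒜]
variable {m : HomogeneousIdeal 𝒜} {n : ℕ} {I : _root_.GrLC.StarInjRes 𝒜 𝒜}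
  [Module k (I.H m n)] [IsScalarTower k R (I.H m n)] [DirectSum.Decomposition (I.Hgr m n)]
variable {K : Type u} [AddCommGroup K] [Module R K] [Module k K] [IsScalarTower k R K]
  {τK : Type u} [SetLike τK K] [AddSubgroupClass τK K] {𝒦 : ℤ → τK} [DirectSum.Decomposition 𝒦]
  [SetLike.GradedSMul 𝒜 𝒦]
variable {M : Type u} [AddCommGroup M] [Module R M] [Module k M] [IsScalarTower k R M]
  {τ : Type u} [SetLike τ M] [AddSubgroupClass τ M]
  {ℳ : ℤ → τ} [DirectSum.Decomposition ℳ] [SetLike.GradedSMul 𝒜 ℳ]
  {EM : _root_.GrLC.StarInjRes 𝒜 ℳ}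
  [Module k (EM.H m n)] [IsScalarTower k R (EM.H m n)] [DirectSum.Decomposition (EM.Hgr m n)]
variable {D : Type u} [AddCommGroup D] [Module R D] [Module k D] [IsScalarTower k R D]
  {τD : Type u} [SetLike τD D] [AddSubgroupClass τD D] {𝒟 : ℤ → τD} [DirectSum.Decomposition 𝒟]
  [SetLike.GradedSMul 𝒜 𝒟]
variable {βK : K →ₗ[k] I.H m n →ₗ[k] k} {βD : D →ₗ[k] EM.H m n →ₗ[k] k}

set_option maxHeartbeats 1000000 in
/-- `(H^n(M))^* ≅ Hom(M, K)`. -/
theorem exists_dual_equiv [Module.Finite R M] (hn : ringKrullDim R = n)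
    (hK : _root_.GrSeg.IsGDual R (I.Hgr m n) 𝒦 βK) (hD : _root_.GrSeg.IsGDual R (EM.Hgr m n) 𝒟 βD) :
    ∃ ε : D ≃ₗ[R] (M →ₗ[R] K),
      ∀ (p : ℤ) (d : D), d ∈ 𝒟 p → _root_.GrLC.IsGrHomDeg ℳ 𝒦 (ε d) p := by
  classical
  have huniq : ∀ c c' : K, (∀ h, βK c h = βK c' h) → c = c' := fun c c' h => by
    rw [← sub_eq_zero]
    exact gdual_ext hK fun x => by rw [map_sub, LinearMap.sub_apply, h, sub_self]
  -- homogeneous solutions
  have hhom : ∀ (p q : ℤ) (d : D) (x : M), d ∈ 𝒟 p → x ∈ ℳ q →
      ∃ c ∈ 𝒦 (p + q), ∀ h, βK c h = βD d (pushH m n I EM x h) := by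
    intro p q d x hd hx
    obtain ⟨c, hc, hcx⟩ := hK.exists_eq (p + q)
      ((βD d) ∘ₗ (pushH m n I EM x).restrictScalars k)
    refine ⟨c, hc, fun h => ?_⟩
    induction h using homogeneous_induction (I.Hgr m n) with
    | zero => simp
    | add a b ha hb => rw [map_add, map_add, map_add, ha, hb]
    | hom j h hh =>
      by_cases e : j = -(p + q)
      · subst e; exact hcx h hh
      · rw [hK.vanish (p + q) c hc j e h hh,
          hD.vanish p d hd (j + q) (by omega) _ (pushH_mem I EM hx hh)]
  have hex : ∀ (d : D) (x : M), ∃ c : K, ∀ h, βK c h = βD d (pushH m n I EM x h) := by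
    intro d x
    induction d using homogeneous_induction 𝒟 with
    | zero => exact ⟨0, fun h => by simp⟩
    | add a b ha hb =>
      obtain ⟨c, hc⟩ := ha
      obtain ⟨c', hc'⟩ := hb
      exact ⟨c + c', fun h => by
        rw [map_add, LinearMap.add_apply, map_add, LinearMap.add_apply, hc, hc']⟩
    | hom p d hd =>
      induction x using homogeneous_induction ℳ with
      | zero => exact ⟨0, fun h => by rw [pushH_apply]; simp [LinearMap.toSpanSingleton_zero, GrSegre.H_map_zero]⟩
      | hom q x hx => obtain ⟨c, -, hc⟩ := hhom p q d x hd hx; exact ⟨c, hc⟩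
      | add a b ha hb =>
        obtain ⟨c, hc⟩ := ha
        obtain ⟨c', hc'⟩ := hb
        exact ⟨c + c', fun h => by
          rw [map_add, LinearMap.add_apply, hc, hc', pushH_add, map_add]⟩
  choose F hF using hex
  let ε₀ : D → (M →ₗ[R] K) := fun d =>
    { toFun := F d
      map_add' := fun x y => huniq _ _ fun h => by
        rw [map_add, LinearMap.add_apply, hF, hF, hF, pushH_add, map_add]
      map_smul' := fun r x => huniq _ _ fun h => by
        rw [RingHom.id_apply, hK.map_smul, hF, hF, pushH_smul] }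
  let εL : D →ₗ[R] (M →ₗ[R] K) :=
    { toFun := ε₀
      map_add' := fun a b => LinearMap.ext fun x => huniq _ _ fun h => by
        change βK (F (a + b) x) h = βK (F a x + F b x) h
        rw [map_add, LinearMap.add_apply, hF, hF, hF, map_add, LinearMap.add_apply]
      map_smul' := fun r a => LinearMap.ext fun x => huniq _ _ fun h => by
        change βK (F (r • a) x) h = βK (r • F a x) h
        rw [hK.map_smul, hF, hF, hD.map_smul, LinearMap.map_smul] }
  obtain ⟨s, dg, g, hg, hgs⟩ := exists_free_presentation (R := R) ℳ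
  obtain ⟨t, r, hr⟩ := Submodule.fg_iff_exists_fin_generating_family.1
    (IsNoetherian.noetherian (LinearMap.ker (Fintype.linearCombination R g)))
  have hexact : Function.Exact (Fintype.linearCombination R r) (Fintype.linearCombination R g) := by
    rw [LinearMap.exact_iff, Fintype.range_linearCombination, hr]
  have hgen : ∀ y : EM.H m n, ∃ hs : Fin s → I.H m n, y = ∑ a, pushH m n I EM (g a) (hs a) := by
    intro y
    obtain ⟨w, hw⟩ := exists_gens m.toIdeal g hn hgs (Hequiv EM m n y)
    refine ⟨fun a => (Hequiv I m n).symm (w a), (Hequiv EM m n).injective (hw.trans ?_)⟩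
    rw [map_sum]
    exact Finset.sum_congr rfl fun a _ => by
      rw [pushH_apply, LinearEquiv.apply_symm_apply, LinearEquiv.apply_symm_apply]
  have hinj : Function.Injective εL := by
    refine (injective_iff_map_eq_zero _).2 fun d hd => gdual_ext hD fun y => ?_
    obtain ⟨hs, rfl⟩ := hgen y
    rw [map_sum]
    refine Finset.sum_eq_zero fun a _ => ?_
    rw [← hF, show F d (g a) = 0 from LinearMap.congr_fun hd (g a), map_zero, LinearMap.zero_apply]
  have hgr : ∀ (p : ℤ) (d : D), d ∈ 𝒟 p → _root_.GrLC.IsGrHomDeg ℳ 𝒦 (εL d) p := by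
    intro p d hd q x hx
    obtain ⟨c, hc, hch⟩ := hhom p q d x hd hx
    rw [add_comm]
    rwa [show εL d x = c from huniq _ _ fun h => (hF d x h).trans (hch h).symm]
  have hsurj : Function.Surjective εL := by
    intro f
    obtain ⟨S, -, hS⟩ := exists_sum_cptHom 𝒜 ℳ 𝒦 f
    suffices h : ∀ (p : ℤ) (f : M →ₗ[R] K), _root_.GrLC.IsGrHomDeg ℳ 𝒦 f p → ∃ d, εL d = f by
      choose ds hds using fun p => h p _ (cptHom_isGrHomDeg (𝒜 := 𝒜) ℳ 𝒦 f p)
      exact ⟨∑ p ∈ S, ds p, by rw [map_sum]; simp_rw [hds]; exact hS⟩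
    clear f S hS
    intro p f hf
    let Φ₀ : (Fin s → I.H m n) → k := fun hs => ∑ a, βK (f (g a)) (hs a)
    have hwd : ∀ hs hs' : Fin s → I.H m n,
        (∑ a, pushH m n I EM (g a) (hs a)) = ∑ a, pushH m n I EM (g a) (hs' a) → Φ₀ hs = Φ₀ hs' := by
      intro hs hs' he
      obtain ⟨w, hw⟩ := exists_relations m.toIdeal g hn hgs r hexact
        (fun a => Hequiv I m n (hs a - hs' a)) (by
          have := congrArg (Hequiv EM m n) (sub_eq_zero.2 he)
          rw [map_zero, ← Finset.sum_sub_distrib, map_sum] at this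
          rw [← this]
          exact Finset.sum_congr rfl fun a _ => by
            rw [← map_sub, pushH_apply, LinearEquiv.apply_symm_apply])
      rw [← sub_eq_zero]
      change (∑ a, βK (f (g a)) (hs a)) - ∑ a, βK (f (g a)) (hs' a) = 0
      rw [← Finset.sum_sub_distrib]
      have h1 : ∀ a, hs a - hs' a = ∑ b, r b a • (Hequiv I m n).symm (w b) := fun a => by
        refine (Hequiv I m n).injective ((hw a).trans ?_)
        rw [map_sum]
        exact Finset.sum_congr rfl fun b _ => by rw [map_smul, LinearEquiv.apply_symm_apply]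
      calc ∑ a, (βK (f (g a)) (hs a) - βK (f (g a)) (hs' a))
          = ∑ a, ∑ b, βK (r b a • f (g a)) ((Hequiv I m n).symm (w b)) :=
            Finset.sum_congr rfl fun a _ => by
              rw [← map_sub, h1, map_sum]
              exact Finset.sum_congr rfl fun b _ => (hK.map_smul _ _ _).symm
        _ = 0 := by
            rw [Finset.sum_comm]
            refine Finset.sum_eq_zero fun b _ => ?_
            rw [← LinearMap.sum_apply, ← map_sum]
            have hb : Fintype.linearCombination R g (r b) = 0 :=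
              LinearMap.mem_ker.1 (hr ▸ Submodule.subset_span ⟨b, rfl⟩)
            have hb' := congrArg f hb
            rw [Fintype.linearCombination_apply, map_sum, map_zero] at hb'
            simp only [map_smul] at hb'
            rw [hb', map_zero, LinearMap.zero_apply]
    choose W hW using hgen
    let Φ : EM.H m n →ₗ[k] k :=
      { toFun := fun y => Φ₀ (W y)
        map_add' := fun y z => by
          rw [hwd (W (y + z)) (W y + W z) (by
            rw [← hW]
            conv_lhs => rw [hW y, hW z, ← Finset.sum_add_distrib]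
            exact Finset.sum_congr rfl fun a _ => (map_add _ _ _).symm)]
          simp only [Φ₀, Pi.add_apply, map_add, Finset.sum_add_distrib]
        map_smul' := fun c y => by
          rw [hwd (W (c • y)) (c • W y) (by
            rw [← hW]
            conv_lhs => rw [hW y, Finset.smul_sum]
            exact Finset.sum_congr rfl fun a _ => by
              rw [Pi.smul_apply, ← algebraMap_smul R c, ← map_smul, algebraMap_smul])]
          simp only [Φ₀, Pi.smul_apply, map_smul, smul_eq_mul, Finset.mul_sum, RingHom.id_apply] }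
    have hΦ : ∀ hs : Fin s → I.H m n,
        Φ (∑ a, pushH m n I EM (g a) (hs a)) = ∑ a, βK (f (g a)) (hs a) :=
      fun hs => hwd _ hs (hW _).symm
    obtain ⟨d, hd, hdy⟩ := hD.exists_eq p Φ
    have hall : ∀ y, βD d y = Φ y := by
      intro y
      induction y using homogeneous_induction (EM.Hgr m n) with
      | zero => simp
      | add a b ha hb => rw [map_add, map_add, ha, hb]
      | hom j y hy =>
        by_cases e : j = -p
        · subst e; exact hdy y hy
        · rw [hD.vanish p d hd j e y hy]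
          have hy' : y = ∑ a, pushH m n I EM (g a) (cpt (I.Hgr m n) (j - dg a) (W y a)) := by
            conv_lhs => rw [← cpt_of_mem (EM.Hgr m n) hy, hW y, map_sum]
            refine Finset.sum_congr rfl fun a _ => ?_
            generalize W y a = h
            induction h using homogeneous_induction (I.Hgr m n) with
            | zero => simp
            | add u v hu hv => simp only [map_add, hu, hv]
            | hom i h hh =>
              rw [cpt_of_mem_ite (I.Hgr m n) _ hh, cpt_of_mem_ite (EM.Hgr m n) _ (pushH_mem I EM (hg a) hh)]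
              by_cases e2 : i = j - dg a
              · rw [if_pos e2, if_pos (by omega)]
              · rw [if_neg e2, if_neg (by omega), map_zero]
          rw [hy', hΦ]
          refine (Finset.sum_eq_zero fun a _ => ?_).symm
          exact hK.vanish (dg a + p) _ (hf _ _ (hg a)) (j - dg a) (by omega) _ (cpt_mem _ _ _)
    refine ⟨d, LinearMap.ext fun x => huniq _ _ fun h => ?_⟩
    change βK (F d x) h = _
    rw [hF, hall]
    obtain ⟨v, rfl⟩ := hgs x
    rw [Fintype.linearCombination_apply]
    have e1 : pushH m n I EM (∑ a, v a • g a) h = ∑ a, pushH m n I EM (g a) (v a • h) := by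
      have := map_sum (AddMonoidHom.mk' (fun x => pushH m n I EM x h) fun a b => pushH_add I EM a b h)
        (fun a => v a • g a) Finset.univ
      refine this.trans (Finset.sum_congr rfl fun a _ => ?_)
      exact pushH_smul I EM _ _ _
    rw [e1, hΦ, map_sum, map_sum, LinearMap.sum_apply]
    exact Finset.sum_congr rfl fun a _ => by rw [LinearMap.map_smul, hK.map_smul]
  exact ⟨LinearEquiv.ofBijective εL ⟨hinj, hsurj⟩, hgr⟩

end Groth.Agent.GrDual
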