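import Groth.Agent.GrDual.TorsLoc
import Groth.Agent.GrDual.Descent
import Groth.Agent.GrLC.Compare
import Groth.Agent.GrBass.Main
import Groth.Agent.LocCoh.BaseChangeIso
import Groth.Agent.DualCx.GorNormal
import Groth.Agent.InjHull.Noetherian
import Groth.Agent.InjHull.Matlis
import Groth.Agent.Gor.LocCohCriterion
import Groth.Agent.GrLC.StarCM
import Mathlib.RingTheory.KrullDimension.Basic

/-!
# The top graded local cohomology of a *local ring and the Gorenstein property

`exists_hull`: for `R_m` Gorenstein the localisation of `H^n_m(R)` is the injective hull of `k(m)`;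
`isGorensteinLocalRing`: conversely, *injectivity of `H^n_m(R)` makes `R_m` Gorenstein.
-/

set_option autoImplicit false
set_option linter.unusedSectionVars false
universe u

open CategoryTheory CategoryTheory.Abelian DirectSum IsLocalRing

noncomputable section

namespace Groth.Agent.GrDual.GorTop

open _root_.Groth.Agent.GrLC

/-- a power torsion module over a local ring with `Ext¹(k, V) = 0` is injective -/
theorem injective_of_ext_one {A : Type u} [CommRing A] [IsLocalRing A] [IsNoetherianRing A]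
    (V : Type u) [AddCommGroup V] [Module A V]
    (htor : ∀ v : V, ∃ k : ℕ, ∀ r ∈ maximalIdeal A ^ k, r • v = 0)
    (h1 : Subsingleton (Ext.{u} (ModuleCat.of A (ResidueField A)) (ModuleCat.of A V) 1)) :
    Module.Injective A V := by
  obtain ⟨E, _, _, f, hf⟩ := InjHull.Basic.exists_isInjectiveHull A V
  suffices hsurj : Function.Surjective f from
    InjHull.Basic.injective_of_equiv hf.isInjective (LinearEquiv.ofBijective f ⟨hf.injective, hsurj⟩).symm
  -- `E` is torsion
  have hE : ∀ y : E, y ∈ InjHull.Noetherian.Gam (maximalIdeal A) E := by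
    obtain ⟨C, hC⟩ := InjHull.Basic.exists_isCompl_of_injective _
      (InjHull.Noetherian.injective_gam hf.isInjective (maximalIdeal A))
    suffices hCbot : C = ⊥ by
      intro y
      have := hC.sup_eq_top
      rw [hCbot, sup_bot_eq] at this
      exact this ▸ Submodule.mem_top
    by_contra hne
    obtain ⟨z, hz, hz0⟩ := (Submodule.ne_bot_iff _).mp hne
    obtain ⟨a, x, hxz, hne'⟩ := InjHull.Basic.exists_smul_mem_range hf.toIsEssentialInj hz0
    have hmem : f x ∈ InjHull.Noetherian.Gam (maximalIdeal A) E := by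
      obtain ⟨k, hk⟩ := htor x
      exact InjHull.Noetherian.mem_gam.mpr ⟨k, fun r hr => by rw [← map_smul, hk r hr, map_zero]⟩
    exact hne' (Submodule.disjoint_def.mp hC.disjoint _ (hxz ▸ hmem) (C.smul_mem a hz))
  let Q := E ⧸ LinearMap.range f
  let S : ShortComplex (ModuleCat.{u} A) := ShortComplex.mk (ModuleCat.ofHom f)
    (ModuleCat.ofHom (LinearMap.range f).mkQ) (by ext x; exact (Submodule.Quotient.mk_eq_zero _).mpr ⟨x, rfl⟩)
  have hS : S.ShortExact := ModuleCat.shortComplex_shortExact _ (LinearMap.exact_map_mkQ_range f)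
    hf.injective (Submodule.mkQ_surjective _)
  -- no socle
  have hsoc : ∀ q : Q, (∀ a ∈ maximalIdeal A, a • q = 0) → q = 0 := fun q hq => by
    let φ : ResidueField A →ₗ[A] Q := Submodule.liftQ (maximalIdeal A) (LinearMap.toSpanSingleton A Q q)
      fun a ha => by rw [LinearMap.mem_ker, LinearMap.toSpanSingleton_apply, hq a ha]
    obtain ⟨ψ, hψ⟩ := Ext.covariant_sequence_exact₃ (ModuleCat.of A (ResidueField A)) hS
      (Ext.mk₀ (ModuleCat.ofHom φ : ModuleCat.of A (ResidueField A) ⟶ S.X₃)) (zero_add 1)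
      (h1.elim _ _)
    obtain ⟨ψ, rfl⟩ := (Ext.mk₀_bijective _ _).2 ψ
    rw [Ext.mk₀_comp_mk₀] at hψ
    have hφ := congrArg (fun t => t.hom (residue A 1)) ((Ext.mk₀_bijective _ _).1 hψ)
    have hq1 : φ (residue A 1) = q := one_smul A q
    rw [← hq1]
    refine hφ.symm.trans ?_
    change (LinearMap.range f).mkQ (ψ.hom (residue A 1)) = 0
    refine (Submodule.Quotient.mk_eq_zero _).mpr ?_
    set e : E := ψ.hom (residue A 1)
    by_cases he : e = 0
    · rw [he]; exact zero_mem _
    obtain ⟨a, x, hxe, hne⟩ := InjHull.Basic.exists_smul_mem_range hf.toIsEssentialInj he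
    have hau : IsUnit a := by
      by_contra hau
      refine hne ?_
      change a • ψ.hom (residue A 1) = 0
      rw [← map_smul, Algebra.smul_def]
      rw [show algebraMap A (ResidueField A) a = 0 from
        (residue_eq_zero_iff a).mpr ((mem_maximalIdeal a).mpr hau), zero_mul, map_zero]
    refine ⟨hau.unit⁻¹.1 • x, ?_⟩
    rw [map_smul, hxe, smul_smul, hau.val_inv_mul, one_smul]
  intro y
  have hker : ∀ (k : ℕ) (q : Q), (∀ r ∈ maximalIdeal A ^ k, r • q = 0) → q = 0 := by
    intro k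
    induction k with
    | zero => exact fun q hq => by simpa using hq 1 (by simp)
    | succ k ih =>
      exact fun q hq => hsoc q fun a ha => ih _ fun r hr => by
        rw [smul_smul]; exact hq _ (pow_succ (maximalIdeal A) k ▸ Ideal.mul_mem_mul hr ha)
  obtain ⟨k, hk⟩ := InjHull.Noetherian.mem_gam.mp (hE y)
  exact (Submodule.Quotient.mk_eq_zero _).mp (hker k (Submodule.Quotient.mk y) fun r hr => by
    rw [← Submodule.Quotient.mk_smul, hk r hr, Submodule.Quotient.mk_zero])

/-- vanishing below and above the dimension for a Cohen–Macaulay local ring -/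
theorem subsingleton_H_of_cm {A : Type u} [CommRing A] [_root_.LocCoh.IsCohenMacaulayLocalRing A] {d : ℕ}
    (hd : ringKrullDim A = d) {i : ℕ} (hi : i ≠ d) : Subsingleton (_root_.LocCoh.H (maximalIdeal A) i A) := by
  rcases Nat.lt_or_gt_of_ne hi with h | h
  · have h1 := _root_.LocCoh.IsCohenMacaulayLocalRing.supportDim_eq_depth (R := A)
    rw [Module.supportDim_self_eq_ringKrullDim, hd] at h1
    exact (LocCoh.H_of_idealDepth_eq (maximalIdeal A) d A (WithBot.coe_injective h1).symm).1 i h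
  · exact LocCoh.cdLE_of_ringKrullDim_le (maximalIdeal A) d hd.le A i h

/-- two nonzero elements of an essential extension of the residue field have a common nonzero multiple -/
theorem exists_common_multiple {R : Type u} [CommRing R] (p : Ideal R) [p.IsPrime] {V : Type u}
    [AddCommGroup V] [Module R V] [Module (Localization.AtPrime p) V]
    [IsScalarTower R (Localization.AtPrime p) V]
    {g : ResidueField (Localization.AtPrime p) →ₗ[Localization.AtPrime p] V}
    (hg : _root_.InjHull.IsEssentialInj g) {u v : V} (hu : u ≠ 0) (hv : v ≠ 0) :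
    ∃ r r' : R, r • u = r' • v ∧ r • u ≠ 0 := by
  obtain ⟨a, c, hca, hne⟩ := InjHull.Basic.exists_smul_mem_range hg hu
  obtain ⟨b, c', hcb, hne'⟩ := InjHull.Basic.exists_smul_mem_range hg hv
  obtain ⟨w, hw⟩ := IsLocalRing.residue_surjective (c / c')
  have hc' : c' ≠ 0 := fun h => hne' (by rw [← hcb, h, map_zero])
  have hab : a • u = (w * b) • v := by
    rw [← hca, mul_smul, ← hcb, ← map_smul]
    congr 1
    rw [Algebra.smul_def]
    change c = residue _ w * c'
    rw [hw, div_mul_cancel₀ c hc']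
  obtain ⟨⟨r, s⟩, hrs⟩ := IsLocalization.surj p.primeCompl a
  obtain ⟨⟨r', s'⟩, hrs'⟩ := IsLocalization.surj p.primeCompl (w * b)
  have h1 : ((s' : R) * r) • u =
      (algebraMap R (Localization.AtPrime p) s' * algebraMap R (Localization.AtPrime p) s) • a • u := by
    rw [← algebraMap_smul (Localization.AtPrime p) ((s' : R) * r), map_mul, ← hrs, smul_smul,
      mul_assoc, mul_comm a]
  refine ⟨(s' : R) * r, (s : R) * r', ?_, ?_⟩
  · rw [h1, ← algebraMap_smul (Localization.AtPrime p) ((s : R) * r'), map_mul, ← hrs', hab, smul_smul]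
    congr 1
    dsimp only
    ring
  · rw [h1]
    exact fun h => hne (((IsLocalization.map_units _ s').mul (IsLocalization.map_units _ s)).smul_eq_zero.mp h)

variable {ι : Type} [AddCommGroup ι] [DecidableEq ι] [Module.Free ℤ ι] [Module.Finite ℤ ι]
variable {R : Type u} [CommRing R] [IsNoetherianRing R] {𝒜 : ι → AddSubgroup R} [GradedRing 𝒜]
variable {m : HomogeneousIdeal 𝒜} (hm : _root_.GrLC.IsStarLocal 𝒜 m) [m.toIdeal.IsPrime]

omit [Module.Free ℤ ι] [Module.Finite ℤ ι] [m.toIdeal.IsPrime] in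
theorem htor {M : Type u} [AddCommGroup M] [Module R M] {ℳ : ι → AddSubgroup M} [DirectSum.Decomposition ℳ]
    [SetLike.GradedSMul 𝒜 ℳ] (I : _root_.GrLC.StarInjRes 𝒜 ℳ) (i : ℕ) (x : I.H m i) :
    ∃ k : ℕ, ∀ r ∈ m.toIdeal ^ k, r • x = 0 := by
  obtain ⟨z, rfl⟩ := Submodule.Quotient.mk_surjective _ x
  obtain ⟨k, hk⟩ := z.2.1
  exact ⟨k, fun r hr => by
    rw [← Submodule.Quotient.mk_smul, show r • z = 0 from Subtype.ext (hk r hr), Submodule.Quotient.mk_zero]⟩

variable (I : _root_.GrLC.StarInjRes 𝒜 𝒜)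

/-- localised graded local cohomology is local cohomology of the local ring -/
theorem nonempty_localized_equiv (i : ℕ) :
    Nonempty (LocalizedModule m.toIdeal.primeCompl (I.H m i) ≃ₗ[Localization.AtPrime m.toIdeal]
      _root_.LocCoh.H (maximalIdeal (Localization.AtPrime m.toIdeal)) i (Localization.AtPrime m.toIdeal)) := by
  let S := m.toIdeal.primeCompl
  let e := Hequiv I m i
  let e' : LocalizedModule S (I.H m i) ≃ₗ[Localization.AtPrime m.toIdeal]
      LocalizedModule S (_root_.LocCoh.H m.toIdeal i R) :=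
    LinearEquiv.ofBijective (LocalizedModule.map S e.toLinearMap)
      ⟨LocalizedModule.map_injective S _ e.injective, LocalizedModule.map_surjective S _ e.surjective⟩
  obtain ⟨φ⟩ := LocCoh.BaseChangeIso.nonempty_H_localized m.toIdeal S R i
  obtain ⟨ψ⟩ := Descent.nonempty_self_equiv m.toIdeal
  rw [← Localization.AtPrime.map_eq_maximalIdeal]
  exact ⟨(e'.trans φ).trans (LocCoh.HLinearEquiv _ i ψ.symm)⟩

theorem ringKrullDim_eq {n : ℕ} (hn : m.toIdeal.height = n) :
    ringKrullDim (Localization.AtPrime m.toIdeal) = n := by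
  rw [IsLocalization.AtPrime.ringKrullDim_eq_height m.toIdeal, hn]
  rfl

/-- for `R_m` Gorenstein, `H^n_m(R)_m` is the injective hull of the residue field -/
theorem exists_hull {n : ℕ} (hn : m.toIdeal.height = n)
    [_root_.LocCoh.IsGorensteinLocalRing (Localization.AtPrime m.toIdeal)] :
    ∃ g : ResidueField (Localization.AtPrime m.toIdeal) →ₗ[Localization.AtPrime m.toIdeal]
      LocalizedModule m.toIdeal.primeCompl (I.H m n), _root_.InjHull.IsInjectiveHull g := by
  obtain ⟨g, hg⟩ := DualCx.GorNormal.exists_hull (ringKrullDim_eq (m := m) hn)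
  obtain ⟨Φ⟩ := nonempty_localized_equiv (m := m) I n
  exact ⟨_, InjHull.Basic.isInjectiveHull_equiv_comp hg Φ.symm⟩

include hm in
theorem starInj_H {n : ℕ} (hn : m.toIdeal.height = n)
    [_root_.LocCoh.IsGorensteinLocalRing (Localization.AtPrime m.toIdeal)] :
    (letI := Hdec I m n; haveI := Hgr_gradedSMul I m n; _root_.GrLC.IsStarInj 𝒜 (I.Hgr m n)) := by
  letI := Hdec I m n
  haveI := Hgr_gradedSMul I m n
  obtain ⟨g, hg⟩ := exists_hull (m := m) I hn
  exact TorsLoc.starInj_of_injective hm (htor I n) hg.isInjective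

/-- localised `Ext(R/m, X)` vanishes for *injective `X` -/
theorem subsingleton_ext_localized {X : Type u} [AddCommGroup X] [Module R X] {𝒳 : ι → AddSubgroup X}
    [DirectSum.Decomposition 𝒳] [SetLike.GradedSMul 𝒜 𝒳] (hX : _root_.GrLC.IsStarInj 𝒜 𝒳)
    (j : ℕ) (hj : 1 ≤ j) :
    Subsingleton (Ext.{u} (ModuleCat.of (Localization.AtPrime m.toIdeal)
      (ResidueField (Localization.AtPrime m.toIdeal)))
      (ModuleCat.of (Localization.AtPrime m.toIdeal) (LocalizedModule m.toIdeal.primeCompl X)) j) := by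
  have h0 : Subsingleton (Ext.{u} (ModuleCat.of R (R ⧸ m.toIdeal)) (ModuleCat.of R X) j) := by
    letI := quotDec 𝒜 m
    haveI := quotGradedSMul m
    exact ext_subsingleton_of_starInj hX (_root_.GrLC.quotGr 𝒜 m) j hj
  obtain ⟨hs, -⟩ := GrBass.ExtLoc.key R m.toIdeal.primeCompl (ModuleCat.of R X) j
    (ModuleCat.of R (R ⧸ m.toIdeal))
  obtain ⟨iT⟩ := GrBass.exists_quot_iso m.toIdeal m.toIdeal
  obtain ⟨iM⟩ := GrBass.exists_module_iso X m.toIdeal
  have iK : ModuleCat.of (Localization.AtPrime m.toIdeal) (Localization.AtPrime m.toIdeal ⧸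
      m.toIdeal.map (algebraMap R (Localization.AtPrime m.toIdeal))) ≅
        ModuleCat.of (Localization.AtPrime m.toIdeal) (ResidueField (Localization.AtPrime m.toIdeal)) :=
    (Submodule.quotEquivOfEq _ _ Localization.AtPrime.map_eq_maximalIdeal).toModuleIso
  let ψ := GrBass.extIso (iT ≪≫ iK) iM j
  refine subsingleton_of_forall_eq 0 fun y => ?_
  obtain ⟨e, s, hes⟩ := hs (ψ.symm y)
  rw [h0.elim e 0, Ext.mapExactFunctor_zero] at hes
  have := congrArg ψ hes
  rw [map_smul, ψ.apply_symm_apply, map_zero] at this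
  exact (IsLocalization.map_units _ s).smul_eq_zero.mp this

/-- *injective cohomology in a single degree makes `R_m` Gorenstein -/
theorem isGorensteinLocalRing_of_localVanish {n : ℕ} (hloc : ∀ i, i ≠ n → Subsingleton
    (_root_.LocCoh.H (maximalIdeal (Localization.AtPrime m.toIdeal)) i (Localization.AtPrime m.toIdeal)))
    {X : _root_.GrLC.GMod.{u} 𝒜} (φ : I.H m n ≃ₗ[R] X.carrier) (hX : _root_.GrLC.IsStarInj 𝒜 X.gr) :
    _root_.LocCoh.IsGorensteinLocalRing (Localization.AtPrime m.toIdeal) := by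
  let S := m.toIdeal.primeCompl
  let φ' : LocalizedModule S (I.H m n) ≃ₗ[Localization.AtPrime m.toIdeal] LocalizedModule S X.carrier :=
    LinearEquiv.ofBijective (LocalizedModule.map S φ.toLinearMap)
      ⟨LocalizedModule.map_injective S _ φ.injective, LocalizedModule.map_surjective S _ φ.surjective⟩
  obtain ⟨Φ⟩ := nonempty_localized_equiv (m := m) I n
  have htorV : ∀ v : LocalizedModule S X.carrier,
      ∃ k : ℕ, ∀ r ∈ maximalIdeal (Localization.AtPrime m.toIdeal) ^ k, r • v = 0 := fun v => by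
    obtain ⟨k, hk⟩ := LocCoh.isPowerTorsion_H (I := maximalIdeal (Localization.AtPrime m.toIdeal)) (i := n) (ModuleCat.of (Localization.AtPrime m.toIdeal) (Localization.AtPrime m.toIdeal)) (Φ (φ'.symm v))
    exact ⟨k, fun r hr => (Φ.injective.comp φ'.symm.injective) (by
      simp only [Function.comp_apply, map_smul, map_zero]; exact hk r hr)⟩
  have hinj : Module.Injective (Localization.AtPrime m.toIdeal)
      (_root_.LocCoh.H (maximalIdeal (Localization.AtPrime m.toIdeal)) n (Localization.AtPrime m.toIdeal)) :=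
    InjHull.Basic.injective_of_equiv
      (injective_of_ext_one _ htorV (subsingleton_ext_localized hX 1 le_rfl)) (φ'.symm.trans Φ)
  exact Gor.LocCohCriterion.isGorensteinLocalRing n hloc hinj

/-- the same from graded vanishing -/
theorem isGorensteinLocalRing_of_vanish {n : ℕ} (hvan : ∀ i, i ≠ n → Subsingleton (I.H m i))
    {X : _root_.GrLC.GMod.{u} 𝒜} (φ : I.H m n ≃ₗ[R] X.carrier) (hX : _root_.GrLC.IsStarInj 𝒜 X.gr) :
    _root_.LocCoh.IsGorensteinLocalRing (Localization.AtPrime m.toIdeal) := by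
  refine isGorensteinLocalRing_of_localVanish I (fun i hi => ?_) φ hX
  obtain ⟨Φi⟩ := nonempty_localized_equiv (m := m) I i
  have := hvan i hi
  have : Subsingleton (LocalizedModule m.toIdeal.primeCompl (I.H m i)) :=
    inferInstanceAs (Subsingleton (LocalizedModule m.toIdeal.primeCompl (I.H m i)))
  exact Φi.symm.toEquiv.subsingleton

/-- *injective top cohomology makes `R_m` Gorenstein -/
theorem isGorensteinLocalRing [_root_.LocCoh.IsCohenMacaulayLocalRing (Localization.AtPrime m.toIdeal)]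
    {n : ℕ} (hn : m.toIdeal.height = n) {X : _root_.GrLC.GMod.{u} 𝒜} (φ : I.H m n ≃ₗ[R] X.carrier)
    (hX : _root_.GrLC.IsStarInj 𝒜 X.gr) :
    _root_.LocCoh.IsGorensteinLocalRing (Localization.AtPrime m.toIdeal) := by
  exact isGorensteinLocalRing_of_localVanish I
    (fun i hi => subsingleton_H_of_cm (ringKrullDim_eq (m := m) hn) hi) φ hX

end Groth.Agent.GrDual.GorTop

namespace Groth.Agent.GrDual.GorTop

open _root_.Groth.Agent.GrLC

variable {ι : Type} [AddCommGroup ι] [DecidableEq ι] [Module.Free ℤ ι] [Module.Finite ℤ ι]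
variable {R : Type u} [CommRing R] [IsNoetherianRing R] {𝒜 : ι → AddSubgroup R} [GradedRing 𝒜]
variable {m : HomogeneousIdeal 𝒜} (hm : _root_.GrLC.IsStarLocal 𝒜 m) [m.toIdeal.IsPrime]
variable (I : _root_.GrLC.StarInjRes 𝒜 𝒜)

include hm in
/-- for `R_m` Gorenstein, `H^n_m(R)` is a shift of the *injective hull of `R/m` -/
theorem exists_equiv_starHull {n : ℕ} (hn : m.toIdeal.height = n)
    [_root_.LocCoh.IsGorensteinLocalRing (Localization.AtPrime m.toIdeal)]
    {E' : Type u} [AddCommGroup E'] [Module R E'] {𝓔 : ι → AddSubgroup E'}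
    [DirectSum.Decomposition 𝓔] [SetLike.GradedSMul 𝒜 𝓔]
    {e : (R ⧸ m.toIdeal) →ₗ[R] E'} (he : _root_.GrLC.IsStarInjHull 𝒜 (_root_.GrLC.quotGr 𝒜 m) 𝓔 e) :
    ∃ (g : ι) (φ : I.H m n ≃ₗ[R] E'), _root_.GrLC.IsGrHomDeg (I.Hgr m n) 𝓔 φ.toLinearMap g := by
  letI := Hdec I m n
  haveI := Hgr_gradedSMul I m n
  letI := quotDec 𝒜 m
  haveI := quotGradedSMul m
  have hHinj : _root_.GrLC.IsStarInj 𝒜 (I.Hgr m n) := starInj_H hm I hn
  set S := m.toIdeal.primeCompl
  let L := LocalizedModule.mkLinearMap S (I.H m n)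
  have hL : Function.Injective L := TorsLoc.injective_mkLinearMap (𝒳 := I.Hgr m n) hm (htor I n)
  obtain ⟨gh, hgh⟩ := exists_hull (m := m) I hn
  -- a homogeneous socle element
  obtain ⟨d, z, hzd, hzm, hz0⟩ :
      ∃ (d : ι) (z : I.H m n), z ∈ I.Hgr m n d ∧ (∀ a ∈ m.toIdeal, a • z = 0) ∧ z ≠ 0 := by
    obtain ⟨y, hy⟩ : ∃ y : I.H m n, y ≠ 0 := by
      by_contra h
      push Not at h
      haveI : Subsingleton (LocalizedModule S (I.H m n)) := ⟨fun a b => by
        induction a using LocalizedModule.induction_on with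
        | h x s => induction b using LocalizedModule.induction_on with
          | h x' s' => rw [h x, h x', LocalizedModule.zero_mk, LocalizedModule.zero_mk]⟩
      exact one_ne_zero (hgh.injective (Subsingleton.elim (gh 1) (gh 0)))
    obtain ⟨g₀, hg₀⟩ := exists_cpt_ne_zero (I.Hgr m n) hy
    obtain ⟨k, hk⟩ := htor I n (cpt (I.Hgr m n) g₀ y)
    suffices key : ∀ (k : ℕ) (d : ι) (z : I.H m n), z ∈ I.Hgr m n d →
        (∀ r ∈ m.toIdeal ^ k, r • z = 0) → z ≠ 0 →
        ∃ (d : ι) (z : I.H m n), z ∈ I.Hgr m n d ∧ (∀ a ∈ m.toIdeal, a • z = 0) ∧ z ≠ 0 from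
      key k g₀ _ (cpt_mem _ g₀ y) hk hg₀
    intro k
    induction k with
    | zero => exact fun d z _ hk hne => absurd (by simpa using hk 1 (by simp)) hne
    | succ k ih =>
      intro d z hz hk hne
      by_cases h : ∀ a ∈ m.toIdeal, a • z = 0
      · exact ⟨d, z, hz, h, hne⟩
      push Not at h
      obtain ⟨a, ha, haz⟩ := h
      obtain ⟨i, hi⟩ : ∃ i, cpt 𝒜 i a • z ≠ 0 := by
        by_contra hc
        push Not at hc
        exact haz (by rw [← sum_cpt 𝒜 a, Finset.sum_smul]; exact Finset.sum_eq_zero fun i _ => hc i)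
      exact ih (i + d) _ (smul_mem_gr (ℳ := I.Hgr m n) (cpt_mem 𝒜 i a) hz) (fun r hr => by
        rw [smul_smul]
        exact hk _ (pow_succ m.toIdeal k ▸
          Ideal.mul_mem_mul hr (show cpt 𝒜 i a ∈ m.toIdeal from m.isHomogeneous i ha))) hi
  let f : (R ⧸ m.toIdeal) →ₗ[R] I.H m n :=
    Submodule.liftQ m.toIdeal (LinearMap.toSpanSingleton R _ z) fun r hr => by
      rw [LinearMap.mem_ker, LinearMap.toSpanSingleton_apply, hzm r hr]
  have hf : _root_.GrLC.IsGrHomDeg (_root_.GrLC.quotGr 𝒜 m) (I.Hgr m n) f d := by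
    rintro j _ ⟨r, hr, rfl⟩
    exact smul_mem_gr (ℳ := I.Hgr m n) (show r ∈ 𝒜 j from hr) hzd
  obtain ⟨φ, hφ, hφe⟩ := starInj_extend_deg hHinj he.grHom he.injective hf
  have hφ1 : φ (e 1) = z := (LinearMap.congr_fun hφe 1).trans (one_smul R z)
  have hfinj : ∀ r : R, r • z = 0 → r ∈ m.toIdeal := fun r hr => by
    by_contra hrm
    exact hz0 (TorsLoc.eq_zero_of_smul (𝒳 := I.Hgr m n) hm (htor I n) hrm hr)
  have hφinj : Function.Injective φ := by
    rw [← LinearMap.ker_eq_bot]
    by_contra hne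
    refine he.essential _ (isHomogeneous_kerDeg 𝓔 hφ) hne ((Submodule.eq_bot_iff _).mpr ?_)
    rintro _ ⟨hx, x, rfl⟩
    obtain ⟨r, rfl⟩ := Ideal.Quotient.mk_surjective x
    have h1 : f (Ideal.Quotient.mk m.toIdeal r) = 0 := (LinearMap.congr_fun hφe _).symm.trans hx
    rw [Ideal.Quotient.eq_zero_iff_mem.mpr (hfinj r h1), map_zero]
  -- retraction
  let 𝓔'' : ι → AddSubgroup E' := fun j => 𝓔 (j + -d)
  letI : DirectSum.Decomposition 𝓔'' := (shiftGMod 𝒜 𝓔 (-d)).dec
  haveI : SetLike.GradedSMul 𝒜 𝓔'' := (shiftGMod 𝒜 𝓔 (-d)).gsmul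
  have hφ' : _root_.GrLC.IsGrHom 𝓔'' (I.Hgr m n) φ := fun j x hx => by
    have := hφ (j + -d) x hx
    rwa [neg_add_cancel_right] at this
  obtain ⟨ρ, hρ, hρφ⟩ := starInj_extend_deg (𝓐 := 𝓔'') (d := -d) he.starInj hφ' hφinj
    (g := (LinearMap.id : E' →ₗ[R] E')) (fun j x hx => hx)
  have hsurj : Function.Surjective φ := fun y => by
    refine ⟨ρ y, ?_⟩
    by_contra hne
    set q := y - φ (ρ y) with hq
    have hq0 : q ≠ 0 := fun h => hne (sub_eq_zero.mp h).symm
    have hρq : ρ q = 0 := by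
      rw [hq, map_sub]
      exact sub_eq_zero.mpr (LinearMap.congr_fun hρφ (ρ y)).symm
    obtain ⟨r, r', hrr, hne1⟩ := exists_common_multiple m.toIdeal hgh.toIsEssentialInj
      (fun h => hz0 (hL (h.trans (map_zero L).symm)) : L z ≠ 0)
      (fun h => hq0 (hL (h.trans (map_zero L).symm)) : L q ≠ 0)
    rw [← map_smul, ← map_smul] at hrr
    have h2 := congrArg ρ (hL hrr)
    rw [map_smul, map_smul, hρq, smul_zero] at h2
    refine hne1 ?_
    rw [← map_smul]
    refine (congrArg L ?_).trans (map_zero L)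
    rw [← hφ1, ← map_smul]
    refine (congrArg φ ?_).trans (map_zero φ)
    have h3 : ρ z = e 1 := by rw [← hφ1]; exact LinearMap.congr_fun hρφ (e 1)
    rw [← h3]
    exact h2
  let Φ := LinearEquiv.ofBijective φ ⟨hφinj, hsurj⟩
  refine ⟨-d, Φ.symm, fun j x hx => ?_⟩
  change Φ.symm x ∈ 𝓔 (j + -d)
  have h : Φ (ρ x) = x := by
    obtain ⟨y, rfl⟩ := hsurj x
    exact congrArg φ (LinearMap.congr_fun hρφ y)
  rw [← h, Φ.symm_apply_apply]
  exact hρ j x hx

end Groth.Agent.GrDual.GorTop
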