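import Groth.Agent.GrDual.Canonical
import Groth.Agent.GrDual.Duality
import Groth.Agent.GrDual.GorTop

/-!
# Gorenstein algebras over a field are those with a shift of `R` as *canonical module
-/

set_option autoImplicit false
set_option linter.unusedSectionVars false
set_option linter.style.haveILetI false
universe u

open DirectSum
open Groth.Agent.GrLC

namespace Groth.Agent.GrDual

variable {k : Type u} [Field k] {R : Type u} [CommRing R] [Algebra k R]
  {σ : Type u} [SetLike σ R] [AddSubgroupClass σ R] {𝒜 : ℤ → σ} [GradedRing 𝒜]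
variable (hB : Base k 𝒜)
variable {E : Type u} [AddCommGroup E] [Module R E] [Module k E] [IsScalarTower k R E]
  {τE : Type u} [SetLike τE E] [AddSubgroupClass τE E] {𝓔 : ℤ → τE} [DirectSum.Decomposition 𝓔]
  [SetLike.GradedSMul 𝒜 𝓔]

section Ring

variable {m : HomogeneousIdeal 𝒜} (hm0 : ∀ n : ℤ, 0 < n → ∀ x ∈ 𝒜 n, x ∈ m.toIdeal)
  {π : E →ₗ[k] k} {e₁ : E} (hπ : IsCoord (𝓔 := 𝓔) (m := m) π e₁)

include hB hm0 hπ in
/-- `R` pairs perfectly with the hull of its residue field. -/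
theorem exists_gdual_ring [IsNoetherianRing R] :
    ∃ β : R →ₗ[k] E →ₗ[k] k, _root_.GrSeg.IsGDual R 𝓔 𝒜 β := by
  refine exists_gdual hB 𝓔 𝒜 hm0 hπ (LinearMap.ringLmapEquivSelf R R E) fun d f hf => ?_
  have h := (show _root_.GrLC.IsGrHomDeg 𝒜 𝓔 f d from hf) 0 1 SetLike.GradedOne.one_mem
  rwa [zero_add] at h

end Ring

variable {H : Type u} [AddCommGroup H] [Module R H] [Module k H] [IsScalarTower k R H]
  {τH : Type u} [SetLike τH H] [AddSubgroupClass τH H] {ℋ : ℤ → τH} [DirectSum.Decomposition ℋ]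
  [SetLike.GradedSMul 𝒜 ℋ]
variable {C : Type u} [AddCommGroup C] [Module R C] [Module k C] [IsScalarTower k R C]
  {τC : Type u} [SetLike τC C] [AddSubgroupClass τC C] {𝒞 : ℤ → τC} [DirectSum.Decomposition 𝒞]
  [SetLike.GradedSMul 𝒜 𝒞]
variable {β : C →ₗ[k] H →ₗ[k] k} {β' : R →ₗ[k] E →ₗ[k] k}

/-- If `H` is a shift of the hull, the dual of `H` is a shift of `R`. -/
theorem exists_shift_of_gdual [IsNoetherianRing R] (hβ : _root_.GrSeg.IsGDual R ℋ 𝒞 β) (hβ' : _root_.GrSeg.IsGDual R 𝓔 𝒜 β')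
    {g : ℤ} (φ : H ≃ₗ[R] E) (hφ : _root_.GrLC.IsGrHomDeg ℋ 𝓔 φ.toLinearMap g) :
    ∃ f : R →ₗ[R] C, Function.Bijective f ∧ _root_.GrLC.IsGrHomDeg 𝒜 𝒞 f g := by
  have hφs : ∀ j, ∀ y ∈ 𝓔 j, φ.symm y ∈ ℋ (j - g) := fun j y hy => by
    obtain ⟨h, rfl⟩ := φ.surjective y
    rw [φ.symm_apply_apply]
    suffices h = cpt ℋ (j - g) h by rw [this]; exact cpt_mem ℋ _ h
    refine φ.injective ?_
    have h1 := map_cptDeg (ℳ := ℋ) (𝒩 := 𝓔) hφ (j - g) h
    rw [show j - g + g = j by abel, show (φ.toLinearMap h) = φ h from rfl, cpt_of_mem 𝓔 hy] at h1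
    exact h1.symm
  obtain ⟨c₀, hc₀, hc₀x⟩ := hβ.exists_eq g ((β' 1) ∘ₗ φ.toLinearMap.restrictScalars k)
  have hfun : ∀ h : H, β c₀ h = β' 1 (φ h) := fun h => by
    induction h using homogeneous_induction ℋ with
    | zero => simp
    | add a b ha hb => rw [map_add, map_add, map_add, ha, hb]
    | hom j h hh =>
      by_cases hj : j = -g
      · subst hj; exact hc₀x h hh
      · rw [hβ.vanish g c₀ hc₀ j hj h hh,
          hβ'.vanish 0 1 SetLike.GradedOne.one_mem (j + g) (by omega) (φ h) (hφ j h hh)]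
  let f : R →ₗ[R] C := LinearMap.toSpanSingleton R C c₀
  have hf : _root_.GrLC.IsGrHomDeg 𝒜 𝒞 f g := fun p r hr => smul_mem_gr (𝒜 := 𝒜) (ℳ := 𝒞) hr hc₀
  have hβf : ∀ (r : R) (h : H), β (r • c₀) h = β' r (φ h) := fun r h => by
    rw [hβ.map_smul, hfun, map_smul, ← hβ'.map_smul, smul_eq_mul, mul_one]
  refine ⟨f, ⟨(injective_iff_map_eq_zero f).2 fun r hr => gdual_ext hβ' fun y => ?_, fun c => ?_⟩, hf⟩
  · rw [← φ.apply_symm_apply y, ← hβf, show r • c₀ = 0 from hr, map_zero, LinearMap.zero_apply]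
  · induction c using homogeneous_induction 𝒞 with
    | zero => exact ⟨0, map_zero f⟩
    | add a b ha hb =>
      obtain ⟨x, rfl⟩ := ha
      obtain ⟨y, rfl⟩ := hb
      exact ⟨x + y, map_add f x y⟩
    | hom j c hc =>
      obtain ⟨r, hr, hrx⟩ := hβ'.exists_eq (j - g) ((β c) ∘ₗ φ.symm.toLinearMap.restrictScalars k)
      refine ⟨r, ?_⟩
      rw [← sub_eq_zero]
      refine hβ.eq_zero j _ (sub_mem ?_ hc) fun h hh => ?_
      · have := hf (j - g) r hr
        rwa [sub_add_cancel] at this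
      · rw [map_sub, LinearMap.sub_apply]
        change β (r • c₀) h - β c h = 0
        rw [hβf, hrx _ (by
          have := hφ (-j) h hh
          rwa [show -j + g = -(j - g) by abel] at this)]
        change β c (φ.symm (φ h)) - β c h = 0
        rw [φ.symm_apply_apply, sub_self]

end Groth.Agent.GrDual
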