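import Groth.Agent.GrDual.Pairing
import Groth.Agent.GrDual.GorCanon
import Groth.Agent.GrDual.Duality

/-!
# Graded duality over a graded algebra with `R₀ = k`

`exists_dual_map`, socles of duals, `R^*` as the hull of the residue field, Artinian = dual of finite.
-/

set_option autoImplicit false
set_option linter.unusedSectionVars false
set_option linter.style.haveILetI false
universe u

open DirectSum
open Groth.Agent.GrLC

noncomputable section

namespace Groth.Agent.GrDual

variable {k : Type u} [Field k] {R : Type u} [CommRing R] [Algebra k R]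

theorem base_of_span {𝒜 : ℤ → Submodule k R} [GradedAlgebra 𝒜] (hpos : ∀ n : ℤ, n < 0 → 𝒜 n = ⊥)
    (h0 : 𝒜 0 = Submodule.span k {(1 : R)}) : Base k 𝒜 where
  pos n hn x hx := by rw [hpos n hn] at hx; exact hx
  alg_mem c := by
    rw [h0, Submodule.mem_span_singleton]
    exact ⟨c, by rw [Algebra.smul_def, mul_one]⟩
  exists_alg x hx := by
    rw [h0, Submodule.mem_span_singleton] at hx
    obtain ⟨c, rfl⟩ := hx
    exact ⟨c, by rw [Algebra.smul_def, mul_one]⟩

variable [IsNoetherianRing R]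
variable {σ : Type u} [SetLike σ R] [AddSubgroupClass σ R] {𝒜 : ℤ → σ} [GradedRing 𝒜]
variable (hB : Base k 𝒜)
variable {H : Type u} [AddCommGroup H] [Module R H] [Module k H] [IsScalarTower k R H]
  {τH : Type u} [SetLike τH H] [AddSubgroupClass τH H] {ℋ : ℤ → τH} [DirectSum.Decomposition ℋ]
  [SetLike.GradedSMul 𝒜 ℋ]
variable {D : Type u} [AddCommGroup D] [Module R D] [Module k D] [IsScalarTower k R D]
  {τD : Type u} [SetLike τD D] [AddSubgroupClass τD D] {𝒟 : ℤ → τD} [DirectSum.Decomposition 𝒟]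
  [SetLike.GradedSMul 𝒜 𝒟]
variable {β : D →ₗ[k] H →ₗ[k] k} (hβ : _root_.GrSeg.IsGDual R ℋ 𝒟 β)

include hβ in
theorem pair_cpt (d : D) {j : ℤ} {x : H} (hx : x ∈ ℋ j) : β d x = β (cpt 𝒟 (-j) d) x := by
  induction d using homogeneous_induction 𝒟 with
  | zero => simp
  | add a b ha hb => simp only [map_add, LinearMap.add_apply, ha, hb]
  | hom p d hd =>
    rw [cpt_of_mem_ite 𝒟 _ hd]
    split_ifs with h
    · rfl
    · rw [map_zero, LinearMap.zero_apply]
      exact hβ.vanish p d hd j (by omega) x hx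

include hβ in
theorem mem_of_vanish {p : ℤ} {d : D} (h : ∀ j, j ≠ -p → ∀ x ∈ ℋ j, β d x = 0) : d ∈ 𝒟 p := by
  suffices hd : d = cpt 𝒟 p d by rw [hd]; exact cpt_mem 𝒟 p d
  rw [← sub_eq_zero]
  refine gdual_ext hβ fun x => ?_
  induction x using homogeneous_induction ℋ with
  | zero => simp
  | add a b ha hb => rw [map_add, ha, hb, add_zero]
  | hom j x hx =>
    rw [map_sub, LinearMap.sub_apply, sub_eq_zero]
    by_cases hj : j = -p
    · rw [pair_cpt hβ d hx, show -j = p by omega]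
    · rw [h j hj x hx]
      exact (hβ.vanish p _ (cpt_mem 𝒟 p d) j hj x hx).symm

section Map

variable {M : Type u} [AddCommGroup M] [Module R M] [Module k M] [IsScalarTower k R M]
  {τM : Type u} [SetLike τM M] [AddSubgroupClass τM M] (ℳ : ℤ → τM) [DirectSum.Decomposition ℳ]

include hβ in
/-- a compatible pairing of `M` with `H` is induced by a map into the dual of `H` -/
theorem exists_dual_map (γ : M →ₗ[k] H →ₗ[k] k) (hγ : ∀ (r : R) (x : M) (h : H), γ (r • x) h = γ x (r • h))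
    (e : ℤ) (hv : ∀ (p : ℤ) (x : M), x ∈ ℳ p → ∀ j, j ≠ -(p + e) → ∀ h ∈ ℋ j, γ x h = 0) :
    ∃ f : M →ₗ[R] D, _root_.GrLC.IsGrHomDeg ℳ 𝒟 f e ∧ ∀ x h, β (f x) h = γ x h := by
  have hex : ∀ x : M, ∃ d : D, ∀ h, β d h = γ x h := fun x => by
    induction x using homogeneous_induction ℳ with
    | zero => exact ⟨0, fun h => by simp⟩
    | add a b ha hb =>
      obtain ⟨d, hd⟩ := ha
      obtain ⟨d', hd'⟩ := hb
      exact ⟨d + d', fun h => by rw [map_add, map_add, LinearMap.add_apply, LinearMap.add_apply, hd, hd']⟩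
    | hom p x hx =>
      obtain ⟨d, hd, hdh⟩ := hβ.exists_eq (p + e) (γ x)
      refine ⟨d, fun h => ?_⟩
      induction h using homogeneous_induction ℋ with
      | zero => simp
      | add a b ha hb => rw [map_add, map_add, ha, hb]
      | hom j h hh =>
        by_cases hj : j = -(p + e)
        · exact hdh h (hj ▸ hh)
        · rw [hβ.vanish _ d hd j hj h hh, hv p x hx j hj h hh]
  choose F hF using hex
  have huniq : ∀ d d' : D, (∀ h, β d h = β d' h) → d = d' := fun d d' h => by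
    rw [← sub_eq_zero]
    exact gdual_ext hβ fun x => by rw [map_sub, LinearMap.sub_apply, h x, sub_self]
  refine ⟨{ toFun := F, map_add' := fun a b => huniq _ _ fun h => by
              rw [hF, map_add, map_add, LinearMap.add_apply, LinearMap.add_apply, hF, hF]
            map_smul' := fun r a => huniq _ _ fun h => by
              rw [RingHom.id_apply, hF, hβ.map_smul, hγ, hF] }, fun p x hx => ?_, hF⟩
  refine mem_of_vanish hβ fun j hj h hh => ?_
  change β (F x) h = 0
  rw [hF, hv p x hx j hj h hh]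

end Map

variable {m : HomogeneousIdeal 𝒜}

/-- in a module bounded above, a nonzero homogeneous element has a nonzero multiple in the socle -/
theorem exists_socle_mul {M : Type u} [AddCommGroup M] [Module R M]
    {τM : Type u} [SetLike τM M] [AddSubgroupClass τM M] {ℳ : ℤ → τM} [DirectSum.Decomposition ℳ]
    [SetLike.GradedSMul 𝒜 ℳ] (B : ℤ) (hbd : ∀ q, B < q → ∀ x ∈ ℳ q, x = 0) {p : ℤ} {x : M} (hx : x ∈ ℳ p)
    (hne : x ≠ 0) : ∃ (i : ℤ) (r : R), r ∈ 𝒜 i ∧ r • x ≠ 0 ∧ ∀ (j : ℤ), 0 < j → ∀ s ∈ 𝒜 j, s • r • x = 0 := by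
  suffices key : ∀ (n : ℕ) (p : ℤ) (x : M), (B - p).toNat ≤ n → x ∈ ℳ p → x ≠ 0 →
      ∃ (i : ℤ) (r : R), r ∈ 𝒜 i ∧ r • x ≠ 0 ∧ ∀ (j : ℤ), 0 < j → ∀ s ∈ 𝒜 j, s • r • x = 0 from
    key _ p x le_rfl hx hne
  intro n
  induction n with
  | zero =>
    intro p x hn hx hne
    refine ⟨0, 1, SetLike.GradedOne.one_mem, by rwa [one_smul], fun j hj s hs => ?_⟩
    rw [one_smul]
    exact hbd (j + p) (by omega) _ (smul_mem_gr (𝒜 := 𝒜) (ℳ := ℳ) hs hx)
  | succ n ih =>
    intro p x hn hx hne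
    by_cases h : ∀ (j : ℤ), 0 < j → ∀ s ∈ 𝒜 j, s • x = 0
    · exact ⟨0, 1, SetLike.GradedOne.one_mem, by rwa [one_smul], fun j hj s hs => by rw [one_smul]; exact h j hj s hs⟩
    · push Not at h
      obtain ⟨j, hj, s, hs, hsx⟩ := h
      obtain ⟨i, r, hr, hrne, hsoc⟩ := ih (j + p) (s • x) (by omega) (smul_mem_gr (𝒜 := 𝒜) (ℳ := ℳ) hs hx) hsx
      exact ⟨i + j, r * s, SetLike.GradedMul.mul_mem hr hs, by rwa [mul_smul],
        fun l hl t ht => by rw [mul_smul]; exact hsoc l hl t ht⟩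

include hB in
/-- a finite module is bounded below -/
theorem exists_bddBelow {M : Type u} [AddCommGroup M] [Module R M] [Module.Finite R M]
    {τM : Type u} [SetLike τM M] [AddSubgroupClass τM M] (ℳ : ℤ → τM) [DirectSum.Decomposition ℳ]
    [SetLike.GradedSMul 𝒜 ℳ] : ∃ B : ℤ, ∀ q, q < B → ∀ x ∈ ℳ q, x = 0 := by
  classical
  obtain ⟨n, dg, g, hg, hgs⟩ := exists_free_presentation (R := R) ℳ
  obtain ⟨B, hB'⟩ : ∃ B : ℤ, ∀ a, B ≤ dg a := by
    refine ⟨-(∑ a, |dg a|), fun a => ?_⟩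
    have h1 : |dg a| ≤ ∑ b, |dg b| :=
      Finset.single_le_sum (f := fun b => |dg b|) (fun b _ => abs_nonneg _) (Finset.mem_univ a)
    have := abs_le.1 h1
    omega
  refine ⟨B, fun q hq x hx => ?_⟩
  obtain ⟨c, rfl⟩ := hgs x
  rw [← cpt_of_mem ℳ hx, Fintype.linearCombination_apply, map_sum]
  refine Finset.sum_eq_zero fun a _ => ?_
  have := hB' a
  rw [cpt_smul_right' (𝒜 := 𝒜) ℳ (hg a), hB.pos (q - dg a) (by omega) _ (cpt_mem 𝒜 _ _), zero_smul]

include hB hβ in
/-- the dual of a finite module is bounded above -/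
theorem exists_bddAbove_dual [Module.Finite R H] : ∃ B : ℤ, ∀ q, B < q → ∀ d ∈ 𝒟 q, d = 0 := by
  obtain ⟨B, hbd⟩ := exists_bddBelow hB ℋ
  exact ⟨-B, fun q hq d hd => hβ.eq_zero q d hd fun x hx => by
    rw [hbd (-q) (by omega) x hx, map_zero]⟩

/-- elements killed by all positive pieces are killed by `R₊` -/
theorem smul_eq_zero_of_span (hmsp : m.toIdeal = Ideal.span (⋃ n ∈ Set.Ioi (0 : ℤ), (𝒜 n : Set R)))
    {M : Type u} [AddCommGroup M] [Module R M] {x : M} (h : ∀ (j : ℤ), 0 < j → ∀ s ∈ 𝒜 j, s • x = 0)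
    {a : R} (ha : a ∈ m.toIdeal) : a • x = 0 := by
  rw [hmsp] at ha
  induction ha using Submodule.span_induction with
  | mem a ha =>
    obtain ⟨j, hj, hs⟩ := Set.mem_iUnion₂.1 ha
    exact h j hj a hs
  | zero => exact zero_smul R x
  | add a b _ _ ha hb => rw [add_smul, ha, hb, add_zero]
  | smul c a _ ha => rw [smul_eq_mul, mul_smul, ha, smul_zero]

section Minimal

variable {F : Type u} [AddCommGroup F] [Module R F] [Module k F] [IsScalarTower k R F] [Module.Finite R F]
  {τF : Type u} [SetLike τF F] [AddSubgroupClass τF F] {ℱ : ℤ → τF} [DirectSum.Decomposition ℱ]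
  [SetLike.GradedSMul 𝒜 ℱ]
variable {DF : Type u} [AddCommGroup DF] [Module R DF] [Module k DF] [IsScalarTower k R DF]
  {τDF : Type u} [SetLike τDF DF] [AddSubgroupClass τDF DF] {𝒟F : ℤ → τDF} [DirectSum.Decomposition 𝒟F]
  [SetLike.GradedSMul 𝒜 𝒟F]
variable {βF : DF →ₗ[k] F →ₗ[k] k} (hF : _root_.GrSeg.IsGDual R ℱ 𝒟F βF)
variable {f : F →ₗ[R] H} (hf : Function.Surjective f) (hfgr : _root_.GrLC.IsGrHom ℱ ℋ f)
variable {g : D →ₗ[R] DF} (hg : ∀ (d : D) (x : F), βF (g d) x = β d (f x))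

include hβ hf hg in
theorem dualMap_injective : Function.Injective g := (injective_iff_map_eq_zero g).2 fun d hd => gdual_ext hβ fun y => by
  obtain ⟨x, rfl⟩ := hf y
  rw [← hg, hd, map_zero, LinearMap.zero_apply]

include hβ hF hg hfgr in
theorem dualMap_isGrHom : _root_.GrLC.IsGrHom 𝒟 𝒟F g := fun p d hd => mem_of_vanish hF fun j hj x hx => by
  rw [hg]
  exact hβ.vanish p d hd j hj _ (hfgr j x hx)

include hβ hF hf hg hfgr in
/-- the range of the dual map is the annihilator of the kernel -/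
theorem mem_range_dualMap {p : ℤ} {d : DF} (hd : d ∈ 𝒟F p) (h : ∀ x, f x = 0 → βF d x = 0) :
    d ∈ LinearMap.range g := by
  obtain ⟨s, hs⟩ := (f.restrictScalars k).exists_rightInverse_of_surjective
    (LinearMap.range_eq_top.2 hf)
  have hfac : ∀ x, βF d x = βF d (s (f x)) := fun x => by
    rw [← sub_eq_zero, ← map_sub]
    refine h _ ?_
    rw [map_sub, sub_eq_zero]
    exact (LinearMap.congr_fun hs (f x)).symm
  obtain ⟨e, he, hex⟩ := hβ.exists_eq p ((βF d) ∘ₗ s)
  refine ⟨e, ?_⟩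
  rw [← sub_eq_zero]
  refine hF.eq_zero p _ (sub_mem (dualMap_isGrHom hβ hF hfgr hg p e he) hd) fun x hx => ?_
  rw [map_sub, LinearMap.sub_apply, hg, hex _ (hfgr _ x hx), LinearMap.comp_apply, ← hfac, sub_self]

set_option maxHeartbeats 1000000 in
include hB hβ hF hf hg hfgr in
/-- minimal means essential -/
theorem ker_le_iff_isStarEss (hmsp : m.toIdeal = Ideal.span (⋃ n ∈ Set.Ioi (0 : ℤ), (𝒜 n : Set R))) :
    LinearMap.ker f ≤ m.toIdeal • (⊤ : Submodule R F) ↔ _root_.GrLC.IsStarEss 𝒟 𝒟F g := by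
  classical
  constructor
  · intro hle
    refine ⟨dualMap_injective hβ hf hg, dualMap_isGrHom hβ hF hfgr hg, fun P hP hne => ?_⟩
    obtain ⟨y, hy, hy0⟩ := Submodule.exists_mem_ne_zero_of_ne_bot hne
    obtain ⟨p, hp⟩ : ∃ p, cpt 𝒟F p y ≠ 0 := by
      by_contra h
      push Not at h
      exact hy0 (eq_zero_of_cpt 𝒟F h)
    obtain ⟨B, hbd⟩ := exists_bddAbove_dual hB hF
    obtain ⟨i, r, hr, hne', hsoc⟩ := exists_socle_mul (𝒜 := 𝒜) B hbd (cpt_mem 𝒟F p y) hp
    intro hbot
    refine hne' ((Submodule.eq_bot_iff _).1 hbot _ ⟨P.smul_mem r (hP p hy), ?_⟩)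
    refine mem_range_dualMap hβ hF hf hfgr hg (smul_mem_gr (𝒜 := 𝒜) (ℳ := 𝒟F) hr (cpt_mem 𝒟F p y)) fun x hx => ?_
    refine Submodule.smul_induction_on (hle hx) (fun a ha z _ => ?_) fun a b ha hb => by rw [map_add, ha, hb, add_zero]
    rw [← hF.map_smul, smul_eq_zero_of_span hmsp hsoc ha, map_zero, LinearMap.zero_apply]
  · intro hess x hx
    have hPhom : (m.toIdeal • (⊤ : Submodule R F)).IsHomogeneous ℱ := fun e z hz => by
      change cpt ℱ e z ∈ m.toIdeal • (⊤ : Submodule R F)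
      refine Submodule.smul_induction_on hz (fun a ha w _ => ?_) (fun a b ha hb => by rw [map_add]; exact add_mem ha hb)
      rw [← sum_cpt 𝒜 a, Finset.sum_smul, map_sum]
      refine sum_mem fun i _ => ?_
      rw [cpt_smul_left' (𝒜 := 𝒜) ℱ (cpt_mem 𝒜 i a)]
      exact Submodule.smul_mem_smul (m.isHomogeneous i ha) Submodule.mem_top
    rw [← sum_cpt ℱ x]
    refine sum_mem fun j _ => ?_
    have hxj : f (cpt ℱ j x) = 0 := by rw [map_cpt hfgr, show f x = 0 from hx, map_zero]
    by_contra hnot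
    obtain ⟨l, hl, hker⟩ := Submodule.exists_le_ker_of_notMem
      (p := (m.toIdeal • (⊤ : Submodule R F)).restrictScalars k) hnot
    obtain ⟨d, hd, hdl⟩ := hF.exists_eq (-j) l
    have hd0 : βF d (cpt ℱ j x) ≠ 0 := by rwa [hdl _ (by rw [neg_neg]; exact cpt_mem ℱ j x)]
    have hkill : ∀ (i : ℤ), 0 < i → ∀ s ∈ 𝒜 i, s • d = 0 := fun i hi s hs => gdual_ext hF fun z => by
      induction z using homogeneous_induction ℱ with
      | zero => simp
      | add a b ha hb => rw [map_add, ha, hb, add_zero]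
      | hom q z hz =>
        rw [hF.map_smul]
        by_cases hq : i + q = j
        · have hsz : s • z ∈ ℱ (i + q) := smul_mem_gr (𝒜 := 𝒜) (ℳ := ℱ) hs hz
          have hsm : s ∈ m.toIdeal := hmsp.symm ▸ Ideal.subset_span (Set.mem_iUnion₂.2 ⟨i, hi, hs⟩)
          have hmem : s • z ∈ (m.toIdeal • (⊤ : Submodule R F)).restrictScalars k :=
            (Submodule.restrictScalars_mem k _ _).2
              (Submodule.smul_mem_smul (I := m.toIdeal) (N := (⊤ : Submodule R F)) (r := s) (n := z) hsm Submodule.mem_top)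
          rw [hq, show j = -(-j) from (neg_neg j).symm] at hsz
          exact (hdl (s • z) hsz).trans (LinearMap.mem_ker.1 (hker hmem))
        · exact hF.vanish _ d hd (i + q) (by omega) _ (smul_mem_gr (𝒜 := 𝒜) (ℳ := ℱ) hs hz)
    have hdne : d ≠ 0 := fun h => hd0 (by rw [h, map_zero, LinearMap.zero_apply])
    have hPd : (R ∙ d).IsHomogeneous 𝒟F := fun e z hz => by
      obtain ⟨r, rfl⟩ := Submodule.mem_span_singleton.1 hz
      change cpt 𝒟F e (r • d) ∈ R ∙ d
      rw [cpt_smul_right' (𝒜 := 𝒜) 𝒟F hd]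
      exact Submodule.smul_mem _ _ (Submodule.mem_span_singleton_self d)
    have hne := hess.essential (R ∙ d) hPd (fun h => hdne ((Submodule.span_singleton_eq_bot).1 h))
    obtain ⟨z, ⟨hz1, hz2⟩, hz0⟩ := Submodule.exists_mem_ne_zero_of_ne_bot hne
    obtain ⟨r, rfl⟩ := Submodule.mem_span_singleton.1 hz1
    obtain ⟨c, hc⟩ := hB.exists_alg _ (cpt_mem 𝒜 0 r)
    have hrd : r • d = c • d := by
      rw [← algebraMap_smul R c d, hc, ← sub_eq_zero, ← sub_smul]
      refine smul_eq_zero_of_span hmsp hkill ((mem_of_forall_cpt (C := m.toIdeal) m.isHomogeneous).2 fun i => ?_)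
      rw [map_sub, cpt_cpt]
      rcases lt_trichotomy i 0 with hi | rfl | hi
      · rw [if_neg (Ne.symm hi.ne), hB.pos i hi _ (cpt_mem 𝒜 i r), sub_zero]; exact zero_mem _
      · rw [if_pos rfl, sub_self]; exact zero_mem _
      · rw [if_neg hi.ne, sub_zero, hmsp]
        exact Ideal.subset_span (Set.mem_iUnion₂.2 ⟨i, hi, cpt_mem 𝒜 i r⟩)
    obtain ⟨w, hw⟩ := hz2
    rw [hrd] at hw hz0
    have h1 := congrArg (fun t => βF t (cpt ℱ j x)) hw
    simp only [hg, hxj, map_zero, map_smul, LinearMap.smul_apply, smul_eq_mul] at h1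
    rcases mul_eq_zero.1 h1.symm with hc0 | h2
    · exact hz0 (by rw [hc0, zero_smul])
    · exact hd0 h2

end Minimal

section Artinian

include hB hβ in
/-- the dual of a finite module is Artinian -/
theorem isArtinian_dual [Module.Finite R H] : IsArtinian R D := by
  classical
  obtain ⟨B, hbd⟩ := exists_bddAbove_dual hB hβ
  have hflip := flip_isGDual hB ℋ 𝒟 hβ fun j => finite_pieceK hB ℋ j
  let Φ : Submodule R D → Submodule R H := fun N =>
    { carrier := {y | ∀ (r : R) (p : ℤ) (x : D), x ∈ N → (∀ i < p, cpt 𝒟 i x = 0) → β (cpt 𝒟 p x) (r • y) = 0}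
      add_mem' := fun {a b} ha hb r p x hx hlow => by rw [smul_add, map_add, ha r p x hx hlow, hb r p x hx hlow, add_zero]
      zero_mem' := fun r p x _ _ => by rw [smul_zero, map_zero]
      smul_mem' := fun s a ha r p x hx hlow => by rw [smul_smul]; exact ha _ p x hx hlow }
  have hmono : ∀ N N' : Submodule R D, N ≤ N' → Φ N' ≤ Φ N := fun N N' h y hy r p x hx hlow =>
    hy r p x (h hx) hlow
  have hstrict : ∀ N N' : Submodule R D, N ≤ N' → Φ N ≤ Φ N' → N' ≤ N := by
    intro N N' hle hΦ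
    suffices key : ∀ (n : ℕ) (p : ℤ), (B + 1 - p).toNat ≤ n → ∀ x ∈ N', (∀ i < p, cpt 𝒟 i x = 0) → x ∈ N by
      intro x hx
      obtain ⟨p, hp⟩ : ∃ p : ℤ, ∀ i < p, cpt 𝒟 i x = 0 := by
        refine ⟨-(∑ i ∈ degs 𝒟 x, |i|), fun i hi => by_contra fun h => ?_⟩
        have h1 : |i| ≤ ∑ j ∈ degs 𝒟 x, |j| :=
          Finset.single_le_sum (f := fun j : ℤ => |j|) (fun j _ => abs_nonneg j) ((mem_degs 𝒟).2 h)
        have := abs_le.1 h1
        omega
      exact key _ p le_rfl x hx hp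
    intro n
    induction n with
    | zero =>
      intro p hn x _ hlow
      rw [show x = 0 from eq_zero_of_cpt 𝒟 fun i => by
        rcases lt_or_ge i p with h | h
        · exact hlow i h
        · exact hbd i (by omega) _ (cpt_mem 𝒟 i x)]
      exact zero_mem _
    | succ n ih =>
      intro p hn x hx hlow
      let L : Submodule k D :=
        { carrier := {c | ∃ z ∈ N, (∀ i < p, cpt 𝒟 i z = 0) ∧ cpt 𝒟 p z = c}
          add_mem' := by
            rintro _ _ ⟨a, ha, ha', rfl⟩ ⟨b, hb, hb', rfl⟩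
            exact ⟨a + b, add_mem ha hb, fun i hi => by rw [map_add, ha' i hi, hb' i hi, add_zero], map_add _ _ _⟩
          zero_mem' := ⟨0, zero_mem _, fun i _ => map_zero _, map_zero _⟩
          smul_mem' := by
            rintro c _ ⟨a, ha, ha', rfl⟩
            exact ⟨c • a, N.smul_of_tower_mem c ha,
              fun i hi => by rw [cpt_ksmul hB 𝒟, ha' i hi, smul_zero], cpt_ksmul hB 𝒟 p c a⟩ }
      have hmem : cpt 𝒟 p x ∈ L := by
        by_contra hnot
        obtain ⟨l, hl, hker⟩ := Submodule.exists_le_ker_of_notMem hnot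
        obtain ⟨y, hy, hyl⟩ := hflip.exists_eq (-p) l
        have hyΦ : y ∈ Φ N := fun r q z hz hzlow => by
          induction r using homogeneous_induction 𝒜 with
          | zero => rw [zero_smul, map_zero]
          | add a b ha hb => rw [add_smul, map_add, ha, hb, add_zero]
          | hom i r hr =>
            rw [← hβ.map_smul]
            have hrz : r • cpt 𝒟 q z ∈ 𝒟 (i + q) := smul_mem_gr (𝒜 := 𝒜) (ℳ := 𝒟) hr (cpt_mem 𝒟 q z)
            by_cases hiq : i + q = p
            · have h1 := hyl (r • cpt 𝒟 q z) (by rw [neg_neg, ← hiq]; exact hrz)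
              refine h1.trans (hker ⟨r • z, N.smul_mem r hz, fun j hj => ?_, ?_⟩)
              · rw [cpt_smul_left' (𝒜 := 𝒜) 𝒟 hr, hzlow _ (by omega), smul_zero]
              · rw [cpt_smul_left' (𝒜 := 𝒜) 𝒟 hr, show p - i = q by omega]
            · exact hflip.vanish (-p) y hy (i + q) (by omega) _ hrz
        have h2 : β (cpt 𝒟 p x) y = l (cpt 𝒟 p x) := hyl _ (by rw [neg_neg]; exact cpt_mem 𝒟 p x)
        have h3 := hΦ hyΦ 1 p x hx hlow
        rw [one_smul, h2] at h3
        exact hl h3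
      obtain ⟨z, hz, hzlow, hzp⟩ := hmem
      have := ih (p + 1) (by omega) (x - z) (sub_mem hx (hle hz)) fun i hi => by
        rcases lt_or_eq_of_le (show i ≤ p by omega) with h | rfl
        · rw [map_sub, hlow i h, hzlow i h, sub_zero]
        · rw [map_sub, hzp, sub_self]
      exact sub_add_cancel x z ▸ add_mem this hz
  let F : Submodule R D → (Submodule R H)ᵒᵈ := fun N => OrderDual.toDual (Φ N)
  have hF : StrictMono F := fun N N' h => lt_of_le_not_ge (hmono N N' h.le)
    fun hc => h.not_ge (hstrict N N' h.le hc)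
  haveI : WellFoundedLT (Submodule R H)ᵒᵈ := inferInstance
  exact hF.wellFoundedLT

include hB in
/-- pieces of an Artinian module are finite -/
theorem finite_pieceK_of_artinian [IsArtinian R H] (n : ℤ) : Module.Finite k (pieceK hB ℋ n) := by
  let F : Submodule k (pieceK hB ℋ n) → Submodule R H := fun W =>
    Submodule.span R ((W.map (pieceK hB ℋ n).subtype : Submodule k H) : Set H)
  have hback : ∀ (W : Submodule k (pieceK hB ℋ n)) (x : pieceK hB ℋ n), x.1 ∈ F W → x ∈ W := by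
    intro W x hx
    suffices key : ∀ z ∈ F W, cpt ℋ n z ∈ W.map (pieceK hB ℋ n).subtype ∧ ∀ j < n, cpt ℋ j z = 0 by
      obtain ⟨w, hw, hwx⟩ := (key _ hx).1
      rw [cpt_of_mem ℋ (show x.1 ∈ ℋ n from x.2)] at hwx
      exact (Subtype.ext hwx : w = x) ▸ hw
    intro z hz
    induction hz using Submodule.span_induction with
    | mem z hz =>
      obtain ⟨w, hw, rfl⟩ := hz
      exact ⟨⟨w, hw, (cpt_of_mem ℋ (show w.1 ∈ ℋ n from w.2)).symm⟩,
        fun j hj => cpt_of_mem_ne ℋ (show w.1 ∈ ℋ n from w.2) (by omega)⟩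
    | zero => exact ⟨by rw [map_zero]; exact zero_mem _, fun j _ => map_zero _⟩
    | add a b _ _ ha hb =>
      exact ⟨by rw [map_add]; exact add_mem ha.1 hb.1, fun j hj => by rw [map_add, ha.2 j hj, hb.2 j hj, add_zero]⟩
    | smul r z _ hz =>
      induction r using homogeneous_induction 𝒜 with
      | zero => exact ⟨by rw [zero_smul, map_zero]; exact zero_mem _, fun j _ => by rw [zero_smul, map_zero]⟩
      | add a b ha hb =>
        exact ⟨by rw [add_smul, map_add]; exact add_mem ha.1 hb.1,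
          fun j hj => by rw [add_smul, map_add, ha.2 j hj, hb.2 j hj, add_zero]⟩
      | hom i r hr =>
        rcases lt_trichotomy i 0 with hi | rfl | hi
        · rw [hB.pos i hi r hr, zero_smul]
          exact ⟨by rw [map_zero]; exact zero_mem _, fun j _ => map_zero _⟩
        · obtain ⟨c, rfl⟩ := hB.exists_alg r hr
          rw [algebraMap_smul]
          exact ⟨by rw [cpt_ksmul hB ℋ]; exact Submodule.smul_mem _ c hz.1,
            fun j hj => by rw [cpt_ksmul hB ℋ, hz.2 j hj, smul_zero]⟩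
        · refine ⟨?_, fun j hj => by rw [cpt_smul_left' (𝒜 := 𝒜) ℋ hr, hz.2 _ (by omega), smul_zero]⟩
          rw [cpt_smul_left' (𝒜 := 𝒜) ℋ hr, hz.2 _ (by omega), smul_zero]
          exact zero_mem _
  have hF : StrictMono F := fun W W' h =>
    lt_of_le_not_ge (Submodule.span_mono fun z hz => Submodule.map_mono h.le hz) fun hle =>
      h.not_ge fun x hx => hback W x (hle (Submodule.subset_span ⟨x, hx, rfl⟩))
  have h : IsArtinian k (pieceK hB ℋ n) := hF.wellFoundedLT
  exact (IsSemisimpleModule.finite_tfae.out 2 0).mp h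

include hB in
/-- an Artinian module is bounded above -/
theorem exists_bddAbove_of_artinian [IsArtinian R H] : ∃ B : ℤ, ∀ q, B < q → ∀ x ∈ ℋ q, x = 0 := by
  let U : ℤ → Submodule R H := fun a =>
    { carrier := {x | ∀ i < a, cpt ℋ i x = 0}
      add_mem' := fun {x y} hx hy i hi => by rw [map_add, hx i hi, hy i hi, add_zero]
      zero_mem' := fun i _ => map_zero _
      smul_mem' := fun r x hx i hi => by
        induction r using homogeneous_induction 𝒜 with
        | zero => rw [zero_smul, map_zero]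
        | add a b ha hb => rw [add_smul, map_add, ha, hb, add_zero]
        | hom j r hr =>
          rw [cpt_smul_left' (𝒜 := 𝒜) ℋ hr]
          rcases lt_or_ge j 0 with hj | hj
          · rw [hB.pos j hj r hr, zero_smul]
          · rw [hx _ (by omega), smul_zero] }
  obtain ⟨_, ⟨l, rfl⟩, hmin⟩ := (IsWellFounded.wf (r := ((· < ·) : Submodule R H → Submodule R H → Prop))).has_min
    (Set.range U) ⟨U 0, 0, rfl⟩
  refine ⟨l, fun q hq x hx => ?_⟩
  have hle : U (q + 1) ≤ U l := fun z hz i hi => hz i (by omega)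
  have heq : U (q + 1) = U l := hle.eq_of_not_lt (hmin _ ⟨q + 1, rfl⟩)
  have h1 : x ∈ U (q + 1) := by
    rw [heq]
    exact fun i hi => cpt_of_mem_ne ℋ hx (by omega)
  rw [← cpt_of_mem ℋ hx]
  exact h1 q (by omega)

include hB hβ in
/-- the dual of an Artinian module is finite -/
theorem finite_dual [IsArtinian R H] : Module.Finite R D := by
  classical
  have hflip := flip_isGDual hB ℋ 𝒟 hβ fun j => finite_pieceK_of_artinian hB j
  let perp : Submodule R D → Submodule R H := fun P =>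
    { carrier := {y | ∀ d ∈ P, β d y = 0}
      add_mem' := fun {a b} ha hb d hd => by rw [map_add, ha d hd, hb d hd, add_zero]
      zero_mem' := fun d _ => map_zero _
      smul_mem' := fun s a ha d hd => by rw [← hβ.map_smul]; exact ha _ (P.smul_mem s hd) }
  let Good : Set (Submodule R D) := {P | P.FG ∧ P.IsHomogeneous 𝒟}
  obtain ⟨_, ⟨P, hP, rfl⟩, hmin⟩ := (IsWellFounded.wf (r := ((· < ·) : Submodule R H → Submodule R H → Prop))).has_min
    (perp '' Good) ⟨_, ⊥, ⟨Submodule.fg_bot, fun i x hx => by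
      rw [Submodule.mem_bot] at hx
      change cpt 𝒟 i x ∈ (⊥ : Submodule R D)
      rw [hx, map_zero]; exact zero_mem _⟩, rfl⟩
  suffices htop : P = ⊤ from ⟨htop ▸ hP.1⟩
  refine Submodule.eq_top_iff'.2 fun d => ?_
  induction d using homogeneous_induction 𝒟 with
  | zero => exact zero_mem _
  | add a b ha hb => exact add_mem ha hb
  | hom p d hd =>
    by_contra hnot
    have hd' : (P ⊔ R ∙ d) ∈ Good := ⟨hP.1.sup (Submodule.fg_span_singleton d), fun i x hx => by
      obtain ⟨u, hu, v, hv, rfl⟩ := Submodule.mem_sup.1 hx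
      obtain ⟨r, rfl⟩ := Submodule.mem_span_singleton.1 hv
      change cpt 𝒟 i (u + r • d) ∈ P ⊔ R ∙ d
      rw [map_add, cpt_smul_right' (𝒜 := 𝒜) 𝒟 hd]
      exact add_mem (Submodule.mem_sup_left (hP.2 i hu))
        (Submodule.mem_sup_right (Submodule.smul_mem _ _ (Submodule.mem_span_singleton_self d)))⟩
    have hle : perp (P ⊔ R ∙ d) ≤ perp P := fun y hy z hz => hy z (Submodule.mem_sup_left hz)
    have heq := hle.eq_of_not_lt (hmin _ ⟨_, hd', rfl⟩)
    obtain ⟨l, hl, hker⟩ := Submodule.exists_le_ker_of_notMem (p := P.restrictScalars k) hnot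
    obtain ⟨y, hy, hyl⟩ := hflip.exists_eq (-p) l
    have hyP : y ∈ perp P := fun z hz => by
      rw [pair_cpt hβ z hy, neg_neg]
      exact (hyl _ (by rw [neg_neg]; exact cpt_mem 𝒟 p z)).trans (hker (hP.2 p hz))
    rw [← heq] at hyP
    have h2 := hyP d (Submodule.mem_sup_right (Submodule.mem_span_singleton_self d))
    exact hl ((hyl d (by rwa [neg_neg])).symm.trans h2)

end Artinian

end Groth.Agent.GrDual

namespace Groth.Agent.GrDual

section Hull

variable {k : Type u} [Field k] {R : Type u} [CommRing R] [Algebra k R] [IsNoetherianRing R]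
  {σ : Type u} [SetLike σ R] [AddSubgroupClass σ R] {𝒜 : ℤ → σ} [GradedRing 𝒜]
variable (hB : Base k 𝒜)
variable {D : Type u} [AddCommGroup D] [Module R D] [Module k D] [IsScalarTower k R D]
  {τD : Type u} [SetLike τD D] [AddSubgroupClass τD D] {𝒟 : ℤ → τD} [DirectSum.Decomposition 𝒟]
  [SetLike.GradedSMul 𝒜 𝒟]
variable {β : D →ₗ[k] R →ₗ[k] k} (hβ : _root_.GrSeg.IsGDual R 𝒜 𝒟 β)

include hB hβ in
theorem dual_self_pos {p : ℤ} (hp : 0 < p) {d : D} (hd : d ∈ 𝒟 p) : d = 0 :=
  hβ.eq_zero p d hd fun r hr => by rw [hB.pos (-p) (by omega) r hr, map_zero]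

include hB hβ in
theorem dual_self_socle {p : ℤ} {d : D} (hd : d ∈ 𝒟 p) (hsoc : ∀ j : ℤ, 0 < j → ∀ s ∈ 𝒜 j, s • d = 0)
    (hne : d ≠ 0) : p = 0 := by
  by_contra hp
  refine hne (hβ.eq_zero p d hd fun r hr => ?_)
  rcases lt_or_gt_of_ne hp with h | h
  · have := hβ.map_smul r d 1
    rw [hsoc (-p) (by omega) r hr, map_zero, LinearMap.zero_apply, smul_eq_mul, mul_one] at this
    exact this.symm
  · rw [hB.pos (-p) (by omega) r hr, map_zero]

variable {m : HomogeneousIdeal 𝒜}

include hB hβ in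
/-- `R^*` is the hull of the residue field -/
theorem isStarInjHull_dual (hm0 : ∀ i : ℤ, 0 < i → ∀ x ∈ 𝒜 i, x ∈ m.toIdeal) (hm1 : m.toIdeal ≠ ⊤)
    {e : (R ⧸ m.toIdeal) →ₗ[R] D} (he : Function.Injective e)
    (hegr : _root_.GrLC.IsGrHom (_root_.GrLC.quotGr 𝒜 m) 𝒟 e) :
    _root_.GrLC.IsStarInjHull 𝒜 (_root_.GrLC.quotGr 𝒜 m) 𝒟 e := by
  classical
  refine ⟨⟨he, hegr, fun P hP hne => ?_⟩, ?_⟩
  · haveI : Nontrivial (R ⧸ m.toIdeal) := Submodule.Quotient.nontrivial_iff.2 hm1
    have he0 : e 1 ∈ 𝒟 0 := hegr 0 1 ⟨1, SetLike.GradedOne.one_mem, rfl⟩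
    have he1 : e 1 ≠ 0 := fun h => one_ne_zero (he (h.trans (map_zero e).symm))
    have hb : β (e 1) 1 ≠ 0 := fun h => he1 (hβ.eq_zero 0 _ he0 fun r hr => by
      rw [neg_zero] at hr
      obtain ⟨c, rfl⟩ := hB.exists_alg r hr
      rw [Algebra.algebraMap_eq_smul_one, map_smul, h, smul_zero])
    obtain ⟨y, hy, hy0⟩ := Submodule.exists_mem_ne_zero_of_ne_bot hne
    obtain ⟨p, hp⟩ : ∃ p, cpt 𝒟 p y ≠ 0 := by
      by_contra h
      push Not at h
      exact hy0 (eq_zero_of_cpt 𝒟 h)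
    obtain ⟨i, r, hr, hne', hsoc⟩ := exists_socle_mul (𝒜 := 𝒜) 0
      (fun q hq x hx => dual_self_pos hB hβ hq hx) (cpt_mem 𝒟 p y) hp
    have hz := smul_mem_gr (𝒜 := 𝒜) (ℳ := 𝒟) hr (cpt_mem 𝒟 p y)
    rw [dual_self_socle hB hβ hz hsoc hne'] at hz
    intro hbot
    refine hne' ((Submodule.eq_bot_iff _).1 hbot _ ⟨P.smul_mem r (hP p hy), ?_⟩)
    refine ⟨(β (r • cpt 𝒟 p y) 1 / β (e 1) 1) • (1 : R ⧸ m.toIdeal), ?_⟩
    rw [← algebraMap_smul R (β (r • cpt 𝒟 p y) 1 / β (e 1) 1) (1 : R ⧸ m.toIdeal), e.map_smul, algebraMap_smul,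
      ← sub_eq_zero]
    refine hβ.eq_zero 0 _ (sub_mem (ksmul_mem hB 𝒟 _ he0) hz) fun s hs => ?_
    rw [neg_zero] at hs
    obtain ⟨c, rfl⟩ := hB.exists_alg s hs
    rw [Algebra.algebraMap_eq_smul_one, map_smul, map_sub, LinearMap.sub_apply, map_smul, LinearMap.smul_apply,
      smul_eq_mul _ (β (e 1) 1), div_mul_cancel₀ _ hb, sub_self, smul_zero]
  · letI := quotDec 𝒜 m
    haveI := quotGradedSMul (𝒜 := 𝒜) m
    obtain ⟨E, e', he'⟩ := exists_hull 𝒜 (_root_.GrLC.quotGr 𝒜 m)
    letI : Module k E.carrier := Module.compHom E.carrier (algebraMap k R)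
    haveI : IsScalarTower k R E.carrier := IsScalarTower.of_algebraMap_smul fun _ _ => rfl
    obtain ⟨π, e₁, hπ⟩ := exists_coord hB hm0 hm1 he'
    obtain ⟨β₀, h₀⟩ := exists_gdual_ring hB hm0 hπ
    have h₁ := flip_isGDual hB E.gr 𝒜 h₀ fun j => by
      have := (finrank_eq hB E.gr 𝒜 h₀ (-j)).1
      rwa [neg_neg] at this
    obtain ⟨i, hi, hib⟩ := exists_dual_map h₁ 𝒟 β hβ.map_smul 0
      (fun p d hd j hj r hr => hβ.vanish p d hd j (by omega) r hr)
    obtain ⟨q, hq, hqb⟩ := exists_dual_map hβ E.gr β₀.flip h₁.map_smul 0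
      (fun p d hd j hj r hr => h₁.vanish p d hd j (by omega) r hr)
    have hi' : _root_.GrLC.IsGrHom 𝒟 E.gr i := fun p x hx => by
      have := hi p x hx; rwa [add_zero] at this
    have hq' : _root_.GrLC.IsGrHom E.gr 𝒟 q := fun p x hx => by
      have := hq p x hx; rwa [add_zero] at this
    refine starInj_of_retract (i := i) (p := q) he'.starInj hi' hq' (LinearMap.ext fun d => ?_)
    rw [← sub_eq_zero]
    exact gdual_ext hβ fun r => by
      rw [map_sub, LinearMap.sub_apply, LinearMap.comp_apply, hqb, hib, LinearMap.id_apply, sub_self]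

variable {M : Type u} [AddCommGroup M] [Module R M] [Module k M] [IsScalarTower k R M]
  {τM : Type u} [SetLike τM M] [AddSubgroupClass τM M] (ℳ : ℤ → τM) [DirectSum.Decomposition ℳ]
  [SetLike.GradedSMul 𝒜 ℳ]

include hB hβ in
/-- an Artinian module embeds in a finite sum of shifts of `R^*` -/
theorem exists_embedding [IsArtinian R M] : ∃ (t : ℕ) (sh : Fin t → ℤ) (f : M →ₗ[R] (Fin t → D)),
    Function.Injective f ∧ ∀ (i : Fin t) (g : ℤ) (x : M), x ∈ ℳ g → f x i ∈ 𝒟 (g + sh i) := by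
  classical
  obtain ⟨B, hbd⟩ := exists_bddAbove_of_artinian (ℋ := ℳ) hB
  let Soc : Submodule R M :=
    { carrier := {x | ∀ j : ℤ, 0 < j → ∀ s ∈ 𝒜 j, s • x = 0}
      add_mem' := fun {a b} ha hb j hj s hs => by rw [smul_add, ha j hj s hs, hb j hj s hs, add_zero]
      zero_mem' := fun j _ s _ => smul_zero s
      smul_mem' := fun r x hx j hj s hs => by rw [smul_comm, hx j hj s hs, smul_zero] }
  let S : Submodule k M := Soc.restrictScalars k
  haveI : Module.Finite k S := by
    have hsc : ∀ (r : R) (x : M), x ∈ Soc → ∃ c : k, r • x = c • x := fun r x hx => by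
      induction r using homogeneous_induction 𝒜 with
      | zero => exact ⟨0, by rw [zero_smul, zero_smul]⟩
      | add a b ha hb =>
        obtain ⟨c, hc⟩ := ha
        obtain ⟨c', hc'⟩ := hb
        exact ⟨c + c', by rw [add_smul, add_smul, hc, hc']⟩
      | hom i r hr =>
        rcases lt_trichotomy i 0 with hi | rfl | hi
        · exact ⟨0, by rw [hB.pos i hi r hr, zero_smul, zero_smul]⟩
        · obtain ⟨c, rfl⟩ := hB.exists_alg r hr
          exact ⟨c, algebraMap_smul R c x⟩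
        · exact ⟨0, by rw [zero_smul]; exact hx i hi r hr⟩
    let F : Submodule k S → Submodule R M := fun W =>
      { carrier := (W.map S.subtype : Set M)
        add_mem' := fun ha hb => add_mem (s := W.map S.subtype) ha hb
        zero_mem' := zero_mem (W.map S.subtype)
        smul_mem' := fun r x hx => by
          obtain ⟨w, hw, rfl⟩ := hx
          obtain ⟨c, hc⟩ := hsc r w.1 w.2
          exact ⟨c • w, W.smul_mem c hw, hc.symm⟩ }
    have hF : StrictMono F := fun W W' h => lt_of_le_not_ge (fun x hx => Submodule.map_mono h.le hx) fun hle =>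
      h.not_ge fun x hx => by
        obtain ⟨w, hw, hwx⟩ := hle (show x.1 ∈ F W' from ⟨x, hx, rfl⟩)
        exact (Subtype.ext hwx : w = x) ▸ hw
    have h : IsArtinian k S := hF.wellFoundedLT
    exact (IsSemisimpleModule.finite_tfae.out 2 0).mp h
  obtain ⟨G, hG⟩ := (Module.Finite.fg_top : (⊤ : Submodule k S).FG)
  let Q : Finset ℤ := G.biUnion fun v => degs ℳ v.1
  have hQ : ∀ (q : ℤ) (z : M), z ∈ S → q ∉ Q → cpt ℳ q z = 0 := fun q z hz hq => by
    have hmem : (⟨z, hz⟩ : S) ∈ Submodule.span k (G : Set S) := hG ▸ Submodule.mem_top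
    suffices key : ∀ v ∈ Submodule.span k (G : Set S), cpt ℳ q v.1 = 0 from key _ hmem
    intro v hv
    induction hv using Submodule.span_induction with
    | mem v hv =>
      by_contra hne
      exact hq (Finset.mem_biUnion.2 ⟨v, hv, (mem_degs ℳ).2 hne⟩)
    | zero => exact map_zero _
    | add a b _ _ ha hb => rw [Submodule.coe_add, map_add, ha, hb, add_zero]
    | smul c a _ ha => rw [Submodule.coe_smul, cpt_ksmul hB ℳ, ha, smul_zero]
  obtain ⟨l, hl⟩ := LinearMap.exists_extend (Module.finBasis k S).equivFun.toLinearMap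
  let γ : ℤ → Fin (Module.finrank k S) → M →ₗ[k] R →ₗ[k] k := fun q i =>
    LinearMap.mk₂ k (fun x r => l (cpt ℳ q (r • x)) i)
      (fun a b r => by rw [smul_add, map_add, map_add, Pi.add_apply])
      (fun c x r => by rw [smul_comm, cpt_ksmul hB ℳ, map_smul, Pi.smul_apply])
      (fun x a b => by rw [add_smul, map_add, map_add, Pi.add_apply])
      (fun c x r => by rw [smul_assoc, cpt_ksmul hB ℳ, map_smul, Pi.smul_apply])
  have hmap : ∀ (q : ℤ) (i : Fin (Module.finrank k S)), ∃ f : M →ₗ[R] D,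
      _root_.GrLC.IsGrHomDeg ℳ 𝒟 f (-q) ∧ ∀ x r, β (f x) r = γ q i x r := fun q i =>
    exists_dual_map hβ ℳ (γ q i) (fun r x h => by
      change l (cpt ℳ q (h • r • x)) i = l (cpt ℳ q ((r • h) • x)) i
      rw [smul_eq_mul, mul_comm r h, mul_smul]) (-q) fun p x hx j hj h hh => by
      change l (cpt ℳ q (h • x)) i = 0
      rw [cpt_of_mem_ne ℳ (smul_mem_gr (𝒜 := 𝒜) (ℳ := ℳ) hh hx) (by omega), map_zero, Pi.zero_apply]
  choose F hF hFb using hmap
  let T := Q × Fin (Module.finrank k S)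
  let eT := Fintype.equivFin T
  refine ⟨Fintype.card T, fun a => -((eT.symm a).1 : ℤ), LinearMap.pi fun a => F (eT.symm a).1 (eT.symm a).2,
    (injective_iff_map_eq_zero _).2 fun x hx => ?_, fun a g x hxg => hF _ _ g x hxg⟩
  refine eq_zero_of_cpt ℳ fun p => by_contra fun hp => ?_
  obtain ⟨j, r, hr, hne, hsoc⟩ := exists_socle_mul (𝒜 := 𝒜) B hbd (cpt_mem ℳ p x) hp
  have hz := smul_mem_gr (𝒜 := 𝒜) (ℳ := ℳ) hr (cpt_mem ℳ p x)
  have hqQ : j + p ∈ Q := by
    by_contra hq
    exact hne (by rw [← cpt_of_mem ℳ hz]; exact hQ _ _ hsoc hq)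
  refine hne ?_
  have hl0 : l (r • cpt ℳ p x) = 0 := funext fun i => by
    have hF0 : F (j + p) i x = 0 := by
      have := congrFun hx (eT (⟨j + p, hqQ⟩, i))
      simpa using this
    have h1 : F (j + p) i (r • cpt ℳ p x) = 0 := by
      rw [LinearMap.map_smul, map_cptDeg (hF (j + p) i), hF0, map_zero, smul_zero]
    have h2 := hFb (j + p) i (r • cpt ℳ p x) 1
    rw [h1, map_zero, LinearMap.zero_apply] at h2
    change 0 = l (cpt ℳ (j + p) ((1 : R) • r • cpt ℳ p x)) i at h2
    rw [one_smul, cpt_of_mem ℳ hz] at h2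
    exact h2.symm
  have h3 := LinearMap.congr_fun hl ⟨r • cpt ℳ p x, hsoc⟩
  rw [LinearMap.comp_apply, Submodule.subtype_apply, hl0] at h3
  exact congrArg Subtype.val ((Module.finBasis k S).equivFun.map_eq_zero_iff.1 h3.symm)

end Hull

end Groth.Agent.GrDual
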