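import Groth.Agent.GrDual.Veronese
import Groth.Agent.GrDual.TopCoh
import Groth.Agent.Depth.Local
import Mathlib.RingTheory.Ideal.KrullsHeightTheorem
import Mathlib.RingTheory.KrullDimension.NonZeroDivisors

/-!
# Duality of a Veronese part ascends to a standard graded ring of depth at least two
-/

set_option autoImplicit false
set_option linter.unusedSectionVars false
set_option linter.style.haveILetI false
universe u

open DirectSum
open Groth.Agent.GrLC

noncomputable section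

namespace Groth.Agent.GrDual

/-- powers of an ideal generated in degree one are generated in that degree -/
theorem pow_span_one_le {R : Type u} [CommRing R] {𝒜 : ℤ → AddSubgroup R} [GradedRing 𝒜] :
    ∀ i : ℕ, Ideal.span ((𝒜 1 : AddSubgroup R) : Set R) ^ i ≤ Ideal.span ((𝒜 (i : ℤ) : AddSubgroup R) : Set R)
  | 0 => by
    rw [pow_zero, Ideal.one_eq_top, Nat.cast_zero]
    exact le_of_eq (Ideal.eq_top_of_isUnit_mem _ (Ideal.subset_span SetLike.GradedOne.one_mem) isUnit_one).symm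
  | i + 1 => by
    rw [pow_succ]
    refine (Ideal.mul_mono_left (pow_span_one_le i)).trans ?_
    rw [Ideal.span_mul_span']
    refine Ideal.span_mono ?_
    rintro _ ⟨a, ha, b, hb, rfl⟩
    have := SetLike.GradedMul.mul_mem (A := 𝒜) ha hb
    exact_mod_cast this

/-- a standard graded piece lies in the power of the irrelevant ideal -/
theorem mem_pow_of_mem {R : Type u} [CommRing R] {𝒜 : ℤ → AddSubgroup R} [GradedRing 𝒜]
    (hstd : Ideal.span (⋃ n ∈ Set.Ioi (0 : ℤ), (𝒜 n : Set R)) = Ideal.span ((𝒜 1 : AddSubgroup R) : Set R)) :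
    ∀ (p : ℕ) {r : R}, r ∈ 𝒜 (p : ℤ) → r ∈ Ideal.span ((𝒜 1 : AddSubgroup R) : Set R) ^ p
  | 0, r, _ => by simp
  | p + 1, r, hr => by
    have h1 : r ∈ Ideal.span ((𝒜 1 : AddSubgroup R) : Set R) := hstd ▸ Ideal.subset_span
      (Set.mem_iUnion₂.2 ⟨((p + 1 : ℕ) : ℤ), by simp only [Set.mem_Ioi]; omega, hr⟩)
    suffices h : ∀ c : R, cpt 𝒜 ((p + 1 : ℕ) : ℤ) (c * r) ∈
        Ideal.span ((𝒜 1 : AddSubgroup R) : Set R) ^ (p + 1) by
      have h' := h 1
      rwa [one_mul, cpt_of_mem 𝒜 hr] at h'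
    clear hr
    induction h1 using Submodule.span_induction with
    | zero => intro c; rw [mul_zero, map_zero]; exact zero_mem _
    | add u v _ _ hu hv => intro c; rw [mul_add, map_add]; exact add_mem (hu c) (hv c)
    | smul e v _ hv => intro c; rw [smul_eq_mul, ← mul_assoc]; exact hv _
    | mem s hs =>
      intro c
      have e := cpt_smul_right (𝒜 := 𝒜) 𝒜 (show s ∈ 𝒜 1 from hs) c (p : ℤ)
      rw [smul_eq_mul, smul_eq_mul] at e
      rw [show ((p + 1 : ℕ) : ℤ) = (p : ℤ) + 1 by push_cast; rfl, e, pow_succ]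
      exact Ideal.mul_mem_mul (mem_pow_of_mem hstd p (cpt_mem 𝒜 _ c)) (Ideal.subset_span hs)

/-- a regular pair in every power of the maximal ideal, with surjective action on top cohomology -/
theorem exists_regular_pair {R : Type u} [CommRing R] [IsNoetherianRing R] {m : Ideal R} {n : ℕ}
    (hn : ringKrullDim R = n) (hdep : (2 : ℕ∞) ≤ LocCoh.idealDepth m R) (hm1 : m ≠ ⊤) (i : ℕ) :
    ∃ x ∈ m ^ i, ∃ y ∈ m ^ i, (∀ t, x * t = 0 → t = 0) ∧
      (∀ t u, y * t = x * u → ∃ s, t = x * s) ∧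
      Function.Surjective fun h : LocCoh.H m n R => x • h := by
  rcases Nat.eq_zero_or_pos i with rfl | hi
  · refine ⟨1, by simp, 0, zero_mem _, fun t ht => by simpa using ht, fun t u _ => ⟨t, (one_mul t).symm⟩,
      fun h => ⟨h, one_smul R h⟩⟩
  have hdep' : (2 : ℕ∞) ≤ LocCoh.idealDepth (m ^ i) R := by
    rw [Depth.idealDepth_eq_iInf_depth] at hdep ⊢
    refine le_trans hdep (le_iInf₂ fun p hp => iInf₂_le p ?_)
    exact p.2.le_of_pow_le hp
  have hne : (m ^ i) • (⊤ : Submodule R R) ≠ ⊤ := by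
    rw [smul_eq_mul, Ideal.mul_top]
    exact fun h => hm1 (top_le_iff.mp (h ▸ Ideal.pow_le_self hi.ne'))
  obtain ⟨rs, hreg, hmem, hlen⟩ := Depth.exists_isWeaklyRegular_of_le_idealDepth hne hdep'
  obtain ⟨x, y, rfl⟩ : ∃ x y, rs = [x, y] := List.length_eq_two.mp hlen
  rw [RingTheory.Sequence.isWeaklyRegular_cons_iff] at hreg
  obtain ⟨hx, hy⟩ := hreg
  rw [RingTheory.Sequence.isWeaklyRegular_cons_iff] at hy
  have hx' : ∀ t, x * t = 0 → t = 0 := fun t ht => hx (show x • t = x • (0 : R) by simpa using ht)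
  refine ⟨x, hmem x (by simp), y, hmem y (by simp), hx', fun t u htu => ?_, ?_⟩
  · have h0 : y • (Submodule.Quotient.mk t : QuotSMulTop x R) = y • 0 := by
      rw [smul_zero, ← Submodule.Quotient.mk_smul, Submodule.Quotient.mk_eq_zero, smul_eq_mul, htu]
      exact Submodule.smul_mem_pointwise_smul _ _ _ Submodule.mem_top
    obtain ⟨s, -, hs⟩ := (Submodule.mem_smul_pointwise_iff_exists _ _ _).mp
      ((Submodule.Quotient.mk_eq_zero _).mp (hy.1 h0))
    exact ⟨s, hs.symm⟩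
  · let f : R →ₗ[R] R := x • LinearMap.id
    let g : R →ₗ[R] (R ⧸ Ideal.span {x}) := (Ideal.span {x}).mkQ
    have hfg : Function.Exact f g := fun t => by
      change (Ideal.span {x}).mkQ t = 0 ↔ t ∈ Set.range f
      rw [Submodule.mkQ_apply, Submodule.Quotient.mk_eq_zero, Ideal.mem_span_singleton']
      exact ⟨fun ⟨a, ha⟩ => ⟨a, (mul_comm x a).trans ha⟩, fun ⟨a, ha⟩ => ⟨a, (mul_comm a x).trans ha⟩⟩
    have hex := map_exact_top m f g hn hfg (Submodule.mkQ_surjective _)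
    intro h
    have hsub : Subsingleton (LocCoh.H m n (R ⧸ Ideal.span {x})) := by
      refine LocCoh.subsingleton_H_of_supportDim_lt m n _ ?_ _ le_rfl
      rw [Module.supportDim_quotient_eq_ringKrullDim]
      have h1 := ringKrullDim_quotient_succ_le_of_nonZeroDivisor (R := R) (r := x)
        (mem_nonZeroDivisors_iff_right.mpr fun t ht => hx' t (by rwa [mul_comm] at ht))
      rw [hn] at h1
      cases hd : ringKrullDim (R ⧸ Ideal.span {x}) with
      | bot => exact WithBot.bot_lt_coe _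
      | coe a =>
        rw [hd] at h1
        have h1' : a + 1 ≤ (n : ℕ∞) := by exact_mod_cast h1
        have : a < (n : ℕ∞) := (ENat.add_one_le_iff (ne_top_of_le_ne_top (ENat.natCast_ne_top n)
          (le_self_add.trans h1'))).mp h1'
        exact WithBot.coe_lt_coe.mpr this
    obtain ⟨h', hh'⟩ := (hex h).mp (Subsingleton.elim _ _)
    refine ⟨h', ?_⟩
    rw [← hh']
    change x • h' = LocCohElt.map m n (x • LinearMap.id) h'
    rw [LocCohElt.map_smul_id]

variable {k : Type u} [Field k] {R : Type u} [CommRing R] [Algebra k R] [IsNoetherianRing R]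
  {𝒜 : ℤ → AddSubgroup R} [GradedRing 𝒜]
variable (hB : Base k 𝒜)
variable {H : Type u} [AddCommGroup H] [Module R H] [Module k H] [IsScalarTower k R H]
  {τH : Type u} [SetLike τH H] [AddSubgroupClass τH H] {ℋ : ℤ → τH} [DirectSum.Decomposition ℋ]
  [SetLike.GradedSMul 𝒜 ℋ]
variable {k' : Type u} [Field k'] {R' : Type u} [CommRing R'] [Algebra k' R'] [IsNoetherianRing R']
  {𝒜' : ℤ → AddSubgroup R'} [GradedRing 𝒜']
variable {H' : Type u} [AddCommGroup H'] [Module R' H'] [Module k' H'] [IsScalarTower k' R' H']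
  {τH' : Type u} [SetLike τH' H'] [AddSubgroupClass τH' H'] {ℋ' : ℤ → τH'} [DirectSum.Decomposition ℋ']
  [SetLike.GradedSMul 𝒜' ℋ']

include hB in
/-- duality ascends from the part of degrees divisible by `q` -/
theorem exists_shiftDual_ascent (hB' : Base k' 𝒜') (φ : R' →+* R) (hφ : Function.Injective φ) (ρ : k' ≃+* k)
    (hρ : ∀ c, φ (algebraMap k' R' c) = algebraMap k R (ρ c)) {q : ℕ} (hq : 0 < q)
    (hφ1 : ∀ (i : ℤ) (r : R'), r ∈ 𝒜' i → φ r ∈ 𝒜 (i * q))
    (hex : ∀ (i : ℤ) (x : R), x ∈ 𝒜 (i * q) → ∃ r ∈ 𝒜' i, φ r = x)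
    (T : H' →ₛₗ[φ] H) (hT : ∀ j : ℤ, (∀ x ∈ ℋ' j, T x ∈ ℋ (j * q)) ∧ (∀ x ∈ ℋ' j, T x = 0 → x = 0) ∧
      ∀ y ∈ ℋ (j * q), ∃ x ∈ ℋ' j, T x = y)
    {m : Ideal R} (hstd : m = Ideal.span ((𝒜 1 : AddSubgroup R) : Set R))
    (hreg : ∀ i : ℕ, ∃ x ∈ m ^ i, ∃ y ∈ m ^ i, (∀ t, x * t = 0 → t = 0) ∧
      (∀ t u, y * t = x * u → ∃ s, t = x * s) ∧ Function.Surjective fun h : H => x • h)
    {g' : ℤ} {β' : R' →ₗ[k'] H' →ₗ[k'] k'} (hβ' : _root_.GrSeg.IsGDual R' ℋ' (shA 𝒜' g') β') :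
    ∃ β : R →ₗ[k] H →ₗ[k] k, _root_.GrSeg.IsGDual R ℋ (shA 𝒜 (g' * q)) β := by
  classical
  have hkT : ∀ (c : k') (x : H'), T (c • x) = ρ c • T x := fun c x => by
    rw [← algebraMap_smul R' c x, T.map_smulₛₗ, hρ, algebraMap_smul]
  have hpre : ∀ y : pieceK hB ℋ (-g' * q), ∃ x : H', x ∈ ℋ' (-g') ∧ T x = y.1 := fun y =>
    (hT (-g')).2.2 y.1 y.2
  choose P hP hPT using hpre
  have hPu : ∀ (y : pieceK hB ℋ (-g' * q)) (x : H'), x ∈ ℋ' (-g') → T x = y.1 → P y = x := by
    intro y x hx hxy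
    rw [← sub_eq_zero]
    exact (hT (-g')).2.1 _ (sub_mem (hP y) hx) (by rw [map_sub, hPT, hxy, sub_self])
  let L₀ : pieceK hB ℋ (-g' * q) →ₗ[k] k :=
    { toFun := fun y => ρ (β' 1 (P y))
      map_add' := fun y z => by
        rw [hPu (y + z) (P y + P z) (add_mem (hP y) (hP z)) (by rw [map_add, hPT, hPT]; rfl),
          map_add, map_add]
      map_smul' := fun a y => by
        obtain ⟨a, rfl⟩ := ρ.surjective a
        rw [hPu (ρ a • y) (a • P y) (ksmul_mem hB' ℋ' a (hP y)) (by rw [hkT, hPT]; rfl), map_smul,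
          RingHom.id_apply, smul_eq_mul, smul_eq_mul, map_mul] }
  obtain ⟨L, hL⟩ := LinearMap.exists_extend L₀
  let lam : H →ₗ[k] k := L ∘ₗ cptₖ hB ℋ (-g' * q)
  have hlamT : ∀ x ∈ ℋ' (-g'), lam (T x) = ρ (β' 1 x) := fun x hx => by
    have hm := (hT (-g')).1 x hx
    change L (cpt ℋ (-g' * q) (T x)) = _
    rw [cpt_of_mem ℋ hm]
    have h1 := LinearMap.congr_fun hL ⟨T x, hm⟩
    rw [LinearMap.comp_apply, Submodule.subtype_apply] at h1
    rw [h1]
    exact congrArg (fun z => ρ (β' 1 z)) (hPu _ x hx rfl)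
  have hlam0 : ∀ (j : ℤ), j ≠ -g' * q → ∀ h ∈ ℋ j, lam h = 0 := fun j hj h hh => by
    change L (cpt ℋ (-g' * q) h) = 0
    rw [cpt_of_mem_ne ℋ hh hj, map_zero]
  let β : R →ₗ[k] H →ₗ[k] k := LinearMap.mk₂ k (fun r h => lam (r • h))
    (fun a b h => by rw [add_smul, map_add])
    (fun c a h => by rw [smul_assoc, map_smul])
    (fun a x y => by rw [smul_add, map_add])
    (fun c a h => by rw [smul_comm, map_smul])
  have hβmul : ∀ (a r : R) (h : H), β (a * r) h = β r (a • h) := fun a r h => by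
    change lam ((a * r) • h) = lam (r • a • h)
    rw [smul_smul, mul_comm]
  -- non-degeneracy on the degrees divisible by `q`
  have F1 : ∀ (e : ℤ), ∀ s ∈ 𝒜 (e * q), (∀ h, β s h = 0) → s = 0 := by
    intro e s hs h0
    obtain ⟨r, hr, rfl⟩ := hex e s hs
    suffices r = 0 by rw [this, map_zero]
    refine hβ'.eq_zero (e + g') r (by rw [mem_shA, add_neg_cancel_right]; exact hr) fun x hx => ?_
    have h1 := h0 (T x)
    change lam (φ r • T x) = 0 at h1
    rw [← T.map_smulₛₗ, hlamT _ (by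
      have := smul_mem_gr (𝒜 := 𝒜') (ℳ := ℋ') hr hx
      rwa [show e + -(e + g') = -g' by abel] at this)] at h1
    refine ρ.injective ((?_ : ρ (β' r x) = 0).trans (map_zero ρ).symm)
    rw [← h1, ← hβ'.map_smul, smul_eq_mul, mul_one]
  have F2 : ∀ (e : ℤ) (c : H →ₗ[k] k), ∃ s ∈ 𝒜 (e * q),
      ∀ h ∈ ℋ (-(e + g') * q), β s h = c h := by
    intro e c
    let l : H' →ₗ[k'] k' :=
      { toFun := fun x => ρ.symm (c (T x))
        map_add' := fun a b => by rw [map_add, map_add, map_add]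
        map_smul' := fun a x => by
          rw [hkT, map_smul, smul_eq_mul, map_mul, ρ.symm_apply_apply, RingHom.id_apply, smul_eq_mul] }
    obtain ⟨r, hr, hrx⟩ := hβ'.exists_eq (e + g') l
    rw [mem_shA, add_neg_cancel_right] at hr
    refine ⟨φ r, hφ1 e r hr, fun h hh => ?_⟩
    obtain ⟨x, hx, rfl⟩ := (hT (-(e + g'))).2.2 h hh
    change lam (φ r • T x) = c (T x)
    rw [← T.map_smulₛₗ, hlamT _ (by
      have := smul_mem_gr (𝒜 := 𝒜') (ℳ := ℋ') hr hx
      rwa [show e + -(e + g') = -g' by abel] at this), ← hβ'.map_smul, smul_eq_mul, mul_one, hrx x hx]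
    exact ρ.apply_symm_apply _
  -- a power of `m` of the complementary degrees
  have hpow : ∀ p : ℤ, ∃ (i : ℕ) (e : ℤ), (i : ℤ) + p = e * q ∧
      m ^ i ≤ Ideal.span ((𝒜 (i : ℤ) : AddSubgroup R) : Set R) := fun p => by
    have hq' : (q : ℤ) ≠ 0 := by exact_mod_cast hq.ne'
    refine ⟨((-p) % (q : ℤ)).toNat, -((-p) / (q : ℤ)), ?_, hstd ▸ pow_span_one_le _⟩
    rw [Int.toNat_of_nonneg (Int.emod_nonneg _ hq'), neg_mul, mul_comm]
    have := Int.emod_add_mul_ediv (-p) (q : ℤ)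
    linarith
  have E0 : ∀ t, (∀ h, β t h = 0) → t = 0 := by
    have hhom : ∀ (p : ℤ), ∀ r ∈ 𝒜 p, (∀ h, β r h = 0) → r = 0 := by
      intro p r hr h0
      obtain ⟨i, e, hie, hspan⟩ := hpow p
      obtain ⟨x, hx, -, -, hxreg, -, -⟩ := hreg i
      refine hxreg r ?_
      refine Submodule.span_induction (p := fun z _ => z * r = 0) (fun s hs => ?_) (zero_mul r)
        (fun a b _ _ ha hb => by rw [add_mul, ha, hb, add_zero])
        (fun a b _ hb => by rw [smul_eq_mul, mul_assoc, hb, mul_zero]) (hspan hx)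
      refine F1 e _ ?_ fun h => by rw [hβmul]; exact h0 _
      have := SetLike.GradedMul.mul_mem (A := 𝒜) (show s ∈ 𝒜 (i : ℤ) from hs) hr
      rwa [hie] at this
    intro t ht
    refine eq_zero_of_cpt 𝒜 fun p => hhom p _ (cpt_mem 𝒜 p t) fun h => ?_
    induction h using homogeneous_induction ℋ with
    | zero => exact map_zero _
    | add a b ha hb => rw [map_add, ha, hb, add_zero]
    | hom j h hh =>
      by_cases hj : p + j = -g' * q
      · have h1 := ht h
        change lam (t • h) = 0 at h1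
        change lam (cpt 𝒜 p t • h) = 0
        have h2 : cpt ℋ (p + j) (t • h) = cpt 𝒜 p t • h := cpt_smul_right (𝒜 := 𝒜) ℋ hh t p
        change L (cpt ℋ (-g' * q) (t • h)) = 0 at h1
        rw [← hj, h2] at h1
        change L (cpt ℋ (-g' * q) (cpt 𝒜 p t • h)) = 0
        rw [← hj, cpt_of_mem ℋ (smul_mem_gr (ℳ := ℋ) (cpt_mem 𝒜 p t) hh)]
        exact h1
      · exact hlam0 _ hj _ (smul_mem_gr (ℳ := ℋ) (cpt_mem 𝒜 p t) hh)
  refine ⟨β, fun r d h => ?_, fun N d hd j hj h hh => ?_, fun N d hd h0 => ?_, fun N c => ?_⟩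
  · rw [smul_eq_mul, hβmul]
  · refine hlam0 (N + -(g' * q) + j) (fun h' => hj (by linarith)) _ ?_
    exact smul_mem_gr (ℳ := ℋ) (show d ∈ 𝒜 (N + -(g' * q)) from hd) hh
  · refine E0 d fun h => ?_
    induction h using homogeneous_induction ℋ with
    | zero => exact map_zero _
    | add a b ha hb => rw [map_add, ha, hb, add_zero]
    | hom j h hh =>
      by_cases hj : j = -N
      · subst hj; exact h0 h hh
      · refine hlam0 (N + -(g' * q) + j) (fun h' => hj (by linarith)) _ ?_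
        exact smul_mem_gr (ℳ := ℋ) (show d ∈ 𝒜 (N + -(g' * q)) from hd) hh
  · -- surjectivity
    set p : ℤ := N + -(g' * q) with hp
    let c' : H →ₗ[k] k := c ∘ₗ cptₖ hB ℋ (-N)
    have hc'0 : ∀ j, j ≠ -N → ∀ h ∈ ℋ j, c' h = 0 := fun j hj h hh => by
      change c (cpt ℋ (-N) h) = 0
      rw [cpt_of_mem_ne ℋ hh hj, map_zero]
    let J : Ideal R :=
      { carrier := {z | ∃ r, ∀ h, β r h = c' (z • h)}
        zero_mem' := ⟨0, fun h => by rw [map_zero, LinearMap.zero_apply, zero_smul, map_zero]⟩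
        add_mem' := fun {a b} ⟨r, hr⟩ ⟨r', hr'⟩ =>
          ⟨r + r', fun h => by rw [map_add, LinearMap.add_apply, hr, hr', add_smul, map_add]⟩
        smul_mem' := fun a z ⟨r, hr⟩ =>
          ⟨a * r, fun h => by rw [hβmul, hr, smul_smul, smul_eq_mul, mul_comm z a]⟩ }
    obtain ⟨i, e, hie, hspan⟩ := hpow p
    have hJ : m ^ i ≤ J := hspan.trans <| Ideal.span_le.mpr fun z hz => by
      obtain ⟨s, hs, hsx⟩ := F2 e (c' ∘ₗ DistribMulAction.toLinearMap k H z)
      refine ⟨s, fun h => ?_⟩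
      induction h using homogeneous_induction ℋ with
      | zero => rw [map_zero, smul_zero, map_zero]
      | add a b ha hb => rw [map_add, ha, hb, smul_add, map_add]
      | hom j h hh =>
        by_cases hj : j = -(e + g') * q
        · subst hj; exact hsx h hh
        · have hz' : z ∈ 𝒜 (i : ℤ) := hz
          rw [hc'0 _ (fun h' => hj (by linarith)) _ (smul_mem_gr (ℳ := ℋ) hz' hh)]
          exact hlam0 _ (fun h' => hj (by linarith)) _ (smul_mem_gr (ℳ := ℋ) hs hh)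
    obtain ⟨x, hx, y, hy, hxreg, hxy, hxsurj⟩ := hreg i
    obtain ⟨rx, hrx⟩ := hJ hx
    obtain ⟨ry, hry⟩ := hJ hy
    have hcomm : y * rx = x * ry := sub_eq_zero.mp <| E0 _ fun h => by
      rw [map_sub, LinearMap.sub_apply, hβmul, hβmul, hrx, hry, smul_smul, smul_smul, mul_comm, sub_self]
    obtain ⟨s, rfl⟩ := hxy _ _ hcomm
    have hs : ∀ h, β s h = c' h := fun h => by
      obtain ⟨h', rfl⟩ := hxsurj h
      rw [← hβmul]; exact hrx h'
    refine ⟨cpt 𝒜 p s, cpt_mem 𝒜 p s, fun h hh => ?_⟩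
    have h1 : β s h = c (cpt ℋ (-N) h) := hs h
    rw [cpt_of_mem ℋ hh] at h1
    rw [← h1]
    change lam (cpt 𝒜 p s • h) = lam (s • h)
    change L (cpt ℋ (-g' * q) (cpt 𝒜 p s • h)) = L (cpt ℋ (-g' * q) (s • h))
    rw [show (-g' * q : ℤ) = p + -N by linarith, cpt_smul_right (𝒜 := 𝒜) ℋ hh s p,
      cpt_of_mem ℋ (smul_mem_gr (ℳ := ℋ) (cpt_mem 𝒜 p s) hh)]

end Groth.Agent.GrDual
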