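import Groth.Agent.GrDual.GorCanon

/-!
# `R(-g)` as the graded dual of top local cohomology

`IsGDual R ℋ (shA 𝒜 g) β`: the pairing makes `R(-g)` the graded dual of `H`; this says that `H` is a shift of the hull.
-/

set_option autoImplicit false
set_option linter.unusedSectionVars false
set_option linter.style.haveILetI false
universe u

open DirectSum
open Groth.Agent.GrLC

noncomputable section

namespace Groth.Agent.GrDual

section Shift

variable {R : Type u} [CommRing R] (𝒜 : ℤ → AddSubgroup R) [GradedRing 𝒜]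

/-- The pieces of `R(-g)`. -/
def shA (g : ℤ) : ℤ → AddSubgroup R := fun j => 𝒜 (j + -g)

noncomputable instance (g : ℤ) : DirectSum.Decomposition (shA 𝒜 g) := (shiftGMod 𝒜 𝒜 (-g)).dec

instance (g : ℤ) : SetLike.GradedSMul 𝒜 (shA 𝒜 g) := (shiftGMod 𝒜 𝒜 (-g)).gsmul

variable {𝒜}

theorem mem_shA {g j : ℤ} {r : R} : r ∈ shA 𝒜 g j ↔ r ∈ 𝒜 (j + -g) := Iff.rfl

theorem one_mem_shA (g : ℤ) : (1 : R) ∈ shA 𝒜 g g := by
  rw [mem_shA, add_neg_cancel]
  exact SetLike.GradedOne.one_mem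

end Shift

variable {k : Type u} [Field k] {R : Type u} [CommRing R] [Algebra k R] [IsNoetherianRing R]
  {𝒜 : ℤ → AddSubgroup R} [GradedRing 𝒜]
variable (hB : Base k 𝒜)
variable {E : Type u} [AddCommGroup E] [Module R E] [Module k E] [IsScalarTower k R E]
  {τE : Type u} [SetLike τE E] [AddSubgroupClass τE E] {𝓔 : ℤ → τE} [DirectSum.Decomposition 𝓔]
  [SetLike.GradedSMul 𝒜 𝓔]
variable {m : HomogeneousIdeal 𝒜} (hm0 : ∀ n : ℤ, 0 < n → ∀ x ∈ 𝒜 n, x ∈ m.toIdeal)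
variable {π : E →ₗ[k] k} {e₁ : E} (hπ : IsCoord (𝓔 := 𝓔) (m := m) π e₁)
variable {H : Type u} [AddCommGroup H] [Module R H] [Module k H] [IsScalarTower k R H]
  {τH : Type u} [SetLike τH H] [AddSubgroupClass τH H] {ℋ : ℤ → τH} [DirectSum.Decomposition ℋ]
  [SetLike.GradedSMul 𝒜 ℋ]

theorem symm_mem_of_deg {g : ℤ} (φ : H ≃ₗ[R] E) (hφ : _root_.GrLC.IsGrHomDeg ℋ 𝓔 φ.toLinearMap g)
    {j : ℤ} {y : E} (hy : y ∈ 𝓔 j) : φ.symm y ∈ ℋ (j - g) := by
  obtain ⟨h, rfl⟩ := φ.surjective y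
  rw [φ.symm_apply_apply]
  suffices h = cpt ℋ (j - g) h by rw [this]; exact cpt_mem ℋ _ h
  refine φ.injective ?_
  have h1 := map_cptDeg (ℳ := ℋ) (𝒩 := 𝓔) hφ (j - g) h
  rw [show j - g + g = j by abel, show (φ.toLinearMap h) = φ h from rfl, cpt_of_mem 𝓔 hy] at h1
  exact h1.symm

include hB hm0 hπ in
/-- a shift of the hull is dual to a shift of `R` -/
theorem exists_shiftDual {g : ℤ} (φ : H ≃ₗ[R] E) (hφ : _root_.GrLC.IsGrHomDeg ℋ 𝓔 φ.toLinearMap g) :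
    ∃ β : R →ₗ[k] H →ₗ[k] k, _root_.GrSeg.IsGDual R ℋ (shA 𝒜 g) β := by
  obtain ⟨β₀, h₀⟩ := exists_gdual_ring hB hm0 hπ
  refine ⟨LinearMap.compl₂ β₀ (φ.toLinearMap.restrictScalars k), fun r d x => ?_, fun n d hd j hj x hx => ?_,
    fun n d hd hz => ?_, fun n l => ?_⟩
  · change β₀ (r • d) (φ x) = β₀ d (φ (r • x))
    rw [h₀.map_smul, φ.map_smul]
  · exact h₀.vanish _ d hd (j + g) (by omega) (φ x) (hφ j x hx)
  · refine h₀.eq_zero _ d hd fun y hy => ?_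
    have h := symm_mem_of_deg φ hφ hy
    rw [show -(n + -g) - g = -n by abel] at h
    have h' := hz _ h
    change β₀ d (φ (φ.symm y)) = 0 at h'
    rwa [φ.apply_symm_apply] at h'
  · obtain ⟨d, hd, hdx⟩ := h₀.exists_eq (n + -g) (l ∘ₗ φ.symm.toLinearMap.restrictScalars k)
    refine ⟨d, hd, fun x hx => ?_⟩
    change β₀ d (φ x) = l x
    have := hφ (-n) x hx
    rw [hdx _ (by rwa [show -n + g = -(n + -g) by abel] at this)]
    change l (φ.symm (φ x)) = l x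
    rw [φ.symm_apply_apply]

variable {g : ℤ} {β : R →ₗ[k] H →ₗ[k] k}

include hB hm0 hπ in
/-- conversely -/
theorem nonempty_equiv_of_shiftDual (hβ : _root_.GrSeg.IsGDual R ℋ (shA 𝒜 g) β) : Nonempty (H ≃ₗ[R] E) := by
  obtain ⟨φ, -⟩ := exists_equiv_of_gdual hB ℋ (shA 𝒜 g) hm0 hπ hβ
  exact ⟨φ.symm.trans (LinearMap.ringLmapEquivSelf R R E)⟩

include hB in
theorem eq_zero_of_shiftDual (hβ : _root_.GrSeg.IsGDual R ℋ (shA 𝒜 g) β) {j : ℤ} {h : H} (hh : h ∈ ℋ j)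
    (h0 : ∀ r ∈ 𝒜 (-j + -g), β r h = 0) : h = 0 := by
  have hfin : ∀ n, Module.Finite k (pieceK hB ℋ n) := fun n => by
    have := (finrank_eq hB ℋ (shA 𝒜 g) hβ (-n)).1
    rwa [neg_neg] at this
  exact (flip_isGDual hB ℋ (shA 𝒜 g) hβ hfin).eq_zero j h hh fun r hr => h0 r hr

include hB in
/-- the end of `H` is `-g` -/
theorem endDeg_of_shiftDual [Nontrivial R] {ℋ : ℤ → AddSubgroup H} [DirectSum.Decomposition ℋ]
    [SetLike.GradedSMul 𝒜 ℋ] (hβ : _root_.GrSeg.IsGDual R ℋ (shA 𝒜 g) β) :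
    _root_.GrLC.endDeg ℋ = (((-g : ℤ) : WithTop ℤ) : WithBot (WithTop ℤ)) := by
  refine le_antisymm (iSup₂_le fun j hj => ?_) ?_
  · rw [WithBot.coe_le_coe, WithTop.coe_le_coe]
    by_contra hlt
    refine hj ((AddSubgroup.eq_bot_iff_forall _).2 fun h hh => eq_zero_of_shiftDual hB hβ hh fun r hr => ?_)
    rw [hB.pos _ (by omega) r hr, map_zero, LinearMap.zero_apply]
  · refine le_iSup₂_of_le (-g) (fun hbot => ?_) le_rfl
    refine one_ne_zero (α := R) (hβ.eq_zero g 1 (one_mem_shA g) fun x hx => ?_)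
    rw [hbot, AddSubgroup.mem_bot] at hx
    rw [hx, map_zero]

include hB in
/-- the functional of `1` detects homogeneous elements after multiplication -/
theorem exists_mul_of_shiftDual (hβ : _root_.GrSeg.IsGDual R ℋ (shA 𝒜 g) β) {j : ℤ} {h : H}
    (hh : h ∈ ℋ j) (hne : h ≠ 0) : ∃ r ∈ 𝒜 (-j + -g), β 1 (r • h) ≠ 0 := by
  by_contra hc
  push Not at hc
  refine hne (eq_zero_of_shiftDual hB hβ hh fun r hr => ?_)
  rw [← hc r hr, ← hβ.map_smul, smul_eq_mul, mul_one]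

section Transfer

variable {k' : Type u} [Field k'] {R' : Type u} [CommRing R'] [Algebra k' R']
  {𝒜' : ℤ → AddSubgroup R'} [GradedRing 𝒜']
variable {H' : Type u} [AddCommGroup H'] [Module R' H'] [Module k' H'] [IsScalarTower k' R' H']
  {τH' : Type u} [SetLike τH' H'] [AddSubgroupClass τH' H'] {ℋ' : ℤ → τH'} [DirectSum.Decomposition ℋ']
  [SetLike.GradedSMul 𝒜' ℋ']

include hB in
/-- duality descends to the part along `θ` when the shift is in the image -/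
theorem exists_shiftDual_part (hB' : Base k' 𝒜') (φ : R' →+* R) (hφ : Function.Injective φ) (ρ : k' ≃+* k)
    (hρ : ∀ c, φ (algebraMap k' R' c) = algebraMap k R (ρ c)) (θ : ℤ →+ ℤ) (hθ : Function.Injective θ)
    (hφ1 : ∀ (i : ℤ) (r : R'), r ∈ 𝒜' i → φ r ∈ 𝒜 (θ i))
    (hex : ∀ (i : ℤ) (x : R), x ∈ 𝒜 (θ i) → ∃ r ∈ 𝒜' i, φ r = x)
    (T : H' →ₛₗ[φ] H) (hT : ∀ j, (∀ x ∈ ℋ' j, T x ∈ ℋ (θ j)) ∧ (∀ x ∈ ℋ' j, T x = 0 → x = 0) ∧
      ∀ y ∈ ℋ (θ j), ∃ x ∈ ℋ' j, T x = y)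
    {g' : ℤ} (hg : θ g' = g) (hβ : _root_.GrSeg.IsGDual R ℋ (shA 𝒜 g) β) :
    ∃ β' : R' →ₗ[k'] H' →ₗ[k'] k', _root_.GrSeg.IsGDual R' ℋ' (shA 𝒜' g') β' := by
  have hkT : ∀ (c : k') (x : H'), T (c • x) = ρ c • T x := fun c x => by
    rw [← algebraMap_smul R' c x, T.map_smulₛₗ, hρ, algebraMap_smul]
  have hkφ : ∀ (c : k') (r : R'), φ (c • r) = ρ c • φ r := fun c r => by
    rw [Algebra.smul_def, map_mul, hρ, ← Algebra.smul_def]
  let β' : R' →ₗ[k'] H' →ₗ[k'] k' := LinearMap.mk₂ k' (fun r x => ρ.symm (β (φ r) (T x)))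
    (fun a b x => by rw [map_add, map_add, LinearMap.add_apply, map_add])
    (fun c a x => by
      rw [hkφ, map_smul, LinearMap.smul_apply, smul_eq_mul, map_mul, ρ.symm_apply_apply, smul_eq_mul])
    (fun a x y => by rw [map_add, map_add, map_add])
    (fun c a x => by
      rw [hkT, map_smul, smul_eq_mul, map_mul, ρ.symm_apply_apply, smul_eq_mul])
  have hdeg : ∀ n : ℤ, θ (n + -g') = θ n + -g := fun n => by rw [map_add, map_neg, hg]
  refine ⟨β', fun r d x => ?_, fun n d hd j hj x hx => ?_, fun n d hd hz => ?_, fun n l => ?_⟩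
  · change ρ.symm (β (φ (r • d)) (T x)) = ρ.symm (β (φ d) (T (r • x)))
    rw [smul_eq_mul, map_mul, ← smul_eq_mul, hβ.map_smul, T.map_smulₛₗ]
  · change ρ.symm (β (φ d) (T x)) = 0
    have hd' : φ d ∈ shA 𝒜 g (θ n) := by
      rw [mem_shA, ← hdeg]; exact hφ1 _ d hd
    rw [hβ.vanish (θ n) _ hd' (θ j) (fun e => hj (hθ (by rw [e, map_neg]))) _ ((hT j).1 x hx), map_zero]
  · refine hφ ?_
    rw [map_zero]
    refine hβ.eq_zero (θ n) _ ?_ fun y hy => ?_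
    · rw [mem_shA, ← hdeg]; exact hφ1 _ d hd
    · rw [← map_neg] at hy
      obtain ⟨x, hx, rfl⟩ := (hT (-n)).2.2 y hy
      exact ρ.symm.injective ((hz x hx).trans (map_zero _).symm)
  · classical
    have hpre : ∀ y : pieceK hB ℋ (θ (-n)), ∃ x : H', x ∈ ℋ' (-n) ∧ T x = y.1 := fun y =>
      (hT (-n)).2.2 y.1 y.2
    choose P hP hPT using hpre
    have hPu : ∀ (y : pieceK hB ℋ (θ (-n))) (x : H'), x ∈ ℋ' (-n) → T x = y.1 → P y = x := by
      intro y x hx hxy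
      rw [← sub_eq_zero]
      exact (hT (-n)).2.1 _ (sub_mem (hP y) hx) (by rw [map_sub, hPT, hxy, sub_self])
    let L₀ : pieceK hB ℋ (θ (-n)) →ₗ[k] k :=
      { toFun := fun y => ρ (l (P y))
        map_add' := fun y z => by
          rw [hPu (y + z) (P y + P z) (add_mem (hP y) (hP z)) (by rw [map_add, hPT, hPT]; rfl),
            map_add, map_add]
        map_smul' := fun a y => by
          obtain ⟨a, rfl⟩ := ρ.surjective a
          rw [hPu (ρ a • y) (a • P y) (ksmul_mem hB' ℋ' a (hP y)) (by rw [hkT, hPT]; rfl), map_smul,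
            RingHom.id_apply, smul_eq_mul, smul_eq_mul, map_mul] }
    obtain ⟨L, hL⟩ := LinearMap.exists_extend L₀
    obtain ⟨c, hc, hcL⟩ := hβ.exists_eq (θ n) L
    obtain ⟨r, hr, rfl⟩ := hex (n + -g') c (by rw [hdeg]; exact hc)
    refine ⟨r, hr, fun x hx => ?_⟩
    change ρ.symm (β (φ r) (T x)) = l x
    have hm := (hT (-n)).1 x hx
    rw [hcL (T x) (by rwa [← map_neg])]
    have h1 := LinearMap.congr_fun hL ⟨T x, hm⟩
    rw [LinearMap.comp_apply, Submodule.subtype_apply] at h1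
    rw [h1]
    change ρ.symm (ρ (l (P ⟨T x, hm⟩))) = l x
    rw [ρ.symm_apply_apply, hPu _ x hx rfl]

end Transfer

end Groth.Agent.GrDual
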