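import Groth.Agent.GrDual.Hull
import Groth.Agent.GrLC.Pieces
import Mathlib.RingTheory.KrullDimension.Polynomial
import Mathlib.RingTheory.KrullDimension.Field
import Mathlib.RingTheory.Ideal.GoingUp
import Mathlib.Data.Int.Interval

/-!
# A standard graded quotient with a piece of dimension at most one has dimension at most one
-/

set_option autoImplicit false
set_option linter.unusedSectionVars false
set_option linter.style.haveILetI false
universe u

open DirectSum Polynomial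
open Groth.Agent.GrLC

namespace Groth.Agent.GrDual

theorem ringKrullDim_le_of_integral {X A : Type u} [CommRing X] [CommRing A] [Algebra X A]
    [Algebra.IsIntegral X A] : ringKrullDim A ≤ ringKrullDim X := by
  refine Order.krullDim_le_of_strictMono (PrimeSpectrum.comap (algebraMap X A)) fun P Q h => ?_
  obtain ⟨x, hxQ, hxP⟩ := SetLike.exists_of_lt
    (show P.asIdeal < Q.asIdeal from (PrimeSpectrum.asIdeal_lt_asIdeal P Q).2 h)
  exact (Ideal.comap_lt_comap_of_integral_mem_sdiff (R := X) h.le ⟨hxQ, hxP⟩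
    (Algebra.IsIntegral.isIntegral x) :)

variable {k : Type u} [Field k] {R : Type u} [CommRing R] [Algebra k R] [IsNoetherianRing R]
  {σ : Type u} [SetLike σ R] [AddSubgroupClass σ R] {𝒜 : ℤ → σ} [GradedRing 𝒜]
variable (hB : Base k 𝒜)

include hB in
theorem mem_span_succ (hstd : Ideal.span (⋃ n ∈ Set.Ioi (0 : ℤ), (𝒜 n : Set R)) =
    Ideal.span ((𝒜 1 : σ) : Set R)) {n : ℤ} (hn : 0 ≤ n) {x : R} (hx : x ∈ 𝒜 (n + 1)) :
    ∃ (s : ℕ) (a b : Fin s → R), (∀ t, a t ∈ 𝒜 1) ∧ (∀ t, b t ∈ 𝒜 n) ∧ x = ∑ t, b t * a t := by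
  have hx' : x ∈ Ideal.span ((𝒜 1 : σ) : Set R) := hstd ▸ Ideal.subset_span
    (Set.mem_iUnion₂.2 ⟨n + 1, show (0 : ℤ) < n + 1 by omega, hx⟩)
  rw [Ideal.span, Submodule.mem_span_iff_exists_finset_subset] at hx'
  obtain ⟨c, T, hT, -, hsum⟩ := hx'
  let g : Fin T.card → R := fun t => (T.equivFin.symm t).1
  have hg : ∀ t, g t ∈ 𝒜 1 := fun t => hT (T.equivFin.symm t).2
  have hspan : x ∈ Submodule.span R (Set.range g) := by
    rw [← hsum]
    refine sum_mem fun z hz => Submodule.smul_mem _ _ (Submodule.subset_span ⟨T.equivFin ⟨z, hz⟩, ?_⟩)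
    simp [g]
  obtain ⟨c', hc', he⟩ := exists_homogeneous_coeff (𝒜 := 𝒜) (ℳ := 𝒜) hg hx hspan
  exact ⟨_, g, c', hg, fun t => by simpa using hc' t, he.symm⟩

include hB in
theorem exists_linear_factor (hstd : Ideal.span (⋃ n ∈ Set.Ioi (0 : ℤ), (𝒜 n : Set R)) =
    Ideal.span ((𝒜 1 : σ) : Set R)) (J : Ideal R) {i : ℤ} (hi : 0 ≤ i) {y : R} (hy : y ∈ 𝒜 (i + 1))
    (hdim : ∀ x ∈ 𝒜 (i + 1), ∃ c : k, x - algebraMap k R c * y ∈ J) :
    ∃ l ∈ 𝒜 1, ∀ n : ℤ, i ≤ n → ∀ x ∈ 𝒜 (n + 1), ∃ v ∈ 𝒜 n, x - l * v ∈ J := by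
  suffices h : ∃ l ∈ 𝒜 1, ∃ w ∈ 𝒜 i, y - l * w ∈ J by
    obtain ⟨l, hl, w, hw, hlw⟩ := h
    refine ⟨l, hl, fun n hn => ?_⟩
    refine Int.le_induction (motive := fun n _ => ∀ x ∈ 𝒜 (n + 1), ∃ v ∈ 𝒜 n, x - l * v ∈ J) ?_ ?_ n hn
    · intro x hx
      obtain ⟨c, hc⟩ := hdim x hx
      refine ⟨algebraMap k R c * w, by simpa using SetLike.mul_mem_graded (hB.alg_mem c) hw, ?_⟩
      rw [show x - l * (algebraMap k R c * w) =
        (x - algebraMap k R c * y) + algebraMap k R c * (y - l * w) by ring]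
      exact add_mem hc (Ideal.mul_mem_left _ _ hlw)
    · intro n hn ih x hx
      obtain ⟨s, a, b, ha, hb, rfl⟩ := mem_span_succ hB hstd (by omega : (0 : ℤ) ≤ n + 1) hx
      choose v hv hbv using fun t => ih (b t) (hb t)
      refine ⟨∑ t, v t * a t, sum_mem fun t _ => SetLike.mul_mem_graded (hv t) (ha t), ?_⟩
      rw [Finset.mul_sum, ← Finset.sum_sub_distrib]
      refine sum_mem fun t _ => ?_
      rw [show b t * a t - l * (v t * a t) = (b t - l * v t) * a t by ring]
      exact Ideal.mul_mem_right _ _ (hbv t)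
  obtain ⟨s, a, b, ha, hb, hsum⟩ := mem_span_succ hB hstd hi hy
  by_cases hJ : ∀ t, b t * a t ∈ J
  · exact ⟨0, zero_mem _, 0, zero_mem _, by simpa [hsum] using sum_mem fun t _ => hJ t⟩
  push Not at hJ
  obtain ⟨t, ht⟩ := hJ
  obtain ⟨c, hc⟩ := hdim _ (SetLike.mul_mem_graded (hb t) (ha t))
  have hc0 : c ≠ 0 := fun h => ht (by simpa [h] using hc)
  refine ⟨a t, ha t, algebraMap k R c⁻¹ * b t, by simpa using SetLike.mul_mem_graded (hB.alg_mem c⁻¹) (hb t), ?_⟩
  have h1 : algebraMap k R c⁻¹ * algebraMap k R c = 1 := by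
    rw [← map_mul, inv_mul_cancel₀ hc0, map_one]
  have h2 := Ideal.mul_mem_left J (-algebraMap k R c⁻¹) hc
  rwa [show -algebraMap k R c⁻¹ * (b t * a t - algebraMap k R c * y) =
    (algebraMap k R c⁻¹ * algebraMap k R c) * y - a t * (algebraMap k R c⁻¹ * b t) by ring,
    h1, one_mul] at h2

include hB in
theorem ringKrullDim_quotient_le_one (hstd : Ideal.span (⋃ n ∈ Set.Ioi (0 : ℤ), (𝒜 n : Set R)) =
    Ideal.span ((𝒜 1 : σ) : Set R)) (J : Ideal R) {i : ℤ} (hi : 0 ≤ i) {y : R} (hy : y ∈ 𝒜 (i + 1))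
    (hdim : ∀ x ∈ 𝒜 (i + 1), ∃ c : k, x - algebraMap k R c * y ∈ J) :
    ringKrullDim (R ⧸ J) ≤ 1 := by
  classical
  obtain ⟨l, hl, hstep⟩ := exists_linear_factor hB hstd J hi hy hdim
  letI alg : Algebra k[X] (R ⧸ J) := ((Ideal.Quotient.mk J).comp (aeval l).toRingHom).toAlgebra
  have hal : ∀ p : k[X], algebraMap k[X] (R ⧸ J) p = Ideal.Quotient.mk J (aeval l p) := fun _ => rfl
  have hfin : ∀ n : ℤ, ∃ s : Finset R, ∀ x ∈ 𝒜 n, x ∈ Submodule.span k (s : Set R) := by
    intro n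
    haveI : Module.Finite k (pieceK hB 𝒜 n) := by
      obtain ⟨G, hG⟩ := (GrLC.finite_comp (𝒜 := 𝒜) hB.pos (ℳ := 𝒜) n).fg_top
      refine ⟨G.image fun x => (⟨x.1, x.2⟩ : pieceK hB 𝒜 n), eq_top_iff.2 fun x _ => ?_⟩
      suffices h : ∀ z ∈ Submodule.span (_root_.GrLC.deg0 𝒜) (G : Set (_root_.GrLC.comp 𝒜 𝒜 n)),
          (⟨z.1, z.2⟩ : pieceK hB 𝒜 n) ∈ Submodule.span k
            ((G.image fun x => (⟨x.1, x.2⟩ : pieceK hB 𝒜 n) : Finset (pieceK hB 𝒜 n)) :
              Set (pieceK hB 𝒜 n)) from h ⟨x.1, x.2⟩ (by rw [hG]; trivial)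
      intro z hz
      induction hz using Submodule.span_induction with
      | mem w hw => exact Submodule.subset_span (Finset.mem_coe.2 (Finset.mem_image_of_mem _ hw))
      | zero => exact zero_mem _
      | add a b _ _ ha hb => exact add_mem ha hb
      | smul r a _ ha =>
        obtain ⟨c, hc⟩ := hB.exists_alg r.1 r.2
        have h' := Submodule.smul_mem _ c ha
        convert h' using 1
        apply Subtype.ext
        change r.1 * a.1 = c • a.1
        rw [← hc, Algebra.smul_def]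
    obtain ⟨G, hG⟩ := (Submodule.fg_top (pieceK hB 𝒜 n)).1 Module.Finite.fg_top
    exact ⟨G, fun x hx => by rw [hG]; exact hx⟩
  choose F hF using hfin
  haveI : Module.Finite k[X] (R ⧸ J) := by
    let S : Submodule k[X] (R ⧸ J) := Submodule.span k[X]
      (Ideal.Quotient.mk J '' ((Finset.Icc 0 i).biUnion F : Set R))
    suffices h : S = ⊤ by
      refine ⟨?_⟩
      rw [← h]
      exact Submodule.fg_span (((Finset.finite_toSet _).image _))
    have hk : ∀ (c : k) (q : R ⧸ J), q ∈ S → c • q ∈ S := fun c q hq => by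
      have := S.smul_mem (Polynomial.C c) hq
      rwa [Algebra.smul_def, hal, aeval_C, ← Ideal.Quotient.algebraMap_eq,
        ← IsScalarTower.algebraMap_apply, ← Algebra.smul_def] at this
    have hlow : ∀ n : ℤ, n ≤ i → ∀ x ∈ 𝒜 n, Ideal.Quotient.mk J x ∈ S := by
      intro n hn x hx
      rcases lt_or_ge n 0 with h | h
      · rw [hB.pos n h x hx, map_zero]; exact zero_mem _
      · have hxs : x ∈ Submodule.span k (((Finset.Icc 0 i).biUnion F : Finset R) : Set R) :=
          Submodule.span_mono (Finset.coe_subset.2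
            (Finset.subset_biUnion_of_mem F (Finset.mem_Icc.2 ⟨h, hn⟩))) (hF n x hx)
        clear hx
        induction hxs using Submodule.span_induction with
        | mem z hz => exact Submodule.subset_span ⟨z, hz, rfl⟩
        | zero => rw [map_zero]; exact zero_mem _
        | add a b _ _ ha hb => rw [map_add]; exact add_mem ha hb
        | smul c a _ ha => exact hk c _ ha
    have hall : ∀ n : ℤ, ∀ x ∈ 𝒜 n, Ideal.Quotient.mk J x ∈ S := by
      suffices h : ∀ (j : ℕ) (n : ℤ), n ≤ i + j → ∀ x ∈ 𝒜 n, Ideal.Quotient.mk J x ∈ S from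
        fun n => h (n - i).toNat n (by omega)
      intro j
      induction j with
      | zero => intro n hn; exact hlow n (by simpa using hn)
      | succ j ih =>
        intro n hn x hx
        rcases le_or_gt n (i + j) with h | h
        · exact ih n h x hx
        · obtain ⟨m, rfl⟩ : ∃ m, n = m + 1 := ⟨n - 1, by ring⟩
          push_cast at hn
          obtain ⟨v, hv, hxv⟩ := hstep m (by omega) x hx
          have h2 := S.smul_mem Polynomial.X (ih m (by omega) v hv)
          rw [Algebra.smul_def, hal, aeval_X, ← map_mul] at h2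
          rw [Ideal.Quotient.eq.2 hxv]
          exact h2
    refine eq_top_iff.2 fun q _ => ?_
    obtain ⟨x, rfl⟩ := Ideal.Quotient.mk_surjective q
    rw [← sum_cpt 𝒜 x, map_sum]
    exact sum_mem fun n _ => hall n _ (cpt_mem 𝒜 n x)
  haveI : Algebra.IsIntegral k[X] (R ⧸ J) := Algebra.IsIntegral.of_finite _ _
  refine (ringKrullDim_le_of_integral (X := k[X])).trans ?_
  rw [Polynomial.ringKrullDim_of_isNoetherianRing, ringKrullDim_eq_zero_of_field, zero_add]

end Groth.Agent.GrDual
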