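import Groth.Agent.GrLC.Hom
import Groth.Agent.GrLC.Prime
import Groth.Agent.GrLC.Pieces
import Mathlib.LinearAlgebra.Basis.VectorSpace
import Mathlib.LinearAlgebra.Dual.Lemmas

/-!
# The *injective hull of the residue field of a graded algebra over a field is the graded dual

`Hull.exists_func` gives a functional `π` on the hull; `exists_hom`, `hom_ext` say that `f ↦ π ∘ f` identifies
`Hom(M, E)_d` with the dual of `M_{-d}`.
-/

set_option autoImplicit false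
set_option linter.unusedSectionVars false
set_option linter.style.haveILetI false
universe u

open DirectSum
open Groth.Agent.GrLC

namespace Groth.Agent.GrDual

variable (k : Type u) [Field k] {R : Type u} [CommRing R] [Algebra k R]
  {σ : Type u} [SetLike σ R] [AddSubgroupClass σ R] (𝒜 : ℤ → σ) [GradedRing 𝒜]

/-- `R` is positively graded with degree-zero part `k`. -/
structure Base : Prop where
  pos : ∀ n : ℤ, n < 0 → ∀ x ∈ 𝒜 n, x = 0
  alg_mem : ∀ c : k, algebraMap k R c ∈ 𝒜 0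
  exists_alg : ∀ x ∈ 𝒜 0, ∃ c : k, algebraMap k R c = x

variable {k 𝒜}

theorem mem_of_forall_cpt {C : Ideal R} (hC : C.IsHomogeneous 𝒜) {x : R} :
    x ∈ C ↔ ∀ i, cpt 𝒜 i x ∈ C :=
  ⟨fun h i => hC i h, fun h => by rw [← sum_cpt 𝒜 x]; exact sum_mem fun i _ => h i⟩

section KPieces

variable (hB : Base k 𝒜)
variable {M : Type u} [AddCommGroup M] [Module R M] [Module k M] [IsScalarTower k R M]
  {τ : Type u} [SetLike τ M] [AddSubgroupClass τ M] (ℳ : ℤ → τ) [DirectSum.Decomposition ℳ]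
  [SetLike.GradedSMul 𝒜 ℳ]

include hB in
theorem ksmul_mem {n : ℤ} (c : k) {x : M} (hx : x ∈ ℳ n) : c • x ∈ ℳ n := by
  have h := smul_mem_gr (𝒜 := 𝒜) (ℳ := ℳ) (hB.alg_mem c) hx
  rwa [zero_add, algebraMap_smul] at h

include hB in
theorem cpt_ksmul (n : ℤ) (c : k) (x : M) : cpt ℳ n (c • x) = c • cpt ℳ n x := by
  rw [← algebraMap_smul R c x, cpt_smul_left' (𝒜 := 𝒜) ℳ (hB.alg_mem c), sub_zero, algebraMap_smul]

/-- The component as a `k`-linear map. -/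
noncomputable def cptₖ (n : ℤ) : M →ₗ[k] M :=
  { toFun := cpt ℳ n, map_add' := map_add _, map_smul' := fun c x => cpt_ksmul hB ℳ n c x }

@[simp] theorem cptₖ_apply (n : ℤ) (x : M) : cptₖ hB ℳ n x = cpt ℳ n x := rfl

/-- A piece as a `k`-subspace. -/
def pieceK (n : ℤ) : Submodule k M where
  carrier := (ℳ n : Set M)
  add_mem' := add_mem
  zero_mem' := zero_mem _
  smul_mem' c _ hx := ksmul_mem hB ℳ c hx

@[simp] theorem mem_pieceK {n : ℤ} {x : M} : x ∈ pieceK hB ℳ n ↔ x ∈ ℳ n := Iff.rfl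

end KPieces

variable (hB : Base k 𝒜)
variable {E : Type u} [AddCommGroup E] [Module R E] [Module k E] [IsScalarTower k R E]
  {τE : Type u} [SetLike τE E] [AddSubgroupClass τE E] {𝓔 : ℤ → τE} [DirectSum.Decomposition 𝓔]
  [SetLike.GradedSMul 𝒜 𝓔]
variable {m : HomogeneousIdeal 𝒜} {e : (R ⧸ m.toIdeal) →ₗ[R] E}

/-- `π` is the degree-zero coordinate on a *injective hull of `R ⧸ m`. -/
structure IsCoord (π : E →ₗ[k] k) (e₁ : E) : Prop where
  starInj : _root_.GrLC.IsStarInj 𝒜 𝓔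
  e₁_mem : e₁ ∈ 𝓔 0
  e₁_smul : ∀ r ∈ m.toIdeal, r • e₁ = 0
  coord_e₁ : π e₁ = 1
  coord_ne : ∀ j : ℤ, j ≠ 0 → ∀ y ∈ 𝓔 j, π y = 0
  eq_smul : ∀ y ∈ 𝓔 0, y = π y • e₁
  eq_zero_of_pos : ∀ j : ℤ, 0 < j → ∀ y ∈ 𝓔 j, y = 0
  exists_mul : ∀ (j : ℤ) (y : E), y ∈ 𝓔 j → y ≠ 0 → ∃ r ∈ 𝒜 (-j), π (r • y) ≠ 0

include hB in
theorem exists_coord (hm0 : ∀ n : ℤ, 0 < n → ∀ x ∈ 𝒜 n, x ∈ m.toIdeal) (hm1 : m.toIdeal ≠ ⊤)
    (he : _root_.GrLC.IsStarInjHull 𝒜 (_root_.GrLC.quotGr 𝒜 m) 𝓔 e) :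
    ∃ (π : E →ₗ[k] k) (e₁ : E), IsCoord (𝓔 := 𝓔) (m := m) π e₁ := by
  letI := quotDec 𝒜 m
  haveI := quotGradedSMul (𝒜 := 𝒜) m
  haveI : Nontrivial (R ⧸ m.toIdeal) := Submodule.Quotient.nontrivial_iff.2 hm1
  let e₁ : E := e 1
  have he0 : e₁ ∈ 𝓔 0 := he.grHom 0 1 ⟨1, SetLike.GradedOne.one_mem, rfl⟩
  have he1 : e₁ ≠ 0 := fun h => one_ne_zero (he.injective (h.trans (map_zero e).symm))
  have hmk : ∀ r : R, e (Ideal.Quotient.mk m.toIdeal r) = r • e₁ := by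
    intro r
    rw [← map_smul]
    congr 1
    rw [Algebra.smul_def, mul_one]
    rfl
  have hkill : ∀ r ∈ m.toIdeal, r • e₁ = 0 := fun r hr => by
    rw [← hmk, Ideal.Quotient.eq_zero_iff_mem.2 hr, map_zero]
  have hrange : ∀ y ∈ LinearMap.range e, ∃ c : k, y = c • e₁ := by
    rintro y ⟨q, rfl⟩
    obtain ⟨r, rfl⟩ := Ideal.Quotient.mk_surjective q
    obtain ⟨c, hc⟩ := hB.exists_alg _ (cpt_mem 𝒜 0 r)
    refine ⟨c, ?_⟩
    rw [hmk, ← algebraMap_smul R c e₁, hc]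
    rw [← sub_eq_zero, ← sub_smul]
    refine hkill _ ?_
    refine (mem_of_forall_cpt (C := m.toIdeal) m.isHomogeneous).2 fun i => ?_
    rw [map_sub, cpt_cpt]
    rcases lt_trichotomy i 0 with hi | rfl | hi
    · rw [if_neg (Ne.symm hi.ne), hB.pos i hi _ (cpt_mem 𝒜 i r), sub_zero]; exact zero_mem _
    · rw [if_pos rfl, sub_self]; exact zero_mem _
    · rw [if_neg hi.ne, sub_zero]; exact hm0 i hi _ (cpt_mem 𝒜 i r)
  have key : ∀ (j : ℤ) (y : E), y ∈ 𝓔 j → y ≠ 0 →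
      ∃ r ∈ 𝒜 (-j), ∃ c : k, c ≠ 0 ∧ r • y = c • e₁ := by
    intro j y hy hy0
    obtain ⟨i, r, hr, hry, hrf⟩ := isStarEss_exists_mul (𝒜 := 𝒜) he.toIsStarEss y hy0
    obtain ⟨c, hc⟩ := hrange _ hrf
    have hc0 : c ≠ 0 := fun h => hry (by rw [hc, h, zero_smul])
    have hi : i + j = 0 := by
      by_contra hne
      have h1 := cpt_of_mem_ne 𝓔 (smul_mem_gr (𝒜 := 𝒜) (ℳ := 𝓔) hr hy) hne
      rw [hc, cpt_of_mem 𝓔 (ksmul_mem hB 𝓔 c he0)] at h1
      exact hry (hc.trans h1)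
    exact ⟨r, by rwa [show -j = i by omega], c, hc0, hc⟩
  obtain ⟨g, hg⟩ := LinearMap.exists_extend ((LinearEquiv.toSpanNonzeroSingleton k E e₁ he1).symm.toLinearMap)
  have hg1 : g e₁ = 1 := by
    have h := LinearMap.congr_fun hg ⟨e₁, Submodule.mem_span_singleton_self e₁⟩
    rw [LinearMap.comp_apply, Submodule.subtype_apply] at h
    rw [h]
    exact (LinearEquiv.coord_self k E e₁ he1)
  let π : E →ₗ[k] k := g ∘ₗ cptₖ hB 𝓔 0
  have hπ0 : ∀ c : k, π (c • e₁) = c := fun c => by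
    change g (cpt 𝓔 0 (c • e₁)) = c
    rw [cpt_of_mem 𝓔 (ksmul_mem hB 𝓔 c he0), map_smul, hg1, smul_eq_mul, mul_one]
  refine ⟨π, e₁, ⟨he.starInj, he0, hkill, by simpa using hπ0 1, fun j hj y hy => ?_, fun y hy => ?_,
    fun j hj y hy => ?_, fun j y hy hy0 => ?_⟩⟩
  · change g (cpt 𝓔 0 y) = 0
    rw [cpt_of_mem_ne 𝓔 hy hj, map_zero]
  · by_cases hy0 : y = 0
    · rw [hy0, map_zero, zero_smul]
    · obtain ⟨r, hr, c, hc, hrc⟩ := key 0 y hy hy0
      rw [neg_zero] at hr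
      obtain ⟨a, rfl⟩ := hB.exists_alg r hr
      rw [algebraMap_smul] at hrc
      have ha : a ≠ 0 := fun h => by
        rw [h, zero_smul] at hrc
        exact smul_ne_zero hc he1 hrc.symm
      have hy' : y = (a⁻¹ * c) • e₁ := by rw [mul_smul, ← hrc, smul_smul, inv_mul_cancel₀ ha, one_smul]
      rw [hy', hπ0]
  · by_contra hy0
    obtain ⟨r, hr, c, hc, hrc⟩ := key j y hy hy0
    rw [hB.pos (-j) (by omega) r hr, zero_smul] at hrc
    exact smul_ne_zero hc he1 hrc.symm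
  · obtain ⟨r, hr, c, hc, hrc⟩ := key j y hy hy0
    exact ⟨r, hr, by rwa [hrc, hπ0]⟩

variable {π : E →ₗ[k] k} {e₁ : E} (hπ : IsCoord (𝓔 := 𝓔) (m := m) π e₁)
variable {M : Type u} [AddCommGroup M] [Module R M] [Module k M] [IsScalarTower k R M]
  {τ : Type u} [SetLike τ M] [AddSubgroupClass τ M] (ℳ : ℤ → τ) [DirectSum.Decomposition ℳ]
  [SetLike.GradedSMul 𝒜 ℳ]

include hπ in
/-- A homogeneous map into the hull vanishes once it does on the dual degree. -/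
theorem hom_ext {d : ℤ} {f : M →ₗ[R] E} (hf : _root_.GrLC.IsGrHomDeg ℳ 𝓔 f d)
    (h : ∀ x ∈ ℳ (-d), π (f x) = 0) : f = 0 := by
  refine linearMap_ext ℳ fun g x hx => ?_
  rw [LinearMap.zero_apply]
  by_contra hne
  obtain ⟨r, hr, hrne⟩ := hπ.exists_mul _ _ (hf g x hx) hne
  refine hrne ?_
  rw [← map_smul]
  refine h _ ?_
  have := smul_mem_gr (𝒜 := 𝒜) (ℳ := ℳ) hr hx
  rwa [show -(g + d) + g = -d by abel] at this

include hB hπ in
/-- Every functional on the dual degree comes from a homogeneous map into the hull. -/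
theorem exists_hom (hm0 : ∀ n : ℤ, 0 < n → ∀ x ∈ 𝒜 n, x ∈ m.toIdeal) (d : ℤ) (l : M →ₗ[k] k) :
    ∃ f : M →ₗ[R] E, _root_.GrLC.IsGrHomDeg ℳ 𝓔 f d ∧ ∀ x ∈ ℳ (-d), π (f x) = l x := by
  classical
  by_cases h0 : ∀ x ∈ ℳ (-d), l x = 0
  · exact ⟨0, fun g x _ => zero_mem _, fun x hx => by simp [h0 x hx]⟩
  push Not at h0
  obtain ⟨x₁, hx₁, hl₁⟩ := h0
  let x₀ : M := (l x₁)⁻¹ • x₁
  have hx₀ : x₀ ∈ ℳ (-d) := ksmul_mem hB ℳ _ hx₁
  have hl₀ : l x₀ = 1 := by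
    change l ((l x₁)⁻¹ • x₁) = 1
    rw [map_smul, smul_eq_mul, inv_mul_cancel₀ hl₁]
  let L : M →ₗ[k] k := l ∘ₗ cptₖ hB ℳ (-d)
  -- the largest submodule killed by the functional
  let Q : Submodule R M :=
    { carrier := {x | ∀ r : R, L (r • x) = 0}
      add_mem' := fun {a b} ha hb r => by rw [smul_add, map_add, ha, hb, add_zero]
      zero_mem' := fun r => by rw [smul_zero, map_zero]
      smul_mem' := fun s x hx r => by rw [smul_smul]; exact hx _ }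
  have hQhom : Q.IsHomogeneous ℳ := by
    intro i x hx r
    change L (r • (cpt ℳ i x)) = 0
    induction r using homogeneous_induction 𝒜 with
    | zero => rw [zero_smul, map_zero]
    | add a b ha hb => rw [add_smul, map_add, ha, hb, add_zero]
    | hom p r hr =>
      by_cases hp : p + i = -d
      · have h1 : L (r • x) = 0 := hx r
        change l (cpt ℳ (-d) (r • cpt ℳ i x)) = 0
        rw [cpt_of_mem ℳ (hp ▸ smul_mem_gr (𝒜 := 𝒜) (ℳ := ℳ) hr (cpt_mem ℳ i x)),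
          ← cpt_smul_left (𝒜 := 𝒜) ℳ hr x i, hp]
        exact h1
      · change l (cpt ℳ (-d) (r • cpt ℳ i x)) = 0
        rw [cpt_of_mem_ne ℳ (smul_mem_gr (𝒜 := 𝒜) (ℳ := ℳ) hr (cpt_mem ℳ i x)) hp, map_zero]
  letI := quoDec ℳ hQhom
  haveI := quoGr_gradedSMul (𝒜 := 𝒜) ℳ Q
  have hker : ∀ x ∈ ℳ (-d), x - l x • x₀ ∈ Q := by
    intro x hx r
    induction r using homogeneous_induction 𝒜 with
    | zero => rw [zero_smul, map_zero]
    | add a b ha hb => rw [add_smul, map_add, ha, hb, add_zero]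
    | hom p r hr =>
      have hmem : r • (x - l x • x₀) ∈ ℳ (p + -d) :=
        smul_mem_gr (𝒜 := 𝒜) (ℳ := ℳ) hr (sub_mem hx (ksmul_mem hB ℳ _ hx₀))
      change l (cpt ℳ (-d) _) = 0
      by_cases hp : p = 0
      · subst hp
        obtain ⟨c, rfl⟩ := hB.exists_alg r hr
        rw [zero_add] at hmem
        rw [cpt_of_mem ℳ hmem, algebraMap_smul, map_smul, map_sub, map_smul, hl₀, smul_eq_mul,
          smul_eq_mul, mul_one, sub_self, mul_zero]
      · rw [cpt_of_mem_ne ℳ hmem (by omega), map_zero]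
  have hirr : ∀ p : ℤ, 0 < p → ∀ r ∈ 𝒜 p, r • x₀ ∈ Q := by
    intro p hp r hr s
    induction s using homogeneous_induction 𝒜 with
    | zero => rw [zero_smul, map_zero]
    | add a b ha hb => rw [add_smul, map_add, ha, hb, add_zero]
    | hom q s hs =>
      change l (cpt ℳ (-d) _) = 0
      rcases lt_or_ge q 0 with hq | hq
      · rw [hB.pos q hq s hs, zero_smul, map_zero, map_zero]
      · rw [cpt_of_mem_ne ℳ (smul_mem_gr (𝒜 := 𝒜) (ℳ := ℳ) hs (smul_mem_gr (𝒜 := 𝒜) (ℳ := ℳ) hr hx₀))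
          (by omega), map_zero]
  have hkillQ : ∀ r ∈ m.toIdeal, r • x₀ ∈ Q := by
    intro r hr
    have hcpt : ∀ i, cpt 𝒜 i r ∈ m.toIdeal := (mem_of_forall_cpt (C := m.toIdeal) m.isHomogeneous).1 hr
    rw [← sum_cpt 𝒜 r, Finset.sum_smul]
    refine sum_mem fun i _ => ?_
    rcases lt_trichotomy i 0 with hi | rfl | hi
    · rw [hB.pos i hi _ (cpt_mem 𝒜 i r), zero_smul]; exact zero_mem _
    · obtain ⟨c, hc⟩ := hB.exists_alg _ (cpt_mem 𝒜 0 r)
      have h1 : c • e₁ = 0 := by rw [← algebraMap_smul R c e₁, hc, hπ.e₁_smul _ (hcpt 0)]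
      have hc0 : c = 0 := by
        have := congrArg π h1
        rwa [map_smul, hπ.coord_e₁, smul_eq_mul, mul_one, map_zero] at this
      rw [← hc, hc0, map_zero, zero_smul]; exact zero_mem _
    · exact hirr i hi _ (cpt_mem 𝒜 i r)
  -- `R ⧸ m` into the quotient
  letI := quotDec 𝒜 m
  haveI := quotGradedSMul (𝒜 := 𝒜) m
  let a₀ : (R ⧸ m.toIdeal) →ₗ[R] M ⧸ Q :=
    Submodule.liftQ m.toIdeal (LinearMap.toSpanSingleton R _ (Q.mkQ x₀)) fun r hr => by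
      rw [LinearMap.mem_ker, LinearMap.toSpanSingleton_apply, ← map_smul]
      exact (Submodule.Quotient.mk_eq_zero Q).2 (hkillQ r hr)
  let g₀ : (R ⧸ m.toIdeal) →ₗ[R] E :=
    Submodule.liftQ m.toIdeal (LinearMap.toSpanSingleton R _ e₁) fun r hr => by
      rw [LinearMap.mem_ker, LinearMap.toSpanSingleton_apply, hπ.e₁_smul r hr]
  have ha₀ : _root_.GrLC.IsGrHomDeg (_root_.GrLC.quotGr 𝒜 m) (quoGr ℳ Q) a₀ (-d) := by
    rintro g _ ⟨r, hr, rfl⟩
    exact ⟨r • x₀, smul_mem_gr (𝒜 := 𝒜) (ℳ := ℳ) hr hx₀, map_smul Q.mkQ r x₀⟩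
  have hinj : Function.Injective a₀ := by
    rw [← LinearMap.ker_eq_bot, Submodule.eq_bot_iff]
    intro q hq
    obtain ⟨r, rfl⟩ := Ideal.Quotient.mk_surjective q
    refine Ideal.Quotient.eq_zero_iff_mem.2 ((mem_of_forall_cpt (C := m.toIdeal) m.isHomogeneous).2 fun i => ?_)
    rcases lt_trichotomy i 0 with hi | rfl | hi
    · rw [hB.pos i hi _ (cpt_mem 𝒜 i r)]; exact zero_mem _
    · have h1 : r • x₀ ∈ Q := by
        have h2 : Q.mkQ (r • x₀) = 0 := by rw [map_smul]; exact hq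
        exact (Submodule.Quotient.mk_eq_zero Q).1 h2
      have h3 := h1 1
      obtain ⟨c, hc⟩ := hB.exists_alg _ (cpt_mem 𝒜 0 r)
      change l (cpt ℳ (-d) ((1 : R) • r • x₀)) = 0 at h3
      rw [one_smul, show (-d : ℤ) = 0 + -d by simp, cpt_smul_right (𝒜 := 𝒜) ℳ hx₀, ← hc,
        algebraMap_smul, map_smul, hl₀, smul_eq_mul, mul_one] at h3
      rw [← hc, h3, map_zero]
      exact zero_mem _
    · exact hm0 i hi _ (cpt_mem 𝒜 i r)
  obtain ⟨h, hh, hhe⟩ := hπ.starInj (toGMod (𝒜 := 𝒜) (_root_.GrLC.quotGr 𝒜 m))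
    (shiftGMod 𝒜 (quoGr ℳ Q) (-d)) a₀ (fun g x hx => ha₀ g x hx) hinj g₀ (by
      rintro g _ ⟨r, hr, rfl⟩
      have := smul_mem_gr (𝒜 := 𝒜) (ℳ := 𝓔) hr hπ.e₁_mem
      rwa [add_zero] at this)
  refine ⟨h ∘ₗ Q.mkQ, fun g x hx => hh (g + d) _ (by
    change Q.mkQ x ∈ quoGr ℳ Q (g + d + -d)
    rw [add_neg_cancel_right]
    exact isGrHom_mkQ ℳ Q g x hx), fun x hx => ?_⟩
  have h1 : h (Q.mkQ x₀) = e₁ := by
    have := LinearMap.congr_fun hhe (Ideal.Quotient.mk m.toIdeal 1)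
    have e2 : a₀ (Ideal.Quotient.mk m.toIdeal 1) = Q.mkQ x₀ := by
      change (1 : R) • Q.mkQ x₀ = Q.mkQ x₀
      rw [one_smul]
    have e3 : g₀ (Ideal.Quotient.mk m.toIdeal 1) = e₁ := by
      change (1 : R) • e₁ = e₁
      rw [one_smul]
    exact ((congrArg (fun z => h z) e2).symm.trans this).trans e3
  have h2 : Q.mkQ x = Q.mkQ (l x • x₀) := by
    rw [← sub_eq_zero, ← map_sub]
    exact (Submodule.Quotient.mk_eq_zero Q).2 (hker x hx)
  change π (h (Q.mkQ x)) = l x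
  rw [h2, ← algebraMap_smul R (l x) x₀, map_smul Q.mkQ (algebraMap k R (l x)) x₀]
  refine (congrArg π ((h.map_smul _ _).trans (congrArg (algebraMap k R (l x) • ·) h1))).trans ?_
  rw [algebraMap_smul, map_smul, hπ.coord_e₁, smul_eq_mul, mul_one]

end Groth.Agent.GrDual
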