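import Groth.Agent.GrDual.Duality
import Groth.Agent.GrLC.StarCM
import Groth.Agent.GrLC.MapLin
import Groth.Agent.GrLC.Res
import Mathlib.LinearAlgebra.StdBasis
import Mathlib.Algebra.Category.ModuleCat.Projective

/-!
# Graded local duality for Cohen–Macaulay algebras

For `C` pairing perfectly with `H^n(R)`, `n = dim R`, and `D` pairing perfectly with `H^q(M)`,
`q + i = n`, `D ≅ Ext^i(M, C)`.
-/

set_option autoImplicit false
set_option linter.unusedSectionVars false
set_option linter.style.haveILetI false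
set_option maxRecDepth 20000
universe u

open DirectSum CategoryTheory CategoryTheory.Abelian
open Groth.Agent.GrLC

noncomputable section

namespace Groth.Agent.GrDual.LocalDuality

variable {k : Type u} [Field k] {R : Type u} [CommRing R] [Algebra k R] [IsNoetherianRing R]
  {𝒜 : ℤ → AddSubgroup R} [GradedRing 𝒜]

/-- the `k`-structure of local cohomology -/
scoped instance lcK (a : Ideal R) (i : ℕ) (M : Type u) [AddCommGroup M] [Module R M] :
    Module k (LocCoh.H a i M) := Module.compHom _ (algebraMap k R)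

scoped instance lcTower (a : Ideal R) (i : ℕ) (M : Type u) [AddCommGroup M] [Module R M] :
    IsScalarTower k R (LocCoh.H a i M) := IsScalarTower.of_algebraMap_smul fun _ _ => rfl

variable (hB : Base k 𝒜) {m : HomogeneousIdeal 𝒜} {n : ℕ} (hn : ringKrullDim R = n)
variable {C : Type u} [AddCommGroup C] [Module R C] [Module k C] [IsScalarTower k R C]
  (𝒞 : ℤ → AddSubgroup C) [DirectSum.Decomposition 𝒞] [SetLike.GradedSMul 𝒜 𝒞]
  [DirectSum.Decomposition (LC.gr 𝒜 m n)]
  {βK : C →ₗ[k] LocCoh.H m.toIdeal n R →ₗ[k] k}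
  (hK : _root_.GrSeg.IsGDual R (LC.gr 𝒜 m n) 𝒞 βK)
variable {M : Type u} [AddCommGroup M] [Module R M]
  (ℳ : ℤ → AddSubgroup M) [DirectSum.Decomposition ℳ] [SetLike.GradedSMul 𝒜 ℳ] [Module.Finite R M]

variable (m n) in
/-- `h ↦ h • x` from `H^n(R)` to `H^n(M)`. -/
def push (x : M) : LocCoh.H m.toIdeal n R →ₗ[R] LocCoh.H m.toIdeal n M :=
  LocCohElt.map m.toIdeal n (LinearMap.toSpanSingleton R M x)

theorem push_add (x y : M) (h : LocCoh.H m.toIdeal n R) :
    push m n (x + y) h = push m n x h + push m n y h := by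
  rw [push, push, push, ← GrSegre.H_map_add]
  congr 2
  exact LinearMap.ext fun r => smul_add r x y

theorem push_zero (h : LocCoh.H m.toIdeal n R) : push m n (0 : M) h = 0 := by
  rw [push, LinearMap.toSpanSingleton_zero, GrSegre.H_map_zero]

theorem push_smul (r : R) (x : M) (h : LocCoh.H m.toIdeal n R) :
    push m n (r • x) h = push m n x (r • h) := by
  have e : LinearMap.toSpanSingleton R M (r • x) = r • LinearMap.toSpanSingleton R M x :=
    LinearMap.ext fun s => smul_comm s r x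
  rw [map_smul (push m n x), push, push, e, H_map_smul]

theorem push_sum {κ : Type} (t : Finset κ) (v : κ → M) (h : LocCoh.H m.toIdeal n R) :
    push m n (∑ a ∈ t, v a) h = ∑ a ∈ t, push m n (v a) h := by
  classical
  induction t using Finset.induction with
  | empty => rw [Finset.sum_empty, Finset.sum_empty, push_zero]
  | insert a t ha ih => rw [Finset.sum_insert ha, Finset.sum_insert ha, push_add, ih]

theorem push_mem {q j : ℤ} {x : M} (hx : x ∈ ℳ q) {h : LocCoh.H m.toIdeal n R}
    (hh : h ∈ LC.gr 𝒜 m n j) : push m n x h ∈ LC.gr ℳ m n (j + q) :=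
  LC.map_mem_gr_deg m n (fun _ _ hr => smul_mem_gr (𝒜 := 𝒜) (ℳ := ℳ) hr hx) hh

theorem push_map {N : Type u} [AddCommGroup N] [Module R N] (v : N →ₗ[R] M) (x : N)
    (h : LocCoh.H m.toIdeal n R) :
    LocCohElt.map m.toIdeal n v (push m n x h) = push m n (v x) h := by
  rw [push, push, LocCohElt.map_comp]
  congr 2
  exact LinearMap.ext fun r => v.map_smul r x

include hn in
theorem exists_push (y : LocCoh.H m.toIdeal n M) :
    ∃ (s : ℕ) (g : Fin s → M) (h : Fin s → LocCoh.H m.toIdeal n R),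
      y = ∑ a, push m n (g a) (h a) := by
  obtain ⟨s, g, hgs⟩ := Module.Finite.exists_fin (R := R) (M := M)
  have hsurj : Function.Surjective (Fintype.linearCombination R g) := by
    rw [← LinearMap.range_eq_top, Fintype.range_linearCombination, hgs]
  obtain ⟨h, hh⟩ := exists_gens m.toIdeal g hn hsurj y
  exact ⟨s, g, h, hh⟩

include hn in
/-- functionals on `H^n(M)` agreeing on products agree -/
theorem ext_push {Φ Φ' : LocCoh.H m.toIdeal n M →ₗ[k] k}
    (h : ∀ x w, Φ (push m n x w) = Φ' (push m n x w)) (y : LocCoh.H m.toIdeal n M) : Φ y = Φ' y := by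
  obtain ⟨s, g, w, rfl⟩ := exists_push hn y
  rw [map_sum, map_sum]
  exact Finset.sum_congr rfl fun a _ => h _ _

set_option maxHeartbeats 1600000 in
include hn hK in
/-- the functional of a map to `C` -/
theorem exists_phi (f : M →ₗ[R] C) : ∃ Φ : LocCoh.H m.toIdeal n M →ₗ[k] k,
    ∀ x h, Φ (push m n x h) = βK (f x) h := by
  classical
  obtain ⟨s, g, hgs'⟩ := Module.Finite.exists_fin (R := R) (M := M)
  have hgs : Function.Surjective (Fintype.linearCombination R g) := by
    rw [← LinearMap.range_eq_top, Fintype.range_linearCombination, hgs']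
  obtain ⟨t, r, hr⟩ := Submodule.fg_iff_exists_fin_generating_family.1
    (IsNoetherian.noetherian (LinearMap.ker (Fintype.linearCombination R g)))
  have hexact : Function.Exact (Fintype.linearCombination R r) (Fintype.linearCombination R g) := by
    rw [LinearMap.exact_iff, Fintype.range_linearCombination, hr]
  let Φ₀ : (Fin s → LocCoh.H m.toIdeal n R) → k := fun hs => ∑ a, βK (f (g a)) (hs a)
  have hwd : ∀ hs hs' : Fin s → LocCoh.H m.toIdeal n R,
      (∑ a, push m n (g a) (hs a)) = ∑ a, push m n (g a) (hs' a) → Φ₀ hs = Φ₀ hs' := by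
    intro hs hs' he
    obtain ⟨w, hw⟩ := exists_relations m.toIdeal g hn hgs r hexact (fun a => hs a - hs' a) (by
      have := sub_eq_zero.2 he
      rw [← Finset.sum_sub_distrib] at this
      rw [← this]
      exact Finset.sum_congr rfl fun a _ => (map_sub (push m n (g a)) _ _))
    rw [← sub_eq_zero]
    change (∑ a, βK (f (g a)) (hs a)) - ∑ a, βK (f (g a)) (hs' a) = 0
    rw [← Finset.sum_sub_distrib]
    calc ∑ a, (βK (f (g a)) (hs a) - βK (f (g a)) (hs' a))
        = ∑ a, ∑ b, βK (r b a • f (g a)) (w b) :=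
          Finset.sum_congr rfl fun a _ => by
            rw [← map_sub, hw a, map_sum]
            exact Finset.sum_congr rfl fun b _ => (hK.map_smul _ _ _).symm
      _ = 0 := by
          rw [Finset.sum_comm]
          refine Finset.sum_eq_zero fun b _ => ?_
          rw [← LinearMap.sum_apply, ← map_sum]
          have hb : Fintype.linearCombination R g (r b) = 0 :=
            LinearMap.mem_ker.1 (hr ▸ Submodule.subset_span ⟨b, rfl⟩)
          have hb' := congrArg f hb
          rw [Fintype.linearCombination_apply, map_sum, map_zero] at hb'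
          simp only [map_smul] at hb'
          rw [hb', map_zero, LinearMap.zero_apply]
  choose W hW' using fun y => exists_gens m.toIdeal g hn hgs y
  have hW : ∀ y, y = ∑ a, push m n (g a) (W y a) := hW'
  let Φ : LocCoh.H m.toIdeal n M →ₗ[k] k :=
    { toFun := fun y => Φ₀ (W y)
      map_add' := fun y z => by
        rw [hwd (W (y + z)) (W y + W z) (by
          refine (hW (y + z)).symm.trans ?_
          conv_lhs => rw [hW y, hW z, ← Finset.sum_add_distrib]
          exact Finset.sum_congr rfl fun a _ => (map_add (push m n (g a)) _ _).symm)]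
        simp only [Φ₀, Pi.add_apply, map_add, Finset.sum_add_distrib]
      map_smul' := fun c y => by
        rw [hwd (W (c • y)) (c • W y) (by
          refine (hW (c • y)).symm.trans ?_
          conv_lhs => rw [hW y, Finset.smul_sum]
          exact Finset.sum_congr rfl fun a _ => by
            rw [Pi.smul_apply, ← algebraMap_smul R c, ← algebraMap_smul R c (W y a),
              LinearMap.map_smul])]
        simp only [Φ₀, RingHom.id_apply, smul_eq_mul, Finset.mul_sum]
        exact Finset.sum_congr rfl fun a _ => (βK (f (g a))).map_smul c (W y a) }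
  refine ⟨Φ, fun x h => ?_⟩
  obtain ⟨v, rfl⟩ := hgs x
  rw [Fintype.linearCombination_apply]
  have e1 : push m n (∑ a, v a • g a) h = ∑ a, push m n (g a) (v a • h) := by
    rw [push_sum]
    exact Finset.sum_congr rfl fun a _ => push_smul _ _ _
  change Φ₀ (W _) = _
  rw [hwd _ (fun a => v a • h) ((hW _).symm.trans e1), map_sum, map_sum, LinearMap.sum_apply]
  exact Finset.sum_congr rfl fun a _ => by rw [LinearMap.map_smul, hK.map_smul]

/-- the chosen functional -/
def phi (f : M →ₗ[R] C) : LocCoh.H m.toIdeal n M →ₗ[k] k := (exists_phi hn 𝒞 hK f).choose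

theorem phi_push (f : M →ₗ[R] C) (x : M) (h : LocCoh.H m.toIdeal n R) :
    phi hn 𝒞 hK f (push m n x h) = βK (f x) h := (exists_phi hn 𝒞 hK f).choose_spec x h

include hn hK in
theorem phi_comp {N : Type u} [AddCommGroup N] [Module R N] [Module.Finite R N] (v : N →ₗ[R] M)
    (f : M →ₗ[R] C) (y : LocCoh.H m.toIdeal n N) :
    phi hn 𝒞 hK (f ∘ₗ v) y = phi hn 𝒞 hK f (LocCohElt.map m.toIdeal n v y) :=
  ext_push hn (Φ := phi hn 𝒞 hK (f ∘ₗ v))
    (Φ' := phi hn 𝒞 hK f ∘ₗ (LocCohElt.map m.toIdeal n v).restrictScalars k) (fun x w => by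
      rw [phi_push]
      exact (phi_push hn 𝒞 hK f (v x) w).symm.trans (congrArg (phi hn 𝒞 hK f) (push_map v x w).symm)) y

theorem phi_add (f g : M →ₗ[R] C) (y : LocCoh.H m.toIdeal n M) :
    phi hn 𝒞 hK (f + g) y = phi hn 𝒞 hK f y + phi hn 𝒞 hK g y :=
  ext_push hn (Φ := phi hn 𝒞 hK (f + g)) (Φ' := phi hn 𝒞 hK f + phi hn 𝒞 hK g) (fun x w => by
    change _ = phi hn 𝒞 hK f (push m n x w) + phi hn 𝒞 hK g (push m n x w)
    rw [phi_push, phi_push, phi_push, LinearMap.add_apply, map_add, LinearMap.add_apply]) y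

theorem phi_smul (r : R) (f : M →ₗ[R] C) (y : LocCoh.H m.toIdeal n M) :
    phi hn 𝒞 hK (r • f) y = phi hn 𝒞 hK f (r • y) :=
  ext_push hn (Φ := phi hn 𝒞 hK (r • f))
    (Φ' := phi hn 𝒞 hK f ∘ₗ
      ({ toFun := fun z => r • z
         map_add' := fun a b => smul_add r a b
         map_smul' := fun c a => smul_comm r c a } :
        LocCoh.H m.toIdeal n M →ₗ[k] LocCoh.H m.toIdeal n M))
    (fun x w => by
      change _ = phi hn 𝒞 hK f (r • push m n x w)
      rw [phi_push, ← LinearMap.map_smul, phi_push, LinearMap.smul_apply, hK.map_smul]) y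

theorem phi_zero (y : LocCoh.H m.toIdeal n M) : phi hn 𝒞 hK (0 : M →ₗ[R] C) y = 0 :=
  ext_push hn (Φ := phi hn 𝒞 hK (0 : M →ₗ[R] C)) (Φ' := 0) (fun x w => by
    rw [phi_push, LinearMap.zero_apply, map_zero, LinearMap.zero_apply, LinearMap.zero_apply]) y

theorem phi_inj {f : M →ₗ[R] C} (h : ∀ y, phi hn 𝒞 hK f y = 0) : f = 0 :=
  LinearMap.ext fun x => gdual_ext hK fun w => by rw [← phi_push hn 𝒞 hK, h]

include hn hK in
/-- degrees -/
theorem phi_deg {f : M →ₗ[R] C} {p : ℤ} (hf : _root_.GrLC.IsGrHomDeg ℳ 𝒞 f p) {j : ℤ} (hj : j ≠ -p)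
    {y : LocCoh.H m.toIdeal n M} (hy : y ∈ LC.gr ℳ m n j) : phi hn 𝒞 hK f y = 0 := by
  classical
  obtain ⟨s, dg, g, hg, hgs⟩ := exists_free_presentation (R := R) ℳ
  obtain ⟨w, hw⟩ := exists_gens m.toIdeal g hn hgs y
  letI := LC.dec (ℳ := ℳ) (a := m) (i := n)
  have hy' : y = ∑ a, push m n (g a) (cpt (LC.gr 𝒜 m n) (j - dg a) (w a)) := by
    conv_lhs => rw [← cpt_of_mem (LC.gr ℳ m n) hy, hw, map_sum]
    refine Finset.sum_congr rfl fun a _ => ?_
    change cpt _ _ (push m n (g a) (w a)) = _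
    generalize w a = h
    induction h using homogeneous_induction (LC.gr 𝒜 m n) with
    | zero => simp
    | add u v hu hv => simp only [map_add, hu, hv]
    | hom i h hh =>
      rw [cpt_of_mem_ite (LC.gr 𝒜 m n) _ hh, cpt_of_mem_ite (LC.gr ℳ m n) _ (push_mem ℳ (hg a) hh)]
      by_cases e2 : i = j - dg a
      · rw [if_pos e2, if_pos (by omega)]
      · rw [if_neg e2, if_neg (by omega), map_zero]
  rw [hy', map_sum]
  refine Finset.sum_eq_zero fun a _ => ?_
  rw [phi_push]
  exact hK.vanish (dg a + p) _ (hf _ _ (hg a)) (j - dg a) (by omega) _ (cpt_mem _ _ _)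

include hn hK in
/-- a functional supported in one degree comes from a homogeneous map -/
theorem exists_of_functional (l : LocCoh.H m.toIdeal n M →ₗ[k] k) {p : ℤ}
    (hl : ∀ j, j ≠ -p → ∀ y ∈ LC.gr ℳ m n j, l y = 0) :
    ∃ f : M →ₗ[R] C, _root_.GrLC.IsGrHomDeg ℳ 𝒞 f p ∧ ∀ y, phi hn 𝒞 hK f y = l y := by
  classical
  have huniq : ∀ c c' : C, (∀ h, βK c h = βK c' h) → c = c' := fun c c' h => by
    rw [← sub_eq_zero]
    exact gdual_ext hK fun x => by rw [map_sub, LinearMap.sub_apply, h, sub_self]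
  have hhom : ∀ (q : ℤ) (x : M), x ∈ ℳ q → ∃ c ∈ 𝒞 (q + p), ∀ h, βK c h = l (push m n x h) := by
    intro q x hx
    obtain ⟨c, hc, hcx⟩ := hK.exists_eq (q + p) (l ∘ₗ (push m n x).restrictScalars k)
    refine ⟨c, hc, fun h => ?_⟩
    induction h using homogeneous_induction (LC.gr 𝒜 m n) with
    | zero => simp
    | add a b ha hb => rw [map_add, map_add, map_add, ha, hb]
    | hom j h hh =>
      by_cases e : j = -(q + p)
      · subst e; exact hcx h hh
      · rw [hK.vanish (q + p) c hc j e h hh, hl (j + q) (by omega) _ (push_mem ℳ hx hh)]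
  have hex : ∀ x : M, ∃ c : C, ∀ h, βK c h = l (push m n x h) := by
    intro x
    induction x using homogeneous_induction ℳ with
    | zero => exact ⟨0, fun h => by rw [push_zero]; simp⟩
    | hom q x hx => obtain ⟨c, -, hc⟩ := hhom q x hx; exact ⟨c, hc⟩
    | add a b ha hb =>
      obtain ⟨c, hc⟩ := ha
      obtain ⟨c', hc'⟩ := hb
      exact ⟨c + c', fun h => by rw [map_add, LinearMap.add_apply, hc, hc', push_add, map_add]⟩
  choose F hF using hex
  let f : M →ₗ[R] C :=
    { toFun := F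
      map_add' := fun x y => huniq _ _ fun h => by
        rw [map_add, LinearMap.add_apply, hF, hF, hF, push_add, map_add]
      map_smul' := fun r x => huniq _ _ fun h => by
        rw [RingHom.id_apply, hK.map_smul, hF, hF, push_smul] }
  refine ⟨f, fun q x hx => ?_, ext_push hn fun x w => by rw [phi_push]; exact hF x w⟩
  obtain ⟨c, hc, hch⟩ := hhom q x hx
  rwa [show f x = c from huniq _ _ fun h => (hF x h).trans (hch h).symm]

include hn hK in
theorem phi_eq_component (f : M →ₗ[R] C) {j : ℤ} {y : LocCoh.H m.toIdeal n M}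
    (hy : y ∈ LC.gr ℳ m n j) : phi hn 𝒞 hK f y = phi hn 𝒞 hK (cptHom 𝒜 ℳ 𝒞 f (-j)) y := by
  classical
  obtain ⟨S, hS0, hS⟩ := exists_sum_cptHom 𝒜 ℳ 𝒞 f
  have key : ∀ s : Finset ℤ, phi hn 𝒞 hK (∑ p ∈ s, cptHom 𝒜 ℳ 𝒞 f p) y =
      ∑ p ∈ s, phi hn 𝒞 hK (cptHom 𝒜 ℳ 𝒞 f p) y := by
    intro s
    induction s using Finset.induction with
    | empty => rw [Finset.sum_empty, Finset.sum_empty, phi_zero]
    | insert p s hp ih => rw [Finset.sum_insert hp, Finset.sum_insert hp, phi_add, ih]
  conv_lhs => rw [← hS]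
  rw [key, Finset.sum_eq_single (-j)]
  · exact fun p _ hp => phi_deg hn 𝒞 hK ℳ (cptHom_isGrHomDeg (𝒜 := 𝒜) ℳ 𝒞 f p) (by omega) hy
  · intro h
    rw [hS0 _ h, phi_zero]

variable {N : Type u} [AddCommGroup N] [Module R N] (𝒩 : ℤ → AddSubgroup N)
  [DirectSum.Decomposition 𝒩] [SetLike.GradedSMul 𝒜 𝒩] {q : ℕ}
variable {D : Type u} [AddCommGroup D] [Module R D] [Module k D] [IsScalarTower k R D]
  (𝒟 : ℤ → AddSubgroup D) [DirectSum.Decomposition 𝒟]
  [DirectSum.Decomposition (LC.gr 𝒩 m q)]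
  {βD : D →ₗ[k] LocCoh.H m.toIdeal q N →ₗ[k] k}
  (hD : _root_.GrSeg.IsGDual R (LC.gr 𝒩 m q) 𝒟 βD)

include hB hn hK hD in
/-- restriction along an injective map of cohomology -/
theorem exists_restrict (δ : LocCoh.H m.toIdeal q N →ₗ[R] LocCoh.H m.toIdeal n M)
    (hδ : Function.Injective δ) (hδg : ∀ j, ∀ z ∈ LC.gr 𝒩 m q j, δ z ∈ LC.gr ℳ m n j) :
    ∃ Ψ : (M →ₗ[R] C) →ₗ[R] D, Function.Surjective Ψ ∧
      ∀ f, Ψ f = 0 ↔ ∀ z, phi hn 𝒞 hK f (δ z) = 0 := by
  classical
  have huniq : ∀ d d' : D, (∀ z, βD d z = βD d' z) → d = d' := fun d d' h => by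
    rw [← sub_eq_zero]
    exact gdual_ext hD fun x => by rw [map_sub, LinearMap.sub_apply, h, sub_self]
  have hex : ∀ f : M →ₗ[R] C, ∃ d : D, ∀ z, βD d z = phi hn 𝒞 hK f (δ z) := by
    intro f
    obtain ⟨S, -, hS⟩ := exists_sum_cptHom 𝒜 ℳ 𝒞 f
    rw [← hS]
    clear hS
    induction S using Finset.induction with
    | empty => exact ⟨0, fun z => by rw [Finset.sum_empty, phi_zero, map_zero, LinearMap.zero_apply]⟩
    | insert p s hp ih =>
      obtain ⟨d, hd⟩ := ih
      obtain ⟨d', hd', hd'z⟩ := hD.exists_eq p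
        (phi hn 𝒞 hK (cptHom 𝒜 ℳ 𝒞 f p) ∘ₗ δ.restrictScalars k)
      refine ⟨d' + d, fun z => ?_⟩
      rw [Finset.sum_insert hp, phi_add, map_add, LinearMap.add_apply, hd]
      congr 1
      induction z using homogeneous_induction (LC.gr 𝒩 m q) with
      | zero => simp
      | add a b ha hb => rw [map_add, ha, hb, map_add δ, map_add]
      | hom j z hz =>
        by_cases e : j = -p
        · subst e; exact hd'z z hz
        · rw [hD.vanish p d' hd' j e z hz,
            phi_deg hn 𝒞 hK ℳ (cptHom_isGrHomDeg (𝒜 := 𝒜) ℳ 𝒞 f p) e (hδg j z hz)]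
  choose F hF using hex
  let Ψ : (M →ₗ[R] C) →ₗ[R] D :=
    { toFun := F
      map_add' := fun f g => huniq _ _ fun z => by
        rw [map_add, LinearMap.add_apply, hF, hF, hF, phi_add]
      map_smul' := fun r f => huniq _ _ fun z => by
        rw [RingHom.id_apply, hD.map_smul, hF, hF, phi_smul, δ.map_smul] }
  refine ⟨Ψ, fun d => ?_, fun f => ⟨fun h z => ?_, fun h => gdual_ext hD fun z => ?_⟩⟩
  · induction d using homogeneous_induction 𝒟 with
    | zero => exact ⟨0, map_zero Ψ⟩
    | add a b ha hb =>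
      obtain ⟨f, rfl⟩ := ha; obtain ⟨g, rfl⟩ := hb; exact ⟨f + g, map_add Ψ f g⟩
    | hom p d hd =>
      obtain ⟨L, hL⟩ := LinearMap.exists_extend
        ((βD d) ∘ₗ (LinearEquiv.ofInjective (δ.restrictScalars k) hδ).symm.toLinearMap)
      have hL' : ∀ z, L (δ z) = βD d z := fun z => by
        have h1 := LinearMap.congr_fun hL ⟨δ z, ⟨z, rfl⟩⟩
        rw [LinearMap.comp_apply, Submodule.subtype_apply] at h1
        rw [h1, LinearMap.comp_apply, LinearEquiv.coe_coe,
          show (⟨δ z, ⟨z, rfl⟩⟩ : LinearMap.range (δ.restrictScalars k)) =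
            LinearEquiv.ofInjective (δ.restrictScalars k) hδ z from Subtype.ext rfl,
          LinearEquiv.symm_apply_apply]
      letI := LC.dec (ℳ := ℳ) (a := m) (i := n)
      haveI : SetLike.GradedSMul 𝒜 (LC.gr ℳ m n) := LC.gr_gradedSMul m _
      let l : LocCoh.H m.toIdeal n M →ₗ[k] k := L ∘ₗ cptₖ hB (LC.gr ℳ m n) (-p)
      obtain ⟨f, hf, hfy⟩ := exists_of_functional hn 𝒞 hK ℳ l (p := p) fun j hj y hy => by
        change L (cpt (LC.gr ℳ m n) (-p) y) = 0
        rw [cpt_of_mem_ne (LC.gr ℳ m n) hy hj, map_zero]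
      refine ⟨f, huniq _ _ fun z => ?_⟩
      change βD (F f) z = _
      rw [hF, hfy]
      induction z using homogeneous_induction (LC.gr 𝒩 m q) with
      | zero => simp
      | add a b ha hb => rw [map_add δ, map_add, map_add, ha, hb]
      | hom j z hz =>
        change L (cpt (LC.gr ℳ m n) (-p) (δ z)) = _
        by_cases e : j = -p
        · subst e; rw [cpt_of_mem (LC.gr ℳ m n) (hδg _ z hz), hL']
        · rw [cpt_of_mem_ne (LC.gr ℳ m n) (hδg _ z hz) e, map_zero, hD.vanish p d hd j e z hz]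
  · rw [← hF]; change βD (Ψ f) z = 0
    rw [h, map_zero, LinearMap.zero_apply]
  · change βD (F f) z = 0
    rw [hF, h]

section Ext

variable {X₁ : Type u} [AddCommGroup X₁] [Module R X₁] {X₂ : Type u} [AddCommGroup X₂] [Module R X₂]
  {X₃ : Type u} [AddCommGroup X₃] [Module R X₃] {f : X₁ →ₗ[R] X₂} {g : X₂ →ₗ[R] X₃}
  (hf : Function.Injective f) (hfg : Function.Exact f g) (hg : Function.Surjective g)
  [Projective (ModuleCat.of R X₂)]

include hf hfg hg in
theorem ext_one_map (Y : ModuleCat.{u} R) : ∃ Γ : (X₁ →ₗ[R] Y) →ₗ[R] Ext.{u} (ModuleCat.of R X₃) Y 1,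
    Function.Surjective Γ ∧ ∀ h, Γ h = 0 ↔ ∃ h' : X₂ →ₗ[R] Y, h' ∘ₗ f = h := by
  have hS := LocCohElt.sc_shortExact hf hfg hg
  haveI : Projective (LocCohElt.sc hfg).X₂ := ‹Projective (ModuleCat.of R X₂)›
  let Γ : (X₁ →ₗ[R] Y) →ₗ[R] Ext.{u} (ModuleCat.of R X₃) Y 1 :=
    Ext.precompOfLinear hS.extClass R Y (add_zero 1) ∘ₗ
      ((ModuleCat.homLinearEquiv (S := R) (M := ModuleCat.of R X₁) (N := Y)).symm.trans
        (Ext.linearEquiv₀ (R := R)).symm).toLinearMap
  refine ⟨Γ, fun x => ?_, fun h => ⟨fun h0 => ?_, ?_⟩⟩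
  · obtain ⟨x₁, hx⟩ := Ext.contravariant_sequence_exact₃ hS Y x (Ext.eq_zero_of_projective _) (rfl : 1 + 0 = 1)
    obtain ⟨h, rfl⟩ := (Ext.mk₀_bijective _ _).2 x₁
    exact ⟨h.hom, hx⟩
  · obtain ⟨x₂, hx₂⟩ := Ext.contravariant_sequence_exact₁ hS Y
      (Ext.mk₀ (ModuleCat.ofHom h : ModuleCat.of R X₁ ⟶ Y)) (rfl : 1 + 0 = 1) h0
    obtain ⟨h', rfl⟩ := (Ext.mk₀_bijective _ _).2 x₂
    rw [Ext.mk₀_comp_mk₀] at hx₂
    exact ⟨h'.hom, congrArg ModuleCat.Hom.hom ((Ext.mk₀_bijective _ _).1 hx₂)⟩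
  · rintro ⟨h', rfl⟩
    change hS.extClass.comp (Ext.mk₀ (ModuleCat.ofHom (h' ∘ₗ f))) (add_zero 1) = 0
    let v : (LocCohElt.sc hfg).X₂ ⟶ Y := ModuleCat.ofHom h'
    refine (congrArg (fun w : (LocCohElt.sc hfg).X₁ ⟶ Y => hS.extClass.comp (Ext.mk₀ w) (add_zero 1))
      (show _ = (LocCohElt.sc hfg).f ≫ v from rfl)).trans ?_
    rw [← Ext.mk₀_comp_mk₀, ← Ext.comp_assoc_of_third_deg_zero, hS.extClass_comp, Ext.zero_comp]

include hf hfg hg in
theorem ext_succ_equiv (Y : ModuleCat.{u} R) (i : ℕ) :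
    Nonempty (Ext.{u} (ModuleCat.of R X₁) Y (i + 1) ≃ₗ[R] Ext.{u} (ModuleCat.of R X₃) Y (i + 2)) := by
  have hS := LocCohElt.sc_shortExact hf hfg hg
  haveI : Projective (LocCohElt.sc hfg).X₂ := ‹Projective (ModuleCat.of R X₂)›
  refine ⟨LinearEquiv.ofBijective (Ext.precompOfLinear hS.extClass R Y (show 1 + (i + 1) = i + 2 by omega))
    ⟨(injective_iff_map_eq_zero _).2 fun x hx => ?_, fun x => ?_⟩⟩
  · obtain ⟨x₂, hx₂⟩ := Ext.contravariant_sequence_exact₁ hS Y x (show 1 + (i + 1) = i + 2 by omega) hx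
    rw [← hx₂, Ext.eq_zero_of_projective x₂, Ext.comp_zero]
  · obtain ⟨x₁, hx⟩ := Ext.contravariant_sequence_exact₃ hS Y x (Ext.eq_zero_of_projective _)
      (show 1 + (i + 1) = i + 2 by omega)
    exact ⟨x₁, hx⟩

end Ext

omit [DirectSum.Decomposition (LC.gr 𝒜 m n)] in
theorem subsingleton_H_free {s : ℕ} {q : ℕ} (h : Subsingleton (LocCoh.H m.toIdeal q R)) :
    Subsingleton (LocCoh.H m.toIdeal q (Fin s → R)) := by
  refine subsingleton_of_forall_eq 0 fun y => ?_
  rw [eq_sum_single m.toIdeal q y]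
  exact Finset.sum_eq_zero fun a _ => by
    rw [h.elim (LocCohElt.map m.toIdeal q (LinearMap.proj a) y) 0, map_zero]

include hB hn hK in
set_option maxHeartbeats 800000 in
/-- Local duality. -/
theorem exists_equiv_ext (hvan : ∀ j, j < n → Subsingleton (LocCoh.H m.toIdeal j R)) :
    ∀ (i : ℕ) (X : _root_.GrLC.GMod.{u} 𝒜) [Module.Finite R X.carrier] (q : ℕ), q + i = n →
    ∀ (D : Type u) [AddCommGroup D] [Module R D] [Module k D] [IsScalarTower k R D]
      (𝒟 : ℤ → AddSubgroup D) [DirectSum.Decomposition 𝒟] [DirectSum.Decomposition (LC.gr X.gr m q)]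
      (βD : D →ₗ[k] LocCoh.H m.toIdeal q X.carrier →ₗ[k] k),
      _root_.GrSeg.IsGDual R (LC.gr X.gr m q) 𝒟 βD →
      Nonempty (D ≃ₗ[R] Ext.{u} (ModuleCat.of R X.carrier) (ModuleCat.of R C) i) := by
  intro i
  induction i with
  | zero =>
    intro X _ q hq D _ _ _ _ 𝒟 _ _ βD hD
    obtain rfl : q = n := by omega
    obtain ⟨Ψ, hΨs, hΨ⟩ := exists_restrict hB hn 𝒞 hK X.gr X.gr 𝒟 hD LinearMap.id
      Function.injective_id fun _ _ hz => hz
    have hΨi : Function.Injective Ψ := (injective_iff_map_eq_zero Ψ).2 fun f hf =>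
      phi_inj hn 𝒞 hK ((hΨ f).1 hf)
    exact ⟨((LinearEquiv.ofBijective Ψ ⟨hΨi, hΨs⟩).symm.trans
      (ModuleCat.homLinearEquiv (S := R) (M := ModuleCat.of R X.carrier) (N := ModuleCat.of R C)).symm).trans
      (Ext.linearEquiv₀ (R := R)).symm⟩
  | succ i ih =>
    intro X _ q hq D _ _ _ _ 𝒟 _ _ βD hD
    classical
    obtain ⟨s, dg, g, hg, hgs⟩ := exists_free_presentation (R := R) X.gr
    let F := freeGMod 𝒜 dg
    let π : F.carrier →ₗ[R] X.carrier := Fintype.linearCombination R g
    have hπg : _root_.GrLC.IsGrHom F.gr X.gr π := linearCombination_isGrHom dg hg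
    have hP : (LinearMap.ker π).IsHomogeneous F.gr := isHomogeneous_ker F.gr hπg
    let W := subGMod 𝒜 F.gr hP
    haveI : Module.Finite R W.carrier :=
      Module.Finite.iff_fg.2 (IsNoetherian.noetherian (LinearMap.ker (Fintype.linearCombination R g)))
    haveI : Projective (ModuleCat.of R F.carrier) :=
      (IsProjective.iff_projective (Fin s → R)).1 (Module.Projective.of_basis (Pi.basisFun R (Fin s)))
    haveI : Module.Finite R F.carrier := inferInstanceAs (Module.Finite R (Fin s → R))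
    let ι : W.carrier →ₗ[R] F.carrier := (LinearMap.ker π).subtype
    have hι : Function.Injective ι := Subtype.val_injective
    have hιg : _root_.GrLC.IsGrHom W.gr F.gr ι := fun _ _ hx => hx
    have hex : Function.Exact ι π := LinearMap.exact_subtype_ker_map π
    let δ := LocCohElt.δ m.toIdeal q hι hex hgs
    have hδg : ∀ j, ∀ z ∈ LC.gr X.gr m q j, δ z ∈ LC.gr W.gr m (q + 1) j := fun j z hz =>
      LC.δ_mem_gr m q hι hex hgs hιg hπg hz
    have hδ : Function.Injective δ := (injective_iff_map_eq_zero δ).2 fun z hz => by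
      obtain ⟨w, rfl⟩ := (LocCohElt.exact_map_δ m.toIdeal q hι hex hgs z).1 hz
      haveI : Subsingleton (LocCoh.H m.toIdeal q F.carrier) := subsingleton_H_free (hvan q (by omega))
      rw [Subsingleton.elim w 0, map_zero]
    cases i with
    | zero =>
      obtain rfl : q + 1 = n := by omega
      obtain ⟨Ψ, hΨs, hΨ⟩ := exists_restrict hB hn 𝒞 hK W.gr X.gr 𝒟 hD δ hδ hδg
      obtain ⟨Γ, hΓs, hΓ⟩ := ext_one_map hι hex hgs (ModuleCat.of R C)
      have hrange : ∀ (z : LocCoh.H m.toIdeal (q + 1) W.carrier),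
          LocCohElt.map m.toIdeal (q + 1) ι z = 0 ↔ ∃ w, δ w = z :=
        fun z => LocCohElt.exact_δ_map m.toIdeal q hι hex hgs z
      have hker : LinearMap.ker Ψ = LinearMap.ker Γ := by
        ext f
        rw [LinearMap.mem_ker, LinearMap.mem_ker, hΨ, hΓ]
        refine ⟨fun h => ?_, ?_⟩
        · obtain ⟨S, -, hS⟩ := exists_sum_cptHom 𝒜 W.gr 𝒞 f
          suffices hp : ∀ p, ∃ h' : F.carrier →ₗ[R] C, h' ∘ₗ ι = cptHom 𝒜 W.gr 𝒞 f p by
            choose h' hh' using hp
            refine ⟨∑ p ∈ S, h' p, (Eq.trans ?_ hS)⟩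
            refine LinearMap.ext fun x => ?_
            simp only [LinearMap.comp_apply, LinearMap.sum_apply, ← hh']
          intro p
          letI := LC.dec (ℳ := W.gr) (a := m) (i := q + 1)
          letI := LC.dec (ℳ := F.gr) (a := m) (i := q + 1)
          haveI : SetLike.GradedSMul 𝒜 (LC.gr F.gr m (q + 1)) := LC.gr_gradedSMul m _
          let Φp := phi hn 𝒞 hK (cptHom 𝒜 W.gr 𝒞 f p)
          have hΦp : ∀ z, Φp (δ z) = 0 := by
            intro z
            induction z using homogeneous_induction (LC.gr X.gr m q) with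
            | zero => simp
            | add a b ha hb => rw [map_add δ, map_add, ha, hb, add_zero]
            | hom j z hz =>
              by_cases e : j = -p
              · subst e
                have h1 := phi_eq_component hn 𝒞 hK W.gr f (hδg _ z hz)
                rw [h, neg_neg] at h1
                exact h1.symm
              · exact phi_deg hn 𝒞 hK W.gr (cptHom_isGrHomDeg (𝒜 := 𝒜) W.gr 𝒞 f p) e (hδg j z hz)
          let Hι : LocCoh.H m.toIdeal (q + 1) W.carrier →ₗ[k] LocCoh.H m.toIdeal (q + 1) F.carrier :=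
            (LocCohElt.map m.toIdeal (q + 1) ι).restrictScalars k
          have hk : LinearMap.ker Hι ≤ LinearMap.ker Φp := fun z hz => by
            obtain ⟨w, rfl⟩ := (hrange z).1 hz
            exact hΦp w
          obtain ⟨L, hL⟩ := LinearMap.exists_extend
            ((LinearMap.ker Hι).liftQ _ hk ∘ₗ (LinearMap.quotKerEquivRange Hι).symm.toLinearMap)
          have hL' : ∀ z, L (LocCohElt.map m.toIdeal (q + 1) ι z) = Φp z := fun z => by
            have h1 := LinearMap.congr_fun hL ⟨Hι z, ⟨z, rfl⟩⟩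
            rw [LinearMap.comp_apply, Submodule.subtype_apply] at h1
            refine h1.trans ?_
            rw [LinearMap.comp_apply, LinearEquiv.coe_coe,
              show (⟨Hι z, ⟨z, rfl⟩⟩ : LinearMap.range Hι) =
                LinearMap.quotKerEquivRange Hι (Submodule.Quotient.mk z) from Subtype.ext rfl,
              LinearEquiv.symm_apply_apply]
            rfl
          obtain ⟨h', -, hh'⟩ := exists_of_functional hn 𝒞 hK F.gr
            (L ∘ₗ cptₖ hB (LC.gr F.gr m (q + 1)) (-p)) (p := p) fun j hj y hy => by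
              change L (cpt _ (-p) y) = 0
              rw [cpt_of_mem_ne _ hy hj, map_zero]
          refine ⟨h', sub_eq_zero.1 (phi_inj hn 𝒞 hK fun y => ?_)⟩
          have hsub : ∀ (a b : W.carrier →ₗ[R] C) y,
              phi hn 𝒞 hK (a - b) y = phi hn 𝒞 hK a y - phi hn 𝒞 hK b y := fun a b y =>
            eq_sub_of_add_eq (by rw [← phi_add, sub_add_cancel])
          rw [hsub, sub_eq_zero, phi_comp, hh']
          induction y using homogeneous_induction (LC.gr W.gr m (q + 1)) with
          | zero => simp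
          | add a b ha hb => rw [map_add (LocCohElt.map m.toIdeal (q + 1) ι), map_add, map_add, ha, hb]
          | hom j y hy =>
            change L (cpt _ (-p) _) = _
            by_cases e : j = -p
            · subst e; rw [cpt_of_mem _ (LC.map_mem_gr m _ hιg hy), hL']
            · rw [cpt_of_mem_ne _ (LC.map_mem_gr m _ hιg hy) e, map_zero,
                phi_deg hn 𝒞 hK W.gr (cptHom_isGrHomDeg (𝒜 := 𝒜) W.gr 𝒞 f p) e hy]
        · rintro ⟨h', rfl⟩ z
          rw [phi_comp, (hrange _).2 ⟨z, rfl⟩, map_zero]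
      exact ⟨((Ψ.quotKerEquivOfSurjective hΨs).symm.trans (Submodule.quotEquivOfEq _ _ hker)).trans
        (Γ.quotKerEquivOfSurjective hΓs)⟩
    | succ i =>
      obtain ⟨e₂⟩ := ext_succ_equiv hι hex hgs (ModuleCat.of R C) i
      letI := LC.dec (ℳ := W.gr) (a := m) (i := q + 1)
      have hδs : Function.Surjective δ := fun z => by
        refine (LocCohElt.exact_δ_map m.toIdeal q hι hex hgs z).1 ?_
        haveI : Subsingleton (LocCoh.H m.toIdeal (q + 1) F.carrier) :=
          subsingleton_H_free (hvan _ (by omega))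
        exact Subsingleton.elim _ _
      let δe := (LinearEquiv.ofBijective δ ⟨hδ, hδs⟩).restrictScalars k
      let β' : D →ₗ[k] LocCoh.H m.toIdeal (q + 1) W.carrier →ₗ[k] k := βD.compl₂ δe.symm.toLinearMap
      have hsymm : ∀ j, ∀ z ∈ LC.gr W.gr m (q + 1) j, δe.symm z ∈ LC.gr X.gr m q j := by
        intro j z hz
        have hdg : _root_.GrLC.IsGrHom (LC.gr X.gr m q) (LC.gr W.gr m (q + 1)) δ := hδg
        have h1 := map_cpt (ℳ := LC.gr X.gr m q) (𝒩 := LC.gr W.gr m (q + 1)) hdg j (δe.symm z)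
        rw [show δ (δe.symm z) = z from δe.apply_symm_apply z, cpt_of_mem _ hz] at h1
        have h2 : cpt (LC.gr X.gr m q) j (δe.symm z) = δe.symm z :=
          δe.injective (h1.trans (δe.apply_symm_apply z).symm)
        rw [← h2]
        exact cpt_mem _ j _
      have hβ' : _root_.GrSeg.IsGDual R (LC.gr W.gr m (q + 1)) 𝒟 β' :=
        { map_smul := fun r d z => by
            change βD (r • d) (δe.symm z) = βD d (δe.symm (r • z))
            rw [hD.map_smul]
            exact congrArg _ ((LinearEquiv.ofBijective δ ⟨hδ, hδs⟩).symm.map_smul r z).symm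
          vanish := fun p d hd j hj z hz => hD.vanish p d hd j hj _ (hsymm j z hz)
          eq_zero := fun p d hd h => hD.eq_zero p d hd fun x hx => by
            have h1 := h _ (hδg _ x hx)
            change βD d (δe.symm (δe x)) = 0 at h1
            rwa [δe.symm_apply_apply] at h1
          exists_eq := fun p l => by
            obtain ⟨d, hd, hdx⟩ := hD.exists_eq p (l ∘ₗ δe.toLinearMap)
            refine ⟨d, hd, fun z hz => ?_⟩
            change βD d (δe.symm z) = l z
            rw [hdx _ (hsymm _ z hz)]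
            exact congrArg l (δe.apply_symm_apply z) }
      obtain ⟨e₁⟩ := ih W (q + 1) (by omega) D 𝒟 β' hβ'
      exact ⟨e₁.trans e₂⟩

end Groth.Agent.GrDual.LocalDuality
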