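import Groth.Agent.GrDual.Hull
import Groth.Agent.GrLC.Coh
import Groth.Prelude.Def_GrSeg
import Mathlib.LinearAlgebra.Dimension.Finrank
import Mathlib.LinearAlgebra.Dual.Lemmas

/-!
# *Canonical modules are the modules in perfect pairing with top local cohomology
-/

set_option autoImplicit false
set_option linter.unusedSectionVars false
set_option linter.style.haveILetI false
universe u

open DirectSum
open Groth.Agent.GrLC

namespace Groth.Agent.GrDual

variable {k : Type u} [Field k] {R : Type u} [CommRing R] [Algebra k R]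
  {σ : Type u} [SetLike σ R] [AddSubgroupClass σ R] {𝒜 : ℤ → σ} [GradedRing 𝒜]
variable (hB : Base k 𝒜)

section Bridge

variable {M : Type u} [AddCommGroup M] [Module R M] [Module k M] [IsScalarTower k R M]
  {τ : Type u} [SetLike τ M] [AddSubgroupClass τ M] (ℳ : ℤ → τ) [DirectSum.Decomposition ℳ]
  [SetLike.GradedSMul 𝒜 ℳ]

/-- `k → R₀`. -/
noncomputable def toDeg0 : k →+* _root_.GrLC.deg0 𝒜 :=
  (algebraMap k R).codRestrict (_root_.GrLC.deg0 𝒜) hB.alg_mem

theorem toDeg0_bijective [Nontrivial R] : Function.Bijective (toDeg0 hB) :=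
  ⟨fun _ _ h => (algebraMap k R).injective (congrArg Subtype.val h), fun x => by
    obtain ⟨c, hc⟩ := hB.exists_alg x.1 x.2
    exact ⟨c, Subtype.ext hc⟩⟩

include hB in
theorem finite_pieceK [IsNoetherianRing R] [Module.Finite R M] (n : ℤ) :
    Module.Finite k (pieceK hB ℳ n) := by
  classical
  obtain ⟨G, hG⟩ := (GrLC.finite_comp (𝒜 := 𝒜) hB.pos (ℳ := ℳ) n).fg_top
  refine ⟨G.image fun x => (⟨x.1, x.2⟩ : pieceK hB ℳ n), eq_top_iff.2 fun x _ => ?_⟩
  have hx : (⟨x.1, x.2⟩ : _root_.GrLC.comp 𝒜 ℳ n) ∈ Submodule.span (_root_.GrLC.deg0 𝒜)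
      (G : Set (_root_.GrLC.comp 𝒜 ℳ n)) := by rw [hG]; trivial
  suffices h : ∀ y ∈ Submodule.span (_root_.GrLC.deg0 𝒜) (G : Set (_root_.GrLC.comp 𝒜 ℳ n)),
      (⟨y.1, y.2⟩ : pieceK hB ℳ n) ∈ Submodule.span k
        ((G.image fun x => (⟨x.1, x.2⟩ : pieceK hB ℳ n) : Finset (pieceK hB ℳ n)) :
          Set (pieceK hB ℳ n)) from h _ hx
  intro y hy
  induction hy using Submodule.span_induction with
  | mem y hy => exact Submodule.subset_span (Finset.mem_coe.2 (Finset.mem_image_of_mem _ hy))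
  | zero => exact zero_mem _
  | add a b _ _ ha hb => exact add_mem ha hb
  | smul r a _ ha =>
    obtain ⟨c, hc⟩ := hB.exists_alg r.1 r.2
    have h' := Submodule.smul_mem _ c ha
    convert h' using 1
    apply Subtype.ext
    change r.1 • a.1 = c • a.1
    rw [← hc, algebraMap_smul]

include hB in
theorem finrank_comp_eq [Nontrivial R] (n : ℤ) :
    Module.finrank (_root_.GrLC.deg0 𝒜) (_root_.GrLC.comp 𝒜 ℳ n) =
      Module.finrank k (pieceK hB ℳ n) := by
  let j : pieceK hB ℳ n ≃+ _root_.GrLC.comp 𝒜 ℳ n :=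
    { toFun := fun x => ⟨x.1, x.2⟩
      invFun := fun x => ⟨x.1, x.2⟩
      left_inv := fun _ => rfl
      right_inv := fun _ => rfl
      map_add' := fun _ _ => rfl }
  have h := rank_eq_of_equiv_equiv (toDeg0 hB) j (toDeg0_bijective hB) fun c x =>
    Subtype.ext (algebraMap_smul R c x.1).symm
  exact (congrArg Cardinal.toNat h).symm

end Bridge

section Pair

variable {H : Type u} [AddCommGroup H] [Module R H] [Module k H] [IsScalarTower k R H]
  {τH : Type u} [SetLike τH H] [AddSubgroupClass τH H] (ℋ : ℤ → τH) [DirectSum.Decomposition ℋ]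
  [SetLike.GradedSMul 𝒜 ℋ]
variable {C : Type u} [AddCommGroup C] [Module R C] [Module k C] [IsScalarTower k R C]
  {τC : Type u} [SetLike τC C] [AddSubgroupClass τC C] (𝒞 : ℤ → τC) [DirectSum.Decomposition 𝒞]
  [SetLike.GradedSMul 𝒜 𝒞]
variable {β : C →ₗ[k] H →ₗ[k] k}

/-- The pairing seen on a piece. -/
noncomputable def resMap (hD : _root_.GrSeg.IsGDual R ℋ 𝒞 β) (n : ℤ) :
    pieceK hB 𝒞 n →ₗ[k] Module.Dual k (pieceK hB ℋ (-n)) :=
  (pieceK hB ℋ (-n)).subtype.dualMap.comp (β.comp (pieceK hB 𝒞 n).subtype)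

include hB in
theorem resMap_bijective (hD : _root_.GrSeg.IsGDual R ℋ 𝒞 β) (n : ℤ) :
    Function.Bijective (resMap hB ℋ 𝒞 hD n) := by
  refine ⟨(injective_iff_map_eq_zero _).2 fun c hc => Subtype.ext (hD.eq_zero n c.1 c.2 fun x hx =>
    LinearMap.congr_fun hc ⟨x, hx⟩), fun l => ?_⟩
  obtain ⟨g, hg⟩ := LinearMap.exists_extend l
  obtain ⟨c, hc, hcx⟩ := hD.exists_eq n g
  refine ⟨⟨c, hc⟩, LinearMap.ext fun x => ?_⟩
  change β c x.1 = l x
  rw [hcx x.1 x.2, ← hg]
  rfl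

include hB in
theorem finrank_eq (hD : _root_.GrSeg.IsGDual R ℋ 𝒞 β) [IsNoetherianRing R] [Module.Finite R C] (n : ℤ) :
    Module.Finite k (pieceK hB ℋ (-n)) ∧
      Module.finrank k (pieceK hB 𝒞 n) = Module.finrank k (pieceK hB ℋ (-n)) := by
  haveI := finite_pieceK hB 𝒞 n
  let e := LinearEquiv.ofBijective _ (resMap_bijective hB ℋ 𝒞 hD n)
  haveI : Module.Finite k (Module.Dual k (pieceK hB ℋ (-n))) := Module.Finite.equiv e
  haveI : Module.Finite k (pieceK hB ℋ (-n)) :=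
    (Module.finite_dual_iff k).1 inferInstance
  exact ⟨inferInstance, e.finrank_eq.trans Subspace.dual_finrank_eq⟩

include hB in
/-- A graded dual with finite pieces is dual the other way round. -/
theorem flip_isGDual (hD : _root_.GrSeg.IsGDual R ℋ 𝒞 β)
    (hfin : ∀ n, Module.Finite k (pieceK hB ℋ n)) : _root_.GrSeg.IsGDual R 𝒞 ℋ β.flip where
  map_smul r d x := by
    change β x (r • d) = β (r • x) d
    rw [hD.map_smul]
  vanish n d hd j hj x hx := by
    change β x d = 0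
    exact hD.vanish j x hx n (fun e => hj (by omega)) d hd
  eq_zero n d hd h := by
    have hd' : d ∈ pieceK hB ℋ (-(-n)) := by rw [neg_neg]; exact hd
    have : (⟨d, hd'⟩ : pieceK hB ℋ (-(-n))) = 0 := by
      refine (Module.forall_dual_apply_eq_zero_iff k _).1 fun l => ?_
      obtain ⟨c, rfl⟩ := (resMap_bijective hB ℋ 𝒞 hD (-n)).2 l
      exact h c.1 c.2
    exact congrArg Subtype.val this
  exists_eq n g := by
    haveI := hfin (-(-n))
    let e := LinearEquiv.ofBijective _ (resMap_bijective hB ℋ 𝒞 hD (-n))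
    let l : Module.Dual k (Module.Dual k (pieceK hB ℋ (-(-n)))) :=
      (g ∘ₗ (pieceK hB 𝒞 (-n)).subtype) ∘ₗ e.symm.toLinearMap
    let d := (Module.evalEquiv k (pieceK hB ℋ (-(-n)))).symm l
    have hdmem : ∀ (j : ℤ) (v : pieceK hB ℋ j), j = n → (v : H) ∈ ℋ n := fun j v e => e ▸ v.2
    refine ⟨d.1, hdmem _ d (neg_neg n), fun x hx => ?_⟩
    change β x d.1 = g x
    have h1 : (e ⟨x, hx⟩) d = l (e ⟨x, hx⟩) :=
      Module.apply_evalEquiv_symm_apply k (pieceK hB ℋ (-(-n))) (e ⟨x, hx⟩) l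
    have h2 : (e ⟨x, hx⟩) d = β x d.1 := rfl
    rw [← h2, h1]
    change g (((pieceK hB 𝒞 (-n)).subtype) (e.symm (e ⟨x, hx⟩))) = g x
    rw [LinearEquiv.symm_apply_apply]
    rfl

variable {E : Type u} [AddCommGroup E] [Module R E] [Module k E] [IsScalarTower k R E]
  {τE : Type u} [SetLike τE E] [AddSubgroupClass τE E] {𝓔 : ℤ → τE} [DirectSum.Decomposition 𝓔]
  [SetLike.GradedSMul 𝒜 𝓔]
variable {m : HomogeneousIdeal 𝒜} (hm0 : ∀ n : ℤ, 0 < n → ∀ x ∈ 𝒜 n, x ∈ m.toIdeal)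
  {π : E →ₗ[k] k} {e₁ : E} (hπ : IsCoord (𝓔 := 𝓔) (m := m) π e₁)

include hB in
theorem symm_isGrHom [Module.Finite R C] (φ : (C →ₗ[R] E) ≃ₗ[R] H)
    (hφ : _root_.GrLC.IsGrHom (fun d => (_root_.GrLC.homDeg 𝒜 𝒞 𝓔 d).toAddSubgroup) ℋ φ.toLinearMap)
    {j : ℤ} {h : H} (hh : h ∈ ℋ j) : _root_.GrLC.IsGrHomDeg 𝒞 𝓔 (φ.symm h) j := by
  obtain ⟨D, hD0, hD⟩ := exists_sum_cptHom 𝒜 𝒞 𝓔 (φ.symm h)
  have hh' : h = ∑ d ∈ D, φ (cptHom 𝒜 𝒞 𝓔 (φ.symm h) d) := by
    rw [← map_sum, hD, LinearEquiv.apply_symm_apply]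
  have hmem : ∀ d, φ (cptHom 𝒜 𝒞 𝓔 (φ.symm h) d) ∈ ℋ d := fun d =>
    hφ d _ (cptHom_isGrHomDeg 𝒞 𝓔 _ d)
  suffices hfin : φ (cptHom 𝒜 𝒞 𝓔 (φ.symm h) j) = h by
    conv => arg 3; rw [← hfin, LinearEquiv.symm_apply_apply]
    exact cptHom_isGrHomDeg 𝒞 𝓔 _ j
  conv_rhs => rw [← cpt_of_mem ℋ hh, hh', map_sum]
  rw [Finset.sum_congr rfl fun d _ => cpt_of_mem_ite ℋ j (hmem d), Finset.sum_ite_eq']
  split_ifs with hj
  · rfl
  · rw [hD0 j hj, map_zero]

include hB hπ hm0 in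
/-- A *canonical presentation gives a pairing. -/
theorem exists_gdual [IsNoetherianRing R] [Module.Finite R C] (φ : (C →ₗ[R] E) ≃ₗ[R] H)
    (hφ : _root_.GrLC.IsGrHom (fun d => (_root_.GrLC.homDeg 𝒜 𝒞 𝓔 d).toAddSubgroup) ℋ φ.toLinearMap) :
    ∃ β : C →ₗ[k] H →ₗ[k] k, _root_.GrSeg.IsGDual R ℋ 𝒞 β := by
  classical
  have hk : ∀ (c : k) (h : H), φ.symm (c • h) = algebraMap k R c • φ.symm h := fun c h => by
    rw [← map_smul, algebraMap_smul]
  refine ⟨LinearMap.mk₂ k (fun c h => π (φ.symm h c))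
    (fun a b h => by rw [map_add, map_add])
    (fun a c h => by
      rw [← algebraMap_smul R a c, LinearMap.map_smul, algebraMap_smul, map_smul])
    (fun c h h' => by rw [map_add, LinearMap.add_apply, map_add])
    (fun a c h => by rw [hk, LinearMap.smul_apply, algebraMap_smul, map_smul]), ?_⟩
  refine ⟨fun r c h => ?_, fun n c hc j hj h hh => ?_, fun n c hc H0 => ?_, fun n g => ?_⟩
  · change π (φ.symm h (r • c)) = π (φ.symm (r • h) c)
    rw [map_smul φ.symm, LinearMap.smul_apply, LinearMap.map_smul]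
  · change π (φ.symm h c) = 0
    exact hπ.coord_ne (n + j) (by omega) _ (symm_isGrHom hB ℋ 𝒞 φ hφ hh n c hc)
  · by_contra hne
    obtain ⟨l, hl⟩ : ∃ l : C →ₗ[k] k, l c ≠ 0 := by
      by_contra h
      push Not at h
      exact hne ((Module.forall_dual_apply_eq_zero_iff k c).1 h)
    obtain ⟨f, hf, hfl⟩ := exists_hom hB hπ 𝒞 hm0 (-n) l
    refine hl ?_
    rw [← hfl c (by rwa [neg_neg])]
    have h1 : π (φ.symm (φ f) c) = 0 := H0 (φ f) (hφ (-n) f hf)
    rwa [LinearEquiv.symm_apply_apply] at h1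
  · haveI := finite_pieceK hB 𝒞 n
    -- functionals on `C_n` give elements of `H_{-n}`
    have hex : ∀ l : Module.Dual k (pieceK hB 𝒞 n), ∃ f : C →ₗ[R] E,
        _root_.GrLC.IsGrHomDeg 𝒞 𝓔 f (-n) ∧ ∀ x (hx : x ∈ 𝒞 n), π (f x) = l ⟨x, hx⟩ := by
      intro l
      obtain ⟨l', hl'⟩ := LinearMap.exists_extend l
      obtain ⟨f, hf, hfl⟩ := exists_hom hB hπ 𝒞 hm0 (-n) l'
      refine ⟨f, hf, fun x hx => ?_⟩
      rw [hfl x (by rwa [neg_neg]), ← hl']
      rfl
    choose F hF hFl using hex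
    have huniq : ∀ (l : Module.Dual k (pieceK hB 𝒞 n)) (f : C →ₗ[R] E),
        _root_.GrLC.IsGrHomDeg 𝒞 𝓔 f (-n) → (∀ x (hx : x ∈ 𝒞 n), π (f x) = l ⟨x, hx⟩) → F l = f := by
      intro l f hf hfl
      rw [← sub_eq_zero]
      refine hom_ext hπ 𝒞 (d := -n) (fun i x hx => sub_mem (hF l i x hx) (hf i x hx)) fun x hx => ?_
      rw [neg_neg] at hx
      rw [LinearMap.sub_apply, map_sub, hFl l x hx, hfl x hx, sub_self]
    let G : Module.Dual k (pieceK hB 𝒞 n) →ₗ[k] k :=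
      { toFun := fun l => g (φ (F l))
        map_add' := fun a b => by
          rw [← map_add g, ← map_add φ]
          congr 2
          exact huniq _ _ (fun i x hx => add_mem (hF a i x hx) (hF b i x hx)) fun x hx => by
            rw [LinearMap.add_apply, map_add, hFl a x hx, hFl b x hx, LinearMap.add_apply]
        map_smul' := fun c a => by
          rw [RingHom.id_apply, ← map_smul g, ← algebraMap_smul R c (φ (F a)), ← map_smul φ]
          congr 2
          refine huniq _ _ (fun i x hx => ?_) fun x hx => by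
            rw [LinearMap.smul_apply, algebraMap_smul, map_smul, hFl a x hx, LinearMap.smul_apply]
          rw [LinearMap.smul_apply, algebraMap_smul]
          exact ksmul_mem hB 𝓔 c (hF a i x hx) }
    refine ⟨((Module.evalEquiv k (pieceK hB 𝒞 n)).symm G).1,
      ((Module.evalEquiv k (pieceK hB 𝒞 n)).symm G).2, fun h hh => ?_⟩
    let l : Module.Dual k (pieceK hB 𝒞 n) :=
      { toFun := fun x => π (φ.symm h x.1)
        map_add' := fun a b => by rw [Submodule.coe_add, map_add, map_add]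
        map_smul' := fun c a => by
          rw [RingHom.id_apply, Submodule.coe_smul, ← algebraMap_smul R c a.1, LinearMap.map_smul,
            algebraMap_smul, map_smul] }
    have h3 : F l = φ.symm h :=
      huniq l _ (symm_isGrHom hB ℋ 𝒞 φ hφ hh) fun x _ => rfl
    change l ((Module.evalEquiv k (pieceK hB 𝒞 n)).symm G) = g h
    rw [Module.apply_evalEquiv_symm_apply]
    change g (φ (F l)) = g h
    rw [h3, LinearEquiv.apply_symm_apply]

include hB hπ hm0 in
/-- A perfect pairing gives a *canonical presentation. -/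
theorem exists_equiv_of_gdual [IsNoetherianRing R] [Module.Finite R C]
    (hD : _root_.GrSeg.IsGDual R ℋ 𝒞 β) :
    ∃ φ : (C →ₗ[R] E) ≃ₗ[R] H,
      _root_.GrLC.IsGrHom (fun d => (_root_.GrLC.homDeg 𝒜 𝒞 𝓔 d).toAddSubgroup) ℋ φ.toLinearMap := by
  classical
  have hflip := flip_isGDual hB ℋ 𝒞 hD fun n => by
    have := (finrank_eq hB ℋ 𝒞 hD (-n)).1
    rwa [neg_neg] at this
  have hex : ∀ (d : ℤ) (h : H), ∃ f : C →ₗ[R] E, _root_.GrLC.IsGrHomDeg 𝒞 𝓔 f d ∧
      ∀ x ∈ 𝒞 (-d), π (f x) = β x h := fun d h => exists_hom hB hπ 𝒞 hm0 d (β.flip h)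
  choose F hF hFl using hex
  have huniq : ∀ (d : ℤ) (h : H) (f : C →ₗ[R] E), _root_.GrLC.IsGrHomDeg 𝒞 𝓔 f d →
      (∀ x ∈ 𝒞 (-d), π (f x) = β x h) → F d h = f := by
    intro d h f hf hfl
    rw [← sub_eq_zero]
    refine hom_ext hπ 𝒞 (d := d) (fun i x hx => sub_mem (hF d h i x hx) (hf i x hx)) fun x hx => ?_
    rw [LinearMap.sub_apply, map_sub, hFl d h x hx, hfl x hx, sub_self]
  let FA : ∀ d : ℤ, H →+ (C →ₗ[R] E) := fun d => AddMonoidHom.mk' (F d) fun a b =>
    huniq _ _ _ (fun i x hx => add_mem (hF d a i x hx) (hF d b i x hx)) fun x hx => by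
      rw [LinearMap.add_apply, map_add, hFl d a x hx, hFl d b x hx, map_add]
  let Ψ : H →+ (C →ₗ[R] E) :=
    (DirectSum.toAddMonoid fun d => (FA d).comp (AddSubmonoidClass.subtype (ℋ d))).comp
      (DirectSum.decomposeAddEquiv ℋ).toAddMonoidHom
  have hΨ : ∀ (d : ℤ) (h : H), h ∈ ℋ d → Ψ h = F d h := fun d h hh => by
    change DirectSum.toAddMonoid _ (decompose ℋ h) = _
    rw [decompose_of_mem ℋ hh, DirectSum.toAddMonoid_of]
    rfl
  have hlin : ∀ (r : R) (h : H), Ψ (r • h) = r • Ψ h := by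
    intro r h
    induction h using homogeneous_induction ℋ with
    | zero => simp
    | add a b ha hb => rw [smul_add, map_add, map_add, ha, hb, smul_add]
    | hom d h hh =>
      induction r using homogeneous_induction 𝒜 with
      | zero => simp
      | add a b ha hb => rw [add_smul, map_add, ha, hb, add_smul]
      | hom p r hr =>
        rw [hΨ _ _ (smul_mem_gr (𝒜 := 𝒜) (ℳ := ℋ) hr hh), hΨ _ _ hh]
        refine huniq _ _ _ (fun i x hx => ?_) fun x hx => ?_
        · have := smul_mem_gr (𝒜 := 𝒜) (ℳ := 𝓔) hr (hF d h i x hx)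
          rwa [show p + (i + d) = i + (p + d) by abel] at this
        · rw [LinearMap.smul_apply, ← LinearMap.map_smul, ← hD.map_smul]
          have hrx := smul_mem_gr (𝒜 := 𝒜) (ℳ := 𝒞) hr hx
          rw [show p + -(p + d) = -d by abel] at hrx
          exact hFl d h _ hrx
  let ΨL : H →ₗ[R] (C →ₗ[R] E) :=
    { toFun := Ψ, map_add' := map_add Ψ, map_smul' := hlin }
  have hsurj : Function.Surjective ΨL := by
    intro f
    obtain ⟨D, -, hsum⟩ := exists_sum_cptHom 𝒜 𝒞 𝓔 f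
    have hone : ∀ d, ∃ h : H, ΨL h = cptHom 𝒜 𝒞 𝓔 f d := by
      intro d
      let l : C →ₗ[k] k := π ∘ₗ (cptHom 𝒜 𝒞 𝓔 f d).restrictScalars k
      obtain ⟨h, hh, hhl⟩ := hflip.exists_eq d l
      refine ⟨h, (hΨ d h hh).trans (huniq _ _ _ (cptHom_isGrHomDeg 𝒞 𝓔 f d) fun x hx => ?_)⟩
      exact (hhl x hx).symm
    choose hs hhs using hone
    exact ⟨∑ d ∈ D, hs d, by rw [map_sum]; simp_rw [hhs]; exact hsum⟩
  have hinj : Function.Injective ΨL := by
    refine (injective_iff_map_eq_zero _).2 fun h h0 => eq_zero_of_cpt ℋ fun d => ?_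
    refine hflip.eq_zero d _ (cpt_mem ℋ d h) fun x hx => ?_
    change β x (cpt ℋ d h) = 0
    have h1 : π (ΨL h x) = 0 := by rw [h0, LinearMap.zero_apply, map_zero]
    rw [← sum_cpt ℋ h, map_sum, LinearMap.sum_apply, map_sum] at h1
    rw [Finset.sum_eq_single d] at h1
    · change π (Ψ (cpt ℋ d h) x) = 0 at h1
      rwa [hΨ d _ (cpt_mem ℋ d h), hFl d _ x hx] at h1
    · intro i _ hi
      change π (Ψ (cpt ℋ i h) x) = 0
      rw [hΨ i _ (cpt_mem ℋ i h)]
      exact hπ.coord_ne (-d + i) (by omega) _ (hF i _ (-d) x hx)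
    · intro hd
      by_cases hz : cpt ℋ d h = 0
      · change π (Ψ (cpt ℋ d h) x) = 0
        rw [hz, map_zero, LinearMap.zero_apply, map_zero]
      · exact absurd ((mem_degs ℋ).2 hz) hd
  refine ⟨(LinearEquiv.ofBijective ΨL ⟨hinj, hsurj⟩).symm, fun d f hf => ?_⟩
  have hf' : _root_.GrLC.IsGrHomDeg 𝒞 𝓔 f d := hf
  let l : C →ₗ[k] k := π ∘ₗ f.restrictScalars k
  obtain ⟨h, hh, hhl⟩ := hflip.exists_eq d l
  have : ΨL h = f := (hΨ d h hh).trans (huniq _ _ _ hf' fun x hx => (hhl x hx).symm)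
  change (LinearEquiv.ofBijective ΨL ⟨hinj, hsurj⟩).symm f ∈ ℋ d
  rw [← this]
  rw [show (LinearEquiv.ofBijective ΨL ⟨hinj, hsurj⟩).symm (ΨL h) = h from
    (LinearEquiv.ofBijective ΨL ⟨hinj, hsurj⟩).symm_apply_apply h]
  exact hh

end Pair

end Groth.Agent.GrDual
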