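import Groth.Agent.GrDual.PolyTop
import Groth.Agent.GrDual.Canonical
import Mathlib.RingTheory.KrullDimension.Polynomial

/-!
# The canonical module of a weighted polynomial ring is free on a generator of degree `Σ w_i`
-/

set_option autoImplicit false
set_option linter.unusedSectionVars false
set_option linter.style.haveILetI false
set_option maxRecDepth 4000
set_option synthInstance.maxHeartbeats 200000
set_option maxHeartbeats 1000000
universe u

open DirectSum MvPolynomial
open Groth.Agent.GrLC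
open scoped Pointwise

noncomputable section

namespace Groth.Agent.GrDual.PolyTop

section Generic

variable {R : Type u} [CommRing R] [IsNoetherianRing R] {σ : Type u} [SetLike σ R] [AddSubgroupClass σ R]
  {𝒜 : ℤ → σ} [GradedRing 𝒜] (m : HomogeneousIdeal 𝒜) {J : Ideal R} (hJ : J = ⊥) (hJh : J.IsHomogeneous 𝒜)

include hJ in
theorem exists_H_equiv (I : _root_.GrLC.StarInjRes 𝒜 𝒜) (l : ℕ) :
    letI := quoDec 𝒜 hJh
    haveI := quoGr_gradedSMul (𝒜 := 𝒜) 𝒜 J
    ∃ ψ : I.H m l ≃ₗ[R] LocCoh.H m.toIdeal l (R ⧸ J),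
      ∀ (d : ℤ) (h : I.H m l), h ∈ I.Hgr m l d ↔ ψ h ∈ LC.gr (quoGr 𝒜 J) m l d := by
  letI := quoDec 𝒜 hJh
  haveI := quoGr_gradedSMul (𝒜 := 𝒜) 𝒜 J
  let q : (R ⧸ J) ≃ₗ[R] R := Submodule.quotEquivOfEqBot J hJ
  have h1 : _root_.GrLC.IsGrHom (quoGr 𝒜 J) 𝒜 q.toLinearMap := fun d z hz => by
    obtain ⟨p, hp, rfl⟩ := (mem_quoGr 𝒜).1 hz
    exact hp
  have h2 : _root_.GrLC.IsGrHom 𝒜 (quoGr 𝒜 J) q.symm.toLinearMap := fun d p hp =>
    (mem_quoGr 𝒜).2 ⟨p, hp, rfl⟩
  let M1 := LocCohElt.mapEquiv m.toIdeal l q.symm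
  refine ⟨(Hequiv I m l).trans M1, fun d h => ?_⟩
  constructor
  · intro hh
    exact LC.map_mem_gr m l h2 (by rw [LC.gr_eq m l I]; exact ⟨h, hh, rfl⟩)
  · intro hh
    have h3 : M1.symm (M1 (Hequiv I m l h)) ∈ LC.gr 𝒜 m l d := LC.map_mem_gr m l h1 hh
    rw [M1.symm_apply_apply, LC.gr_eq m l I] at h3
    obtain ⟨y, hy, hyh⟩ := h3
    exact (Hequiv I m l).injective hyh ▸ hy

theorem exists_smul_surj [IsDomain R] {n : ℕ} (hn : ringKrullDim R = n) (I : Ideal R) {r : R} (hr : r ≠ 0)
    (z : LocCoh.H I n R) : ∃ v, r • v = z := by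
  have hinj : Function.Injective (r • LinearMap.id : R →ₗ[R] R) := fun a b h => mul_left_cancel₀ hr h
  have hdim : Module.supportDim R (R ⧸ (r • ⊤ : Submodule R R)) < (n : WithBot ℕ∞) := by
    have h1 : Module.supportDim R (QuotSMulTop r R) + 1 ≤ Module.supportDim R R :=
      Module.supportDim_quotSMulTop_succ_le_of_notMem_minimalPrimes fun p hp hrp => by
        rw [show Module.annihilator R R = ⊥ from (Submodule.eq_bot_iff _).2 fun a ha => by
          simpa using Module.mem_annihilator.1 ha 1] at hp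
        rw [Ideal.minimalPrimes_eq_subsingleton_self] at hp
        exact hr (by simpa [Set.mem_singleton_iff.1 hp] using hrp)
    rw [Module.supportDim_self_eq_ringKrullDim, hn] at h1
    change Module.supportDim R (QuotSMulTop r R) < _
    cases hd : Module.supportDim R (QuotSMulTop r R) with
    | bot => exact WithBot.bot_lt_coe _
    | coe v =>
      rw [hd] at h1
      have h3 : v + 1 ≤ (n : ℕ∞) := by exact_mod_cast h1
      refine WithBot.coe_lt_coe.2 (lt_of_lt_of_le ?_ h3)
      exact (ENat.lt_add_one_iff' (ne_top_of_le_ne_top (ENat.natCast_ne_top n) (le_self_add.trans h3))).2 le_rfl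
  have := LocCoh.subsingleton_H_of_supportDim_lt I n _ hdim n le_rfl
  obtain ⟨v, hv⟩ := (LocCohElt.exact_map_map I n hinj (exact_smul_mkQ r) (Submodule.mkQ_surjective _) z).1
    (Subsingleton.elim _ _)
  exact ⟨v, (H_smul_id I n r v).symm.trans hv⟩

end Generic

attribute [local instance] MvPolynomial.weightedGradedAlgebra

variable {k : Type u} [Field k] {N : ℕ} {w : Fin N → ℤ}
variable {m : HomogeneousIdeal (weightedHomogeneousSubmodule k w)} (hw : ∀ i, 0 < w i)
  (hmsp : m.toIdeal = Ideal.span (⋃ n ∈ Set.Ioi (0 : ℤ), (weightedHomogeneousSubmodule k w n : Set (MvPolynomial (Fin N) k))))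
variable (I : _root_.GrLC.StarInjRes (weightedHomogeneousSubmodule k w) (weightedHomogeneousSubmodule k w))

include hw hmsp in
theorem X_mem (i : Fin N) : (X i : MvPolynomial (Fin N) k) ∈ m.toIdeal :=
  hmsp ▸ Ideal.subset_span (Set.mem_iUnion₂.2 ⟨w i, hw i,
    (mem_weightedHomogeneousSubmodule k w (w i) _).2 (isWeightedHomogeneous_X k w i)⟩)

include hw hmsp in
theorem le_lowI : m.toIdeal ≤ lowI k N N := by
  rw [hmsp, Ideal.span_le]
  intro p hp
  obtain ⟨d, hd, hp⟩ := Set.mem_iUnion₂.1 hp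
  exact mem_lowI_of_top (coeff_eq_zero_of_ne hp (by rw [map_zero]; exact ne_of_lt hd))

include hw hmsp in
/-- the top local cohomology -/
theorem exists_top : ∃ h0 ∈ I.Hgr m N (-∑ i, w i), h0 ≠ 0 ∧
    (∀ h ∈ I.Hgr m N (-∑ i, w i), ∃ c : k, h = (C c : MvPolynomial (Fin N) k) • h0) ∧
    (∀ d, -∑ i, w i < d → ∀ h ∈ I.Hgr m N d, h = 0) ∧
    (∀ d, ∀ h ∈ I.Hgr m N d, (∀ i : Fin N, (X i : MvPolynomial (Fin N) k) • h = 0) → h ≠ 0 → d = -∑ i, w i) := by
  have hJ : lowI k N 0 = ⊥ := by simp [lowI]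
  letI := quoDec (weightedHomogeneousSubmodule k w) (isHomogeneous_lowI (k := k) (w := w) 0)
  haveI := quoGr_gradedSMul (𝒜 := (weightedHomogeneousSubmodule k w)) (weightedHomogeneousSubmodule k w) (lowI k N 0)
  obtain ⟨ψ, hψ⟩ := exists_H_equiv m hJ (isHomogeneous_lowI (k := k) (w := w) 0) I N
  obtain ⟨-, hend, ⟨h0, hh0, hne, hspan⟩, hsoc⟩ := top_aux m hw (X_mem hw hmsp) (le_lowI hw hmsp) N 0 (zero_add N)
  rw [wsum_zero] at hend hh0 hspan hsoc
  refine ⟨ψ.symm h0, (hψ _ _).2 (by rwa [ψ.apply_symm_apply]), fun h => hne (ψ.symm.injective (h.trans (map_zero ψ.symm).symm)),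
    fun h hh => ?_, fun d hd h hh => ψ.injective ?_, fun d h hh hk hne' => ?_⟩
  · obtain ⟨c, hc⟩ := hspan _ ((hψ _ _).1 hh)
    exact ⟨c, ψ.injective (by rw [ψ.map_smul, ψ.apply_symm_apply, hc])⟩
  · rw [hend d hd _ ((hψ _ _).1 hh), map_zero]
  · exact hsoc d _ ((hψ _ _).1 hh) (fun i => by rw [← ψ.map_smul, hk i, map_zero])
      fun h' => hne' (ψ.injective (h'.trans (map_zero ψ).symm))

variable {E' : Type u} [AddCommGroup E'] [Module (MvPolynomial (Fin N) k) E'] {𝓔 : ℤ → AddSubgroup E'}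
  [DirectSum.Decomposition 𝓔] [SetLike.GradedSMul (weightedHomogeneousSubmodule k w) 𝓔]
  {e : (MvPolynomial (Fin N) k ⧸ m.toIdeal) →ₗ[MvPolynomial (Fin N) k] E'}
  (he : _root_.GrLC.IsStarInjHull (weightedHomogeneousSubmodule k w) (_root_.GrLC.quotGr (weightedHomogeneousSubmodule k w) m) 𝓔 e)
variable {Cm : Type u} [AddCommGroup Cm] [Module (MvPolynomial (Fin N) k) Cm] {𝒞 : ℤ → AddSubgroup Cm}
  [DirectSum.Decomposition 𝒞] [SetLike.GradedSMul (weightedHomogeneousSubmodule k w) 𝒞]
  (hC : _root_.GrLC.IsStarCanonical (weightedHomogeneousSubmodule k w) 𝒞 𝓔 m N I)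

include hw hmsp he hC in
/-- the canonical module -/
theorem exists_shift_equiv : ∃ f : MvPolynomial (Fin N) k →ₗ[MvPolynomial (Fin N) k] Cm,
    Function.Bijective f ∧ _root_.GrLC.IsGrHomDeg (weightedHomogeneousSubmodule k w) 𝒞 f (∑ i, w i) := by
  classical
  have hB := base (k := k) hw
  have hm0 : ∀ i : ℤ, 0 < i → ∀ x ∈ weightedHomogeneousSubmodule k w i, x ∈ m.toIdeal := irr_of_span hmsp
  have hm1 : m.toIdeal ≠ ⊤ := fun h => C_notMem_lowI (k := k) (N := N) N (one_ne_zero (α := k))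
    (le_lowI hw hmsp (h ▸ Submodule.mem_top))
  letI : Module k Cm := Module.compHom Cm (algebraMap k (MvPolynomial (Fin N) k))
  haveI : IsScalarTower k (MvPolynomial (Fin N) k) Cm := IsScalarTower.of_algebraMap_smul fun _ _ => rfl
  letI : Module k (I.H m N) := Module.compHom (I.H m N) (algebraMap k (MvPolynomial (Fin N) k))
  haveI : IsScalarTower k (MvPolynomial (Fin N) k) (I.H m N) := IsScalarTower.of_algebraMap_smul fun _ _ => rfl
  letI := Hdec I m N
  haveI := Hgr_gradedSMul I m N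
  obtain ⟨β, hβ⟩ := exists_pairing (k := k) hB hm0 hm1 he hC
  haveI := hC.1
  have hflip := flip_isGDual hB (I.Hgr m N) 𝒞 hβ fun j => by
    have := (finrank_eq hB (I.Hgr m N) 𝒞 hβ (-j)).1
    rwa [neg_neg] at this
  obtain ⟨h0, hh0, hh0ne, hspan, hend, hsoc⟩ := exists_top hw hmsp I
  set S := ∑ i, w i
  obtain ⟨c, hc, hc0⟩ : ∃ c ∈ 𝒞 S, β c h0 ≠ 0 := by
    by_contra hno
    push Not at hno
    exact hh0ne (hflip.eq_zero (-S) h0 hh0 fun x hx => hno x (by rwa [neg_neg] at hx))
  have hsmul : ∀ (t : k) (h : I.H m N), (C t : MvPolynomial (Fin N) k) • h = t • h := fun t h => by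
    rw [← MvPolynomial.algebraMap_eq, algebraMap_smul]
  have key : ∀ (a : ℕ) (d : ℤ), (-S - d).toNat ≤ a → ∀ h ∈ I.Hgr m N d, h ≠ 0 →
      ∃ r : MvPolynomial (Fin N) k, β c (r • h) ≠ 0 := by
    intro a
    induction a with
    | zero =>
      intro d hd h hh hne
      have hle : d ≤ -S := le_of_not_gt fun hlt => hne (hend d hlt h hh)
      obtain rfl : d = -S := by omega
      obtain ⟨t, rfl⟩ := hspan h hh
      refine ⟨1, ?_⟩
      rw [one_smul, hsmul, map_smul, smul_eq_mul]
      exact mul_ne_zero (fun ht => hne (by rw [hsmul, ht, zero_smul])) hc0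
    | succ a iha =>
      intro d hd h hh hne
      by_cases hs : ∀ i : Fin N, (X i : MvPolynomial (Fin N) k) • h = 0
      · obtain rfl := hsoc d h hh hs hne
        exact iha _ (by simp) h hh hne
      · push Not at hs
        obtain ⟨i, hi⟩ := hs
        have hmem : (X i : MvPolynomial (Fin N) k) • h ∈ I.Hgr m N (w i + d) :=
          Groth.Agent.GrLC.smul_mem_gr (𝒜 := weightedHomogeneousSubmodule k w)
            ((mem_weightedHomogeneousSubmodule k w (w i) _).2 (isWeightedHomogeneous_X k w i)) hh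
        have := hw i
        obtain ⟨r, hr⟩ := iha (w i + d) (by omega) _ hmem hi
        exact ⟨r * X i, by rwa [mul_smul]⟩
  let f : MvPolynomial (Fin N) k →ₗ[MvPolynomial (Fin N) k] Cm := LinearMap.toSpanSingleton _ Cm c
  have hsurj : Function.Surjective f := fun d => by
    suffices hd : d ∈ LinearMap.range f from hd
    induction d using homogeneous_induction 𝒞 with
    | zero => exact zero_mem _
    | add a b ha hb => exact add_mem ha hb
    | hom j d hd =>
      by_contra hnot
      obtain ⟨l, hl, hker⟩ := Submodule.exists_le_ker_of_notMem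
        (p := (LinearMap.range f).restrictScalars k) (v := d) hnot
      obtain ⟨h, hh, hhl⟩ := hflip.exists_eq (-j) l
      have hz : ∀ r : MvPolynomial (Fin N) k, β c (r • h) = 0 := fun r => by
        induction r using homogeneous_induction (weightedHomogeneousSubmodule k w) with
        | zero => rw [zero_smul, map_zero]
        | add a b ha hb => rw [add_smul, map_add, ha, hb, add_zero]
        | hom i r hr =>
          rw [← hβ.map_smul]
          have hrc := Groth.Agent.GrLC.smul_mem_gr (𝒜 := weightedHomogeneousSubmodule k w) (ℳ := 𝒞) hr hc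
          by_cases hij : -j = -(i + S)
          · have := hhl (r • c) (by rw [neg_neg, show j = i + S by omega]; exact hrc)
            exact this.trans (hker (show r • c ∈ LinearMap.range f from ⟨r, rfl⟩))
          · exact hβ.vanish _ _ hrc (-j) hij h hh
      have hh0' : h = 0 := by
        by_contra hne
        obtain ⟨r, hr⟩ := key _ (-j) le_rfl h hh hne
        exact hr (hz r)
      have := hhl d (by rwa [neg_neg])
      rw [hh0', map_zero, LinearMap.zero_apply] at this
      exact hl this.symm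
  refine ⟨f, ⟨(injective_iff_map_eq_zero f).2 fun r hr => ?_, hsurj⟩, fun i r hr => ?_⟩
  · by_contra hne
    have hkill : ∀ h : I.H m N, r • h = 0 := fun h => gdual_ext hflip fun d => by
      obtain ⟨s, rfl⟩ := hsurj d
      change β (s • c) (r • h) = 0
      rw [← hβ.map_smul, smul_comm, show r • c = 0 from hr, smul_zero, map_zero, LinearMap.zero_apply]
    have hn : ringKrullDim (MvPolynomial (Fin N) k) = N := by
      rw [MvPolynomial.ringKrullDim_of_isNoetherianRing, ringKrullDim_eq_zero_of_field, zero_add, Nat.card_fin]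
    obtain ⟨v, hv⟩ := exists_smul_surj hn m.toIdeal hne (Hequiv I m N h0)
    obtain ⟨v', rfl⟩ := (Hequiv I m N).surjective v
    rw [← LinearEquiv.map_smul, hkill v', map_zero] at hv
    exact hh0ne ((Hequiv I m N).injective (hv.symm.trans (map_zero _).symm))
  · have := Groth.Agent.GrLC.smul_mem_gr (𝒜 := weightedHomogeneousSubmodule k w) (ℳ := 𝒞) hr hc
    exact this

end Groth.Agent.GrDual.PolyTop
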