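import Groth.Agent.GrDual.DualInduction
import Groth.Agent.GrDual.GorPair
import Mathlib.RingTheory.MvPolynomial.Ideal
import Mathlib.RingTheory.MvPolynomial.WeightedHomogeneous

/-!
# Top local cohomology of a weighted polynomial ring

`top_aux`: for `M = k[X]/(X_i : i < j)`, `H^{N-j}(M)` ends in degree `-Σ_{i ≥ j} w_i`, is one-dimensional there and
has its socle there; lower local cohomology vanishes.
-/

set_option autoImplicit false
set_option linter.unusedSectionVars false
set_option linter.style.haveILetI false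
set_option maxRecDepth 4000
set_option synthInstance.maxHeartbeats 200000
set_option maxHeartbeats 1000000
universe u

open DirectSum MvPolynomial
open Groth.Agent.GrLC
open scoped Pointwise

noncomputable section

namespace Groth.Agent.GrDual.PolyTop

section Factor

variable {A : Type u} [CommRing A] {I I' : Ideal A} {x : A}

/-- `A/I → A/(I, x)` -/
def factorQ (h : I' = I ⊔ Ideal.span {x}) : (A ⧸ I) →ₗ[A] (A ⧸ I') :=
  Submodule.mapQ I I' LinearMap.id (by rw [Submodule.comap_id, h]; exact le_sup_left)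

theorem factorQ_mk (h : I' = I ⊔ Ideal.span {x}) (p : A) :
    factorQ h (Submodule.Quotient.mk p) = Submodule.Quotient.mk p := rfl

theorem factorQ_exact (h : I' = I ⊔ Ideal.span {x}) (hreg : ∀ p, x * p ∈ I → p ∈ I) :
    Function.Injective (x • LinearMap.id : (A ⧸ I) →ₗ[A] A ⧸ I) ∧
      Function.Exact (x • LinearMap.id : (A ⧸ I) →ₗ[A] A ⧸ I) (factorQ h) ∧ Function.Surjective (factorQ h) := by
  have hx : ∀ c : A, (x • LinearMap.id : (A ⧸ I) →ₗ[A] A ⧸ I) (Submodule.Quotient.mk c) =
      Submodule.Quotient.mk (x * c) := fun c => rfl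
  refine ⟨fun z z' hz => ?_, fun z => ?_, fun z => ?_⟩
  · obtain ⟨p, rfl⟩ := Submodule.Quotient.mk_surjective _ z
    obtain ⟨p', rfl⟩ := Submodule.Quotient.mk_surjective _ z'
    rw [hx, hx, Submodule.Quotient.eq, ← mul_sub] at hz
    exact (Submodule.Quotient.eq _).2 (hreg _ hz)
  · obtain ⟨p, rfl⟩ := Submodule.Quotient.mk_surjective _ z
    rw [factorQ_mk, Submodule.Quotient.mk_eq_zero]
    subst h
    constructor
    · intro hp
      obtain ⟨a, ha, b, hb, rfl⟩ := Submodule.mem_sup.1 hp
      obtain ⟨c, rfl⟩ := Ideal.mem_span_singleton'.1 hb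
      refine ⟨Submodule.Quotient.mk c, (hx c).trans ?_⟩
      rw [Submodule.Quotient.eq, mul_comm c, show x * c - (a + x * c) = -a by ring]
      exact I.neg_mem ha
    · rintro ⟨c, hc⟩
      obtain ⟨c, rfl⟩ := Submodule.Quotient.mk_surjective _ c
      rw [hx, Submodule.Quotient.eq] at hc
      refine Submodule.mem_sup.2 ⟨p - x * c, by rw [← neg_sub]; exact I.neg_mem hc, x * c,
        Ideal.mul_mem_right c _ (Ideal.subset_span (Set.mem_singleton _)), sub_add_cancel p _⟩
  · obtain ⟨p, rfl⟩ := Submodule.Quotient.mk_surjective _ z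
    exact ⟨Submodule.Quotient.mk p, rfl⟩

end Factor

attribute [local instance] MvPolynomial.weightedGradedAlgebra

variable {k : Type u} [Field k] {N : ℕ} {w : Fin N → ℤ}


/-- `(X_i : i < j)` -/
def lowI (k : Type u) [Field k] (N : ℕ) (j : ℕ) : Ideal (MvPolynomial (Fin N) k) :=
  Ideal.span (X '' {i : Fin N | i.val < j})

/-- `Σ_{i ≥ j} w_i` -/
def wsum (w : Fin N → ℤ) (j : ℕ) : ℤ := ∑ i ∈ Finset.univ.filter (fun i : Fin N => j ≤ i.val), w i

theorem wsum_step {j : ℕ} (h : j < N) : wsum w j = w ⟨j, h⟩ + wsum w (j + 1) := by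
  rw [wsum, wsum, ← Finset.insert_erase (s := Finset.univ.filter fun i : Fin N => j ≤ i.val) (a := ⟨j, h⟩)
    (by simp), Finset.sum_insert (Finset.notMem_erase _ _)]
  congr 1
  refine Finset.sum_congr ?_ fun _ _ => rfl
  ext i
  simp only [Finset.mem_erase, Finset.mem_filter, Finset.mem_univ, true_and, ne_eq, Fin.ext_iff]
  omega

theorem wsum_zero : wsum w 0 = ∑ i, w i := by simp [wsum]

theorem isHomogeneous_lowI (j : ℕ) : (lowI k N j).IsHomogeneous (weightedHomogeneousSubmodule k w) :=
  Ideal.homogeneous_span (weightedHomogeneousSubmodule k w) _ (by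
    rintro _ ⟨i, -, rfl⟩
    exact ⟨w i, (mem_weightedHomogeneousSubmodule k w (w i) _).2 (isWeightedHomogeneous_X k w i)⟩)

theorem weight_pos (hw : ∀ i, 0 < w i) {d : Fin N →₀ ℕ} (hd : d ≠ 0) : 0 < Finsupp.weight w d := by
  obtain ⟨i, hi⟩ := Finsupp.ne_iff.1 hd
  rw [Finsupp.weight_apply, Finsupp.sum]
  refine Finset.sum_pos' (fun a _ => smul_nonneg (Nat.zero_le _) (hw a).le) ⟨i, Finsupp.mem_support_iff.2 hi, ?_⟩
  rw [nsmul_eq_mul]
  exact mul_pos (by exact_mod_cast Nat.pos_of_ne_zero hi) (hw i)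

theorem coeff_eq_zero_of_ne {p : (MvPolynomial (Fin N) k)} {d : ℤ} (hp : p ∈ (weightedHomogeneousSubmodule k w) d) {e : Fin N →₀ ℕ}
    (he : Finsupp.weight w e ≠ d) : coeff e p = 0 :=
  by_contra fun h => he ((mem_weightedHomogeneousSubmodule k w d p).1 hp h)

theorem base (hw : ∀ i, 0 < w i) : Base k (weightedHomogeneousSubmodule k w) where
  pos n hn x hx := MvPolynomial.ext _ _ fun e => by
    rw [coeff_zero]
    refine coeff_eq_zero_of_ne hx fun he => ?_
    rcases eq_or_ne e 0 with rfl | h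
    · rw [map_zero] at he; omega
    · have := weight_pos hw h; omega
  alg_mem c := (mem_weightedHomogeneousSubmodule k w 0 _).2 (isWeightedHomogeneous_C w c)
  exists_alg x hx := ⟨coeff 0 x, MvPolynomial.ext _ _ fun e => by
    rw [MvPolynomial.algebraMap_eq, coeff_C]
    by_cases h : (0 : Fin N →₀ ℕ) = e
    · rw [if_pos h, h]
    · rw [if_neg h]
      exact (coeff_eq_zero_of_ne hx (weight_pos hw (Ne.symm h)).ne').symm⟩

theorem mem_lowI_of_top {p : (MvPolynomial (Fin N) k)} (h : coeff 0 p = 0) : p ∈ lowI k N N := by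
  refine mem_ideal_span_X_image.2 fun e he => ?_
  obtain ⟨i, hi⟩ := Finsupp.ne_iff.1 (show e ≠ 0 by rintro rfl; exact (mem_support_iff.1 he) h)
  exact ⟨i, i.2, hi⟩

theorem C_notMem_lowI (j : ℕ) {c : k} (hc : c ≠ 0) : (C c : (MvPolynomial (Fin N) k)) ∉ lowI k N j := fun h => by
  obtain ⟨i, -, hi⟩ := mem_ideal_span_X_image.1 h 0 (by rw [mem_support_iff, coeff_C, if_pos rfl]; exact hc)
  exact hi rfl

theorem mem_of_X_mul {j : ℕ} {i0 : Fin N} (hi : i0.val = j) {p : (MvPolynomial (Fin N) k)} (h : X i0 * p ∈ lowI k N j) :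
    p ∈ lowI k N j := by
  refine mem_ideal_span_X_image.2 fun e he => ?_
  obtain ⟨i, hij, hne⟩ := mem_ideal_span_X_image.1 h (Finsupp.single i0 1 + e)
    (by rw [mem_support_iff, coeff_X_mul]; exact mem_support_iff.1 he)
  refine ⟨i, hij, ?_⟩
  have hne0 : i0 ≠ i := fun h' => absurd hij (by subst h'; simp [hi])
  rwa [Finsupp.add_apply, Finsupp.single_eq_of_ne (Ne.symm hne0), zero_add] at hne

theorem lowI_succ {j : ℕ} (h : j < N) :
    lowI k N (j + 1) = lowI k N j ⊔ Ideal.span {(X ⟨j, h⟩ : (MvPolynomial (Fin N) k))} := by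
  rw [lowI, lowI, ← Ideal.span_union, ← Set.image_singleton, ← Set.image_union]
  congr 2
  ext i
  simp only [Set.mem_union, Set.mem_singleton_iff, Set.mem_setOf_eq, Fin.ext_iff]
  omega

variable (m : HomogeneousIdeal (weightedHomogeneousSubmodule k w)) (hm : _root_.GrLC.IsStarLocal (weightedHomogeneousSubmodule k w) m) (hw : ∀ i, 0 < w i)
  (hmX : ∀ i : Fin N, (X i : (MvPolynomial (Fin N) k)) ∈ m.toIdeal) (hmle : m.toIdeal ≤ lowI k N N)

include hw hmX hmle in
/-- the induction -/
theorem top_aux : ∀ (l j : ℕ), j + l = N →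
    letI := quoDec (weightedHomogeneousSubmodule k w) (isHomogeneous_lowI (k := k) (w := w) j)
    haveI := quoGr_gradedSMul (𝒜 := (weightedHomogeneousSubmodule k w)) (weightedHomogeneousSubmodule k w) (lowI k N j)
    (∀ i, i < l → Subsingleton (LocCoh.H m.toIdeal i ((MvPolynomial (Fin N) k) ⧸ lowI k N j))) ∧
    (∀ d, -wsum w j < d → ∀ h ∈ LC.gr (quoGr (weightedHomogeneousSubmodule k w) (lowI k N j)) m l d, h = 0) ∧
    (∃ h0 ∈ LC.gr (quoGr (weightedHomogeneousSubmodule k w) (lowI k N j)) m l (-wsum w j), h0 ≠ 0 ∧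
      ∀ h ∈ LC.gr (quoGr (weightedHomogeneousSubmodule k w) (lowI k N j)) m l (-wsum w j), ∃ c : k, h = (C c : (MvPolynomial (Fin N) k)) • h0) ∧
    (∀ d, ∀ h ∈ LC.gr (quoGr (weightedHomogeneousSubmodule k w) (lowI k N j)) m l d, (∀ i : Fin N, (X i : (MvPolynomial (Fin N) k)) • h = 0) → h ≠ 0 →
      d = -wsum w j) := by
  intro l
  induction l with
  | zero =>
    intro j hj
    obtain rfl : N = j := hj.symm
    letI := quoDec (weightedHomogeneousSubmodule k w) (isHomogeneous_lowI (k := k) (w := w) N)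
    haveI := quoGr_gradedSMul (𝒜 := (weightedHomogeneousSubmodule k w)) (weightedHomogeneousSubmodule k w) (lowI k N N)
    have htop : ∀ z : (MvPolynomial (Fin N) k) ⧸ lowI k N N, z ∈ _root_.GrLC.gam m.toIdeal ((MvPolynomial (Fin N) k) ⧸ lowI k N N) := fun z => by
      obtain ⟨p, rfl⟩ := Submodule.Quotient.mk_surjective _ z
      refine ⟨1, fun a ha => ?_⟩
      rw [pow_one] at ha
      rw [← Submodule.Quotient.mk_smul, Submodule.Quotient.mk_eq_zero]
      exact Ideal.mul_mem_right _ _ (hmle ha)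
    obtain ⟨z0, hz0⟩ := LC.exists_zero_equiv m (quoGr (weightedHomogeneousSubmodule k w) (lowI k N N))
    have hzero : ∀ d, d ≠ 0 → ∀ h ∈ LC.gr (quoGr (weightedHomogeneousSubmodule k w) (lowI k N N)) m 0 d, h = 0 := fun d hd h hh => by
      obtain ⟨z, rfl⟩ := z0.surjective h
      obtain ⟨p, hp, hpz⟩ := (mem_quoGr (weightedHomogeneousSubmodule k w)).1 ((hz0 d z).2 hh)
      have : z = 0 := Subtype.ext (by
        rw [← hpz]
        exact (Submodule.Quotient.mk_eq_zero _).2 (mem_lowI_of_top (coeff_eq_zero_of_ne hp (by rw [map_zero]; exact Ne.symm hd))))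
      rw [this, map_zero]
    have hsum : wsum w N = 0 := by
      rw [wsum]
      refine Finset.sum_eq_zero fun i hi => ?_
      simp only [Finset.mem_filter] at hi
      omega
    have h1 : (Submodule.Quotient.mk (1 : MvPolynomial (Fin N) k) : _ ⧸ lowI k N N) ∈ quoGr (weightedHomogeneousSubmodule k w) (lowI k N N) 0 :=
      (mem_quoGr (weightedHomogeneousSubmodule k w)).2 ⟨1, SetLike.GradedOne.one_mem, rfl⟩
    refine ⟨fun i hi => absurd hi (by omega), fun d hd => hzero d (by omega),
      ⟨z0 ⟨_, htop _⟩, by rw [hsum, neg_zero]; exact (hz0 0 _).1 h1, fun h => ?_, fun h hh => ?_⟩, fun d h hh _ hne => ?_⟩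
    · have h' := congrArg Subtype.val (z0.injective (h.trans (map_zero z0).symm))
      refine C_notMem_lowI (k := k) (N := N) N (one_ne_zero (α := k)) ?_
      rw [map_one]
      exact (Submodule.Quotient.mk_eq_zero _).1 h'
    · rw [hsum, neg_zero] at hh
      obtain ⟨z, rfl⟩ := z0.surjective h
      obtain ⟨p, hp, hpz⟩ := (mem_quoGr (weightedHomogeneousSubmodule k w)).1 ((hz0 0 z).2 hh)
      obtain ⟨c, rfl⟩ := (base hw).exists_alg p hp
      refine ⟨c, ?_⟩
      rw [← map_smul]
      congr 1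
      refine Subtype.ext ?_
      rw [← hpz, MvPolynomial.algebraMap_eq]
      change _ = (C c : MvPolynomial (Fin N) k) • (Submodule.Quotient.mk 1 : _ ⧸ lowI k N N)
      rw [← Submodule.Quotient.mk_smul, smul_eq_mul, mul_one]
      rfl
    · rw [hsum, neg_zero]
      by_contra hd
      exact hne (hzero d hd h hh)
  | succ l ih =>
    intro j hj
    have hjN : j < N := by omega
    let i0 : Fin N := ⟨j, hjN⟩
    let x : (MvPolynomial (Fin N) k) := X i0
    letI := quoDec (weightedHomogeneousSubmodule k w) (isHomogeneous_lowI (k := k) (w := w) j)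
    haveI := quoGr_gradedSMul (𝒜 := (weightedHomogeneousSubmodule k w)) (weightedHomogeneousSubmodule k w) (lowI k N j)
    letI := quoDec (weightedHomogeneousSubmodule k w) (isHomogeneous_lowI (k := k) (w := w) (j + 1))
    haveI := quoGr_gradedSMul (𝒜 := (weightedHomogeneousSubmodule k w)) (weightedHomogeneousSubmodule k w) (lowI k N (j + 1))
    obtain ⟨hvan', hend', ⟨w0, hw0, hw0ne, hw0span⟩, hsoc'⟩ := ih (j + 1) (by omega)
    have hx : x ∈ (weightedHomogeneousSubmodule k w) (w i0) := (mem_weightedHomogeneousSubmodule k w (w i0) _).2 (isWeightedHomogeneous_X k w i0)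
    let f : ((MvPolynomial (Fin N) k) ⧸ lowI k N j) →ₗ[MvPolynomial (Fin N) k] ((MvPolynomial (Fin N) k) ⧸ lowI k N j) :=
      x • LinearMap.id
    let g : ((MvPolynomial (Fin N) k) ⧸ lowI k N j) →ₗ[MvPolynomial (Fin N) k] ((MvPolynomial (Fin N) k) ⧸ lowI k N (j + 1)) :=
      factorQ (lowI_succ hjN)
    obtain ⟨hf, hfg, hg⟩ : Function.Injective f ∧ Function.Exact f g ∧ Function.Surjective g :=
      factorQ_exact (lowI_succ hjN) fun p hp => mem_of_X_mul (i0 := ⟨j, hjN⟩) (show (⟨j, hjN⟩ : Fin N).val = j from rfl) hp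
    have hfgr : _root_.GrLC.IsGrHomDeg (quoGr (weightedHomogeneousSubmodule k w) (lowI k N j)) (quoGr (weightedHomogeneousSubmodule k w) (lowI k N j)) f (w i0) :=
      fun e z hz => by
        have h := Groth.Agent.GrLC.smul_mem_gr (𝒜 := (weightedHomogeneousSubmodule k w)) hx hz
        rw [add_comm] at h
        exact h
    have hggr : _root_.GrLC.IsGrHom (quoGr (weightedHomogeneousSubmodule k w) (lowI k N j)) (quoGr (weightedHomogeneousSubmodule k w) (lowI k N (j + 1))) g := fun d z hz => by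
      obtain ⟨p, hp, rfl⟩ := (mem_quoGr (weightedHomogeneousSubmodule k w)).1 hz
      exact (mem_quoGr (weightedHomogeneousSubmodule k w)).2 ⟨p, hp, rfl⟩
    have hxm : x ∈ m.toIdeal := hmX i0
    have hmap : ∀ i (h : LocCoh.H m.toIdeal i ((MvPolynomial (Fin N) k) ⧸ lowI k N j)), LocCohElt.map m.toIdeal i f h = x • h :=
      fun i h => H_smul_id m.toIdeal i x h
    have hvan : ∀ i, i < l + 1 → Subsingleton (LocCoh.H m.toIdeal i ((MvPolynomial (Fin N) k) ⧸ lowI k N j)) := fun i hi => by
      refine subsingleton_of_forall_eq 0 fun h => ?_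
      obtain ⟨r, hr⟩ := LocCoh.isPowerTorsion_H (I := m.toIdeal) (i := i) (ModuleCat.of (MvPolynomial (Fin N) k) ((MvPolynomial (Fin N) k) ⧸ lowI k N j)) h
      have hkey : ∀ h : LocCoh.H m.toIdeal i ((MvPolynomial (Fin N) k) ⧸ lowI k N j), x • h = 0 → h = 0 := fun h hh => by
        cases i with
        | zero =>
          obtain ⟨z0, -⟩ := LC.exists_zero_equiv m (quoGr (weightedHomogeneousSubmodule k w) (lowI k N j))
          obtain ⟨z, rfl⟩ := z0.surjective h
          rw [← map_smul] at hh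
          have h' := congrArg Subtype.val (z0.injective (hh.trans (map_zero z0).symm))
          rw [show z = 0 from Subtype.ext (hf (h'.trans (map_zero f).symm)), map_zero]
        | succ i =>
          obtain ⟨v, rfl⟩ := (LocCohElt.exact_δ_map m.toIdeal i hf hfg hg h).1 ((hmap _ h).trans hh)
          have := hvan' i (by omega)
          rw [Subsingleton.elim v 0, map_zero]
      have hpow : ∀ a : ℕ, ∀ h : LocCoh.H m.toIdeal i ((MvPolynomial (Fin N) k) ⧸ lowI k N j), x ^ a • h = 0 → h = 0 := by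
        intro a
        induction a with
        | zero => intro h hh; rwa [pow_zero, one_smul] at hh
        | succ a iha => intro h hh; exact hkey h (iha _ (by rwa [pow_succ, mul_smul] at hh))
      exact hpow r h (hr (x ^ r) (Ideal.pow_mem_pow hxm r))
    let δ := LocCohElt.δ m.toIdeal l hf hfg hg
    have hδinj : Function.Injective δ := (injective_iff_map_eq_zero δ).2 fun v hv => by
      obtain ⟨v', rfl⟩ := (LocCohElt.exact_map_δ m.toIdeal l hf hfg hg v).1 hv
      have := hvan l (by omega)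
      rw [Subsingleton.elim v' 0, map_zero]
    have hS := wsum_step (w := w) hjN
    have hker : ∀ d, ∀ h ∈ LC.gr (quoGr (weightedHomogeneousSubmodule k w) (lowI k N j)) m (l + 1) d, x • h = 0 →
        ∃ v ∈ LC.gr (quoGr (weightedHomogeneousSubmodule k w) (lowI k N (j + 1))) m l (d + w i0), δ v = h := fun d h hh hx0 =>
      LC.exists_δ_eq_of_map_eq_zero m l hf hfg hg hfgr hggr hh ((hmap _ h).trans hx0)
    have hend : ∀ d, -wsum w j < d → ∀ h ∈ LC.gr (quoGr (weightedHomogeneousSubmodule k w) (lowI k N j)) m (l + 1) d, h = 0 := by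
      have hone : ∀ d, -wsum w j < d → ∀ h ∈ LC.gr (quoGr (weightedHomogeneousSubmodule k w) (lowI k N j)) m (l + 1) d, x • h = 0 → h = 0 := by
        intro d hd h hh hx0
        obtain ⟨v, hv, rfl⟩ := hker d h hh hx0
        rw [hend' _ (by rw [hS] at hd; change _ < d + w ⟨j, hjN⟩; omega) v hv, map_zero]
      intro d hd h hh
      obtain ⟨r, hr⟩ := LocCoh.isPowerTorsion_H (I := m.toIdeal) (i := l + 1) (ModuleCat.of (MvPolynomial (Fin N) k) ((MvPolynomial (Fin N) k) ⧸ lowI k N j)) h
      have hpow : ∀ a : ℕ, ∀ d, -wsum w j < d → ∀ h ∈ LC.gr (quoGr (weightedHomogeneousSubmodule k w) (lowI k N j)) m (l + 1) d, x ^ a • h = 0 → h = 0 := by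
        intro a
        induction a with
        | zero => intro d _ h _ hh; rwa [pow_zero, one_smul] at hh
        | succ a iha =>
          intro d hd h hh ha
          refine hone d hd h hh (iha (w i0 + d) (by have := hw i0; omega) _ ?_ (by rwa [pow_succ, mul_smul] at ha))
          letI := LC.dec (ℳ := quoGr (weightedHomogeneousSubmodule k w) (lowI k N j)) (a := m) (i := l + 1)
          haveI : SetLike.GradedSMul (weightedHomogeneousSubmodule k w) (LC.gr (quoGr (weightedHomogeneousSubmodule k w) (lowI k N j)) m (l + 1)) := LC.gr_gradedSMul m _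
          exact Groth.Agent.GrLC.smul_mem_gr (𝒜 := (weightedHomogeneousSubmodule k w)) hx hh
      exact hpow r d hd h hh (hr (x ^ r) (Ideal.pow_mem_pow hxm r))
    have hdeg0 : -wsum w j + w i0 = -wsum w (j + 1) := by rw [hS]; change _ + w ⟨j, hjN⟩ = _; ring
    refine ⟨hvan, hend, ⟨δ w0, ?_, ?_, fun h hh => ?_⟩, fun d h hh hk hne => ?_⟩
    · have := LC.δ_mem_gr_deg m l hf hfg hg hfgr hggr hw0
      rwa [show -wsum w (j + 1) - w i0 = -wsum w j by omega] at this
    · exact fun h => hw0ne (hδinj (h.trans (map_zero δ).symm))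
    · have hx0 : x • h = 0 := hend (w i0 + -wsum w j) (by have := hw i0; omega) _ (by
        letI := LC.dec (ℳ := quoGr (weightedHomogeneousSubmodule k w) (lowI k N j)) (a := m) (i := l + 1)
        haveI : SetLike.GradedSMul (weightedHomogeneousSubmodule k w) (LC.gr (quoGr (weightedHomogeneousSubmodule k w) (lowI k N j)) m (l + 1)) := LC.gr_gradedSMul m _
        exact Groth.Agent.GrLC.smul_mem_gr (𝒜 := (weightedHomogeneousSubmodule k w)) hx hh)
      obtain ⟨v, hv, rfl⟩ := hker _ h hh hx0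
      rw [hdeg0] at hv
      obtain ⟨c, rfl⟩ := hw0span v hv
      exact ⟨c, δ.map_smul _ _⟩
    · obtain ⟨v, hv, rfl⟩ := hker d h hh (hk i0)
      have := hsoc' _ v hv (fun i => hδinj (by rw [δ.map_smul, hk i, map_zero]))
        fun h => hne (by rw [h, map_zero])
      omega

end Groth.Agent.GrDual.PolyTop
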