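import Groth.Agent.GrDual.Duality
import Groth.Agent.GrDual.Canonical

/-!
# Elements killed by an ideal of finite colength are dual to the quotient of the dual module

`exists_dual_quot`: `dim (0 :_H q) = dim D/qD` for a perfect pairing of `H` with a finite module `D`.
-/

set_option autoImplicit false
set_option linter.unusedSectionVars false
set_option linter.style.haveILetI false
universe u

open DirectSum
open Groth.Agent.GrLC

noncomputable section

namespace Groth.Agent.GrDual

variable {k : Type u} [Field k] {R : Type u} [CommRing R] [Algebra k R] [IsNoetherianRing R]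

/-- a finite module killed by a power of `m` is finite over `k = R/m` -/
theorem finite_of_killed (m : Ideal R) (hk : ∀ r : R, ∃ c : k, r - algebraMap k R c ∈ m) :
    ∀ (N : ℕ) (W : Type u) [AddCommGroup W] [Module R W] [Module k W] [IsScalarTower k R W]
      [Module.Finite R W], (∀ r ∈ m ^ N, ∀ w : W, r • w = 0) → Module.Finite k W
  | 0, W, _, _, _, _, _, h => by
    have : Subsingleton W := subsingleton_of_forall_eq 0 fun w => by simpa using h 1 (by simp) w
    infer_instance
  | N + 1, W, _, _, _, _, _, h => by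
    let W' : Submodule R W := m • ⊤
    haveI := finite_of_killed m hk N W' fun r hr w => Subtype.ext (by
      change r • (w : W) = 0
      refine Submodule.smul_induction_on w.2 (fun a ha z _ => ?_) (fun a b ha hb => by rw [smul_add, ha, hb, add_zero])
      rw [smul_smul]
      exact h _ (pow_succ m N ▸ Ideal.mul_mem_mul hr ha) z)
    haveI : Module.Finite k (W ⧸ W') := by
      obtain ⟨G, hG⟩ := (Module.Finite.fg_top : (⊤ : Submodule R (W ⧸ W')).FG)
      refine ⟨G, eq_top_iff.2 fun w _ => ?_⟩
      suffices key : ∀ w ∈ Submodule.span R (G : Set (W ⧸ W')), w ∈ Submodule.span k (G : Set (W ⧸ W')) from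
        key w (by rw [hG]; trivial)
      intro w hw
      induction hw using Submodule.span_induction with
      | mem x hx => exact Submodule.subset_span hx
      | zero => exact zero_mem _
      | add a b _ _ ha hb => exact add_mem ha hb
      | smul r x _ hx =>
        obtain ⟨c, hc⟩ := hk r
        have : r • x = c • x := by
          obtain ⟨x, rfl⟩ := Submodule.Quotient.mk_surjective W' x
          rw [← sub_eq_zero, ← algebraMap_smul R c, ← sub_smul, ← Submodule.Quotient.mk_smul,
            Submodule.Quotient.mk_eq_zero]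
          exact Submodule.smul_mem_smul hc Submodule.mem_top
        rw [this]
        exact Submodule.smul_mem _ c hx
    haveI : Module.Finite k (W'.restrictScalars k) :=
      inferInstanceAs (Module.Finite k W')
    haveI : Module.Finite k (W ⧸ W'.restrictScalars k) :=
      Module.Finite.equiv (Submodule.Quotient.restrictScalarsEquiv k W').symm
    exact Module.Finite.of_submodule_quotient (W'.restrictScalars k)

variable {σ : Type u} [SetLike σ R] [AddSubgroupClass σ R] {𝒜 : ℤ → σ} [GradedRing 𝒜]
variable (hB : Base k 𝒜)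
variable {D : Type u} [AddCommGroup D] [Module R D] {τD : Type u} [SetLike τD D] [AddSubgroupClass τD D]
  {𝒟 : ℤ → τD} [DirectSum.Decomposition 𝒟] [SetLike.GradedSMul 𝒜 𝒟]

theorem isHomogeneous_ideal_smul_top {q : Ideal R} (hq : q.IsHomogeneous 𝒜) :
    (q • (⊤ : Submodule R D)).IsHomogeneous 𝒟 := fun e x hx => by
  change cpt 𝒟 e x ∈ q • (⊤ : Submodule R D)
  refine Submodule.smul_induction_on hx (fun a ha z _ => ?_) (fun a b ha hb => by rw [map_add]; exact add_mem ha hb)
  rw [← sum_cpt 𝒜 a, Finset.sum_smul, map_sum]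
  refine sum_mem fun i _ => ?_
  rw [cpt_smul_left' (𝒜 := 𝒜) 𝒟 (cpt_mem 𝒜 i a)]
  exact Submodule.smul_mem_smul (hq i ha) Submodule.mem_top

variable [Module k D] [IsScalarTower k R D]
variable {H : Type u} [AddCommGroup H] [Module R H] [Module k H] [IsScalarTower k R H]
  {τH : Type u} [SetLike τH H] [AddSubgroupClass τH H] {ℋ : ℤ → τH} [DirectSum.Decomposition ℋ]
  [SetLike.GradedSMul 𝒜 ℋ]
variable {β : D →ₗ[k] H →ₗ[k] k}

include hB in
/-- `(0 :_H q)` is dual to `D/qD` -/
theorem exists_dual_quot [Module.Finite R D] (hβ : _root_.GrSeg.IsGDual R ℋ 𝒟 β) {q : Ideal R}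
    (hq : q.IsHomogeneous 𝒜) [Module.Finite k (D ⧸ (q • ⊤ : Submodule R D))]
    (S : Submodule k H) (hS : ∀ x, x ∈ S ↔ ∀ a ∈ q, a • x = 0) :
    Module.Finite k S ∧ Module.finrank k S = Module.finrank k (D ⧸ (q • ⊤ : Submodule R D)) := by
  classical
  set P : Submodule R D := q • ⊤ with hP
  have hflip := flip_isGDual hB ℋ 𝒟 hβ fun n => by
    have := (finrank_eq hB ℋ 𝒟 hβ (-n)).1
    rwa [neg_neg] at this
  let mkk : D →ₗ[k] D ⧸ P := P.mkQ.restrictScalars k
  have hkill : ∀ x ∈ S, ∀ c ∈ P, β c x = 0 := fun x hx c hc => by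
    refine Submodule.smul_induction_on hc (fun a ha z _ => ?_) fun a b ha hb => by
      rw [map_add, LinearMap.add_apply, ha, hb, add_zero]
    rw [hβ.map_smul, (hS x).1 hx a ha, map_zero]
  let θ₀ : S →ₗ[k] Module.Dual k (D ⧸ P.restrictScalars k) :=
    { toFun := fun x => (P.restrictScalars k).liftQ (β.flip x.1) fun c hc => hkill x.1 x.2 c hc
      map_add' := fun a b => by ext c; exact map_add (β c) a.1 b.1
      map_smul' := fun a x => by ext c; exact map_smul (β c) a x.1 }
  let θ : S →ₗ[k] Module.Dual k (D ⧸ P) :=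
    (Submodule.Quotient.restrictScalarsEquiv k P).symm.toLinearMap.dualMap ∘ₗ θ₀
  have hθ : ∀ (x : S) (c : D), θ x (mkk c) = β c x.1 := fun x c => rfl
  have hinj : Function.Injective θ := (injective_iff_map_eq_zero θ).2 fun x hx =>
    Subtype.ext (gdual_ext hflip fun c => by
      change β c x.1 = 0
      rw [← hθ, hx, LinearMap.zero_apply])
  refine ⟨Module.Finite.of_injective θ hinj, ?_⟩
  have hsurj : Function.Surjective θ := fun l => by
    obtain ⟨G, hG⟩ := (Module.Finite.fg_top : (⊤ : Submodule k (D ⧸ P)).FG)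
    have hlift : ∀ w : D ⧸ P, ∃ c : D, mkk c = w := Submodule.Quotient.mk_surjective P
    choose c hc using hlift
    let D0 : Finset ℤ := G.biUnion fun w => degs 𝒟 (c w)
    have hout : ∀ e ∉ D0, ∀ d ∈ 𝒟 e, mkk d = 0 := fun e he d hd => by
      have hmem : mkk d ∈ Submodule.span k (G : Set (D ⧸ P)) := by rw [hG]; trivial
      obtain ⟨a, ha⟩ := Submodule.mem_span_finset.mp hmem
      have h1 : mkk (d - ∑ w ∈ G, a w • c w) = 0 := by
        rw [map_sub, map_sum, sub_eq_zero]
        simp_rw [map_smul, hc]
        exact ha.2.symm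
      have h2 : cpt 𝒟 e (d - ∑ w ∈ G, a w • c w) ∈ P :=
        (isHomogeneous_ideal_smul_top (D := D) (𝒟 := 𝒟) hq) e ((Submodule.Quotient.mk_eq_zero P).1 h1)
      rw [map_sub, map_sum, cpt_of_mem 𝒟 hd, Finset.sum_eq_zero fun w hw => ?_, sub_zero] at h2
      · exact (Submodule.Quotient.mk_eq_zero P).2 h2
      · rw [cpt_ksmul hB 𝒟]
        have : cpt 𝒟 e (c w) = 0 := by
          by_contra hne
          exact he (Finset.mem_biUnion.2 ⟨w, hw, (mem_degs 𝒟).2 hne⟩)
        rw [this, smul_zero]
    let L : D →ₗ[k] k := l ∘ₗ mkk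
    have hex : ∀ e : ℤ, ∃ x ∈ ℋ (-e), ∀ d ∈ 𝒟 e, β d x = L d := fun e => by
      obtain ⟨x, hx, hxd⟩ := hflip.exists_eq (-e) L
      exact ⟨x, hx, fun d hd => hxd d (by rwa [neg_neg])⟩
    choose X hX hXd using hex
    let x : H := ∑ e ∈ D0, X e
    have hx : ∀ d : D, β d x = L d := fun d => by
      induction d using homogeneous_induction 𝒟 with
      | zero => simp
      | add a b ha hb => rw [map_add, map_add, LinearMap.add_apply, ha, hb]
      | hom e d hd =>
        rw [map_sum]
        by_cases he : e ∈ D0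
        · rw [Finset.sum_eq_single_of_mem e he fun e' _ hne =>
            hβ.vanish e d hd (-e') (fun h => hne (neg_injective h)) _ (hX e')]
          exact hXd e d hd
        · rw [show L d = l (mkk d) from rfl, hout e he d hd, map_zero]
          exact Finset.sum_eq_zero fun e' he' =>
            hβ.vanish e d hd (-e') (fun h => he (neg_injective h ▸ he')) _ (hX e')
    have hxS : x ∈ S := (hS x).2 fun a ha => gdual_ext hflip fun d => by
      change β d (a • x) = 0
      rw [← hβ.map_smul, hx]
      change l (mkk (a • d)) = 0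
      rw [show mkk (a • d) = 0 from (Submodule.Quotient.mk_eq_zero P).2
        (Submodule.smul_mem_smul ha Submodule.mem_top), map_zero]
    refine ⟨⟨x, hxS⟩, LinearMap.ext fun w => ?_⟩
    obtain ⟨d, rfl⟩ := Submodule.Quotient.mk_surjective P w
    exact hx d
  rw [(LinearEquiv.ofBijective θ ⟨hinj, hsurj⟩).finrank_eq, Subspace.dual_finrank_eq]

end Groth.Agent.GrDual
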