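import Groth.Agent.GrDual.Pairing

/-!
# Modules dual to corresponding modules correspond
-/

set_option autoImplicit false
set_option linter.unusedSectionVars false
set_option linter.style.haveILetI false
universe u

open DirectSum
open Groth.Agent.GrLC

namespace Groth.Agent.GrDual

variable {k k' : Type u} [Field k] [Field k'] {R R' : Type u} [CommRing R] [Algebra k R] [CommRing R']
  [Algebra k' R'] {σ : Type u} [SetLike σ R] [AddSubgroupClass σ R] {𝒜 : ℤ → σ} [GradedRing 𝒜]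
  {σ' : Type u} [SetLike σ' R'] [AddSubgroupClass σ' R'] {𝒜' : ℤ → σ'} [GradedRing 𝒜']
variable {H : Type u} [AddCommGroup H] [Module R H] [Module k H] [IsScalarTower k R H]
  {τH : Type u} [SetLike τH H] [AddSubgroupClass τH H] (ℋ : ℤ → τH) [DirectSum.Decomposition ℋ]
  [SetLike.GradedSMul 𝒜 ℋ]
variable {C : Type u} [AddCommGroup C] [Module R C] [Module k C] [IsScalarTower k R C]
  {τC : Type u} [SetLike τC C] [AddSubgroupClass τC C] (𝒞 : ℤ → τC) [DirectSum.Decomposition 𝒞]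
  [SetLike.GradedSMul 𝒜 𝒞]
variable {H' : Type u} [AddCommGroup H'] [Module R' H'] [Module k' H'] [IsScalarTower k' R' H']
  {τH' : Type u} [SetLike τH' H'] [AddSubgroupClass τH' H'] (ℋ' : ℤ → τH') [DirectSum.Decomposition ℋ']
  [SetLike.GradedSMul 𝒜' ℋ']
variable {C' : Type u} [AddCommGroup C'] [Module R' C'] [Module k' C'] [IsScalarTower k' R' C']
  {τC' : Type u} [SetLike τC' C'] [AddSubgroupClass τC' C'] (𝒞' : ℤ → τC') [DirectSum.Decomposition 𝒞']
  [SetLike.GradedSMul 𝒜' 𝒞']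
variable {β : C →ₗ[k] H →ₗ[k] k} {β' : C' →ₗ[k'] H' →ₗ[k'] k'}

theorem exists_semilinear (hB : Base k 𝒜) (hB' : Base k' 𝒜') (φ : R' →+* R) (ρ : k' ≃+* k)
    (hρ : ∀ c, φ (algebraMap k' R' c) = algebraMap k R (ρ c)) (θ : ℤ →+ ℤ) (hθ : Function.Injective θ)
    (hφ : ∀ (i : ℤ) (r : R'), r ∈ 𝒜' i → φ r ∈ 𝒜 (θ i))
    (hD : _root_.GrSeg.IsGDual R ℋ 𝒞 β) (hD' : _root_.GrSeg.IsGDual R' ℋ' 𝒞' β')
    (T : H' →ₛₗ[φ] H) (hT : ∀ j, (∀ x ∈ ℋ' j, T x ∈ ℋ (θ j)) ∧ (∀ x ∈ ℋ' j, T x = 0 → x = 0) ∧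
      ∀ y ∈ ℋ (θ j), ∃ x ∈ ℋ' j, T x = y) :
    ∃ g : C' →ₛₗ[φ] C, Function.Injective g ∧
      ∀ j : ℤ, (∀ c ∈ 𝒞' j, g c ∈ 𝒞 (θ j)) ∧ ∀ c ∈ 𝒞 (θ j), ∃ c' ∈ 𝒞' j, g c' = c := by
  classical
  have hk : ∀ (c : k') (x : H'), T (c • x) = ρ c • T x := fun c x => by
    rw [← algebraMap_smul R' c x, T.map_smulₛₗ, hρ, algebraMap_smul]
  have hneg : ∀ j : ℤ, θ (-j) = -θ j := map_neg θ
  -- uniqueness
  have huniq : ∀ (j : ℤ) (c d : C), c ∈ 𝒞 (θ j) → d ∈ 𝒞 (θ j) →
      (∀ x ∈ ℋ' (-j), β c (T x) = β d (T x)) → c = d := by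
    intro j c d hc hd h
    rw [← sub_eq_zero]
    refine hD.eq_zero (θ j) _ (sub_mem hc hd) fun y hy => ?_
    rw [← hneg] at hy
    obtain ⟨x, hx, rfl⟩ := (hT (-j)).2.2 y hy
    rw [map_sub, LinearMap.sub_apply, h x hx, sub_self]
  -- existence
  have hex : ∀ (j : ℤ) (c' : C'), ∃ c ∈ 𝒞 (θ j), ∀ x ∈ ℋ' (-j), β c (T x) = ρ (β' c' x) := by
    intro j c'
    have hpre : ∀ y : pieceK hB ℋ (θ (-j)), ∃ x : H', x ∈ ℋ' (-j) ∧ T x = y.1 := fun y =>
      (hT (-j)).2.2 y.1 y.2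
    choose P hP hPT using hpre
    have hPu : ∀ (y : pieceK hB ℋ (θ (-j))) (x : H'), x ∈ ℋ' (-j) → T x = y.1 → P y = x := by
      intro y x hx hxy
      rw [← sub_eq_zero]
      exact (hT (-j)).2.1 _ (sub_mem (hP y) hx) (by rw [map_sub, hPT, hxy, sub_self])
    let l : pieceK hB ℋ (θ (-j)) →ₗ[k] k :=
      { toFun := fun y => ρ (β' c' (P y))
        map_add' := fun y z => by
          rw [hPu (y + z) (P y + P z) (add_mem (hP y) (hP z)) (by rw [map_add, hPT, hPT]; rfl),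
            map_add, map_add]
        map_smul' := fun a y => by
          obtain ⟨a, rfl⟩ := ρ.surjective a
          rw [hPu (ρ a • y) (a • P y) (ksmul_mem hB' ℋ' a (hP y)) (by rw [hk, hPT]; rfl), map_smul,
            RingHom.id_apply, smul_eq_mul, smul_eq_mul, map_mul] }
    obtain ⟨L, hL⟩ := LinearMap.exists_extend l
    obtain ⟨c, hc, hcL⟩ := hD.exists_eq (θ j) L
    refine ⟨c, hc, fun x hx => ?_⟩
    have hm := (hT (-j)).1 x hx
    rw [hcL (T x) (by rwa [← hneg])]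
    have h1 := LinearMap.congr_fun hL ⟨T x, hm⟩
    rw [LinearMap.comp_apply, Submodule.subtype_apply] at h1
    rw [h1]
    change ρ (β' c' (P ⟨T x, hm⟩)) = _
    rw [hPu ⟨T x, hm⟩ x hx rfl]
  choose F hF hFT using hex
  let FA : ∀ j : ℤ, C' →+ C := fun j => AddMonoidHom.mk' (F j) fun a b =>
    huniq j _ _ (hF j _) (add_mem (hF j a) (hF j b)) fun x hx => by
      rw [hFT j _ x hx, map_add, LinearMap.add_apply, map_add, map_add, LinearMap.add_apply,
        hFT j a x hx, hFT j b x hx]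
  let g : C' →+ C := (DirectSum.toAddMonoid fun j => (FA j).comp (AddSubmonoidClass.subtype (𝒞' j))).comp
    (DirectSum.decomposeAddEquiv 𝒞').toAddMonoidHom
  have hg : ∀ (j : ℤ) (c : C'), c ∈ 𝒞' j → g c = F j c := fun j c hc => by
    change DirectSum.toAddMonoid _ (decompose 𝒞' c) = _
    rw [decompose_of_mem 𝒞' hc, DirectSum.toAddMonoid_of]
    rfl
  have hlin : ∀ (r : R') (c : C'), g (r • c) = φ r • g c := by
    intro r c
    induction c using homogeneous_induction 𝒞' with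
    | zero => simp
    | add a b ha hb => rw [smul_add, map_add, ha, hb, map_add, smul_add]
    | hom j c hc =>
      induction r using homogeneous_induction 𝒜' with
      | zero => simp
      | add a b ha hb => rw [add_smul, map_add, ha, hb, map_add, add_smul]
      | hom i r hr =>
        rw [hg _ _ (smul_mem_gr (𝒜 := 𝒜') (ℳ := 𝒞') hr hc), hg _ _ hc]
        refine huniq (i + j) _ _ (hF _ _) ?_ fun x hx => ?_
        · rw [map_add]; exact smul_mem_gr (𝒜 := 𝒜) (ℳ := 𝒞) (hφ i r hr) (hF j c)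
        · have hrx := smul_mem_gr (𝒜 := 𝒜') (ℳ := ℋ') hr hx
          rw [show i + -(i + j) = -j by ring] at hrx
          rw [hFT _ _ x hx, hD'.map_smul, hD.map_smul, ← T.map_smulₛₗ, hFT j c _ hrx]
  let gL : C' →ₛₗ[φ] C := { toFun := g, map_add' := map_add g, map_smul' := hlin }
  refine ⟨gL, (injective_iff_map_eq_zero _).2 fun c hc => eq_zero_of_cpt 𝒞' fun j => ?_, fun j =>
    ⟨fun c hc => ?_, fun c hc => ?_⟩⟩
  · refine hD'.eq_zero j _ (cpt_mem 𝒞' j c) fun x hx => ρ.injective ?_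
    rw [map_zero, ← hFT j _ x hx, ← hg j _ (cpt_mem 𝒞' j c)]
    have : g (cpt 𝒞' j c) = cpt 𝒞 (θ j) (g c) := by
      clear hc
      induction c using homogeneous_induction 𝒞' with
      | zero => simp
      | add a b ha hb => simp only [map_add]; rw [ha, hb]
      | hom i c hci =>
        rw [cpt_of_mem_ite 𝒞' _ hci, hg i c hci, cpt_of_mem_ite 𝒞 _ (hF i c)]
        by_cases e : i = j
        · rw [if_pos e, if_pos (by rw [e]), hg i c hci]
        · rw [if_neg e, if_neg fun e' => e (hθ e'), map_zero]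
    rw [this, show g c = 0 from hc, map_zero, map_zero, LinearMap.zero_apply]
  · change g c ∈ _
    rw [hg j c hc]
    exact hF j c
  · let l : H' →ₗ[k'] k' :=
      { toFun := fun x => ρ.symm (β c (T x))
        map_add' := fun x y => by rw [map_add, map_add, map_add]
        map_smul' := fun a x => by
          rw [hk, map_smul, smul_eq_mul, map_mul, RingHom.id_apply, ρ.symm_apply_apply, smul_eq_mul] }
    obtain ⟨c', hc', hcl⟩ := hD'.exists_eq j l
    refine ⟨c', hc', ?_⟩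
    change g c' = c
    rw [hg j c' hc']
    refine huniq j _ _ (hF j c') hc fun x hx => ?_
    rw [hFT j c' x hx, hcl x hx]
    exact ρ.apply_symm_apply _

end Groth.Agent.GrDual
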