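import Groth.Agent.GrDual.GorCriterion
import Groth.Agent.GrTransfer.Global
import Groth.Agent.GrTransfer.Noeth

/-!
# Veronese subrings: setup and transfer of top cohomology
-/

set_option autoImplicit false
set_option linter.unusedSectionVars false
set_option linter.style.haveILetI false
universe u

open DirectSum
open Groth.Agent.GrLC

noncomputable section

namespace Groth.Agent.GrDual.Veronese

/-- `j ↦ j * q` -/
def θq (q : ℕ) : ℤ →+ ℤ := AddMonoidHom.mulRight (q : ℤ)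

@[simp] theorem θq_apply (q : ℕ) (j : ℤ) : θq q j = j * q := rfl

variable {R : Type u} [CommRing R] {𝒜 : ℤ → AddSubgroup R} [GradedRing 𝒜]
  (hpos : ∀ n : ℤ, n < 0 → 𝒜 n = ⊥) {q : ℕ} (hq : 0 < q)
  {R' : Type u} [CommRing R'] {𝒜' : ℤ → AddSubgroup R'} [GradedRing 𝒜'] (φ : R' →+* R)
  (hφ : Function.Injective φ) (hdeg : ∀ j : ℤ, (𝒜' j).map (φ : R' →+ R) = 𝒜 (j * q))

include hq in
theorem θq_injective : Function.Injective (θq q) := fun a b h =>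
  mul_right_cancel₀ (by exact_mod_cast hq.ne') h

include hdeg in
theorem mem_deg (i : ℤ) (r : R') (hr : r ∈ 𝒜' i) : φ r ∈ 𝒜 (θq q i) := by
  rw [θq_apply, ← hdeg i]; exact ⟨r, hr, rfl⟩

include hdeg in
theorem exists_deg (i : ℤ) (x : R) (hx : x ∈ 𝒜 (θq q i)) : ∃ r ∈ 𝒜' i, φ r = x := by
  rw [θq_apply, ← hdeg i] at hx; exact hx

include hq hφ hdeg in
theorem isNoetherianRing [IsNoetherianRing R] : IsNoetherianRing R' :=
  GrTransfer.isNoetherianRing_of_part 𝒜 𝒜' φ hφ (θq q) (θq_injective hq) (mem_deg φ hdeg)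
    (exists_deg φ hdeg)

omit [GradedRing 𝒜] in
include hpos in
theorem pos : ∀ i : ℤ, i < 0 → ∀ x ∈ 𝒜 i, x = 0 := fun i hi x hx => by rwa [hpos i hi] at hx

include hpos hq hφ hdeg in
theorem pos' : ∀ i : ℤ, i < 0 → ∀ x ∈ 𝒜' i, x = 0 := fun i hi x hx => hφ (by
  rw [map_zero]
  refine pos hpos (θq q i) ?_ _ (mem_deg φ hdeg i x hx)
  rw [θq_apply]
  exact mul_neg_of_neg_of_pos hi (by exact_mod_cast hq))

include hφ hdeg in
/-- the degree-zero parts agree -/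
theorem exists_deg0_equiv : ∃ ρ : _root_.GrLC.deg0 𝒜' ≃+* _root_.GrLC.deg0 𝒜,
    ∀ c : _root_.GrLC.deg0 𝒜', φ (c : R') = (ρ c : R) := by
  let ρ₀ : _root_.GrLC.deg0 𝒜' →+* _root_.GrLC.deg0 𝒜 :=
    (φ.comp (_root_.GrLC.deg0 𝒜').subtype).codRestrict (_root_.GrLC.deg0 𝒜) fun c => by
      have := mem_deg φ hdeg 0 c.1 c.2
      rwa [map_zero] at this
  have hρ₀ : Function.Bijective ρ₀ := ⟨fun a b h => Subtype.ext (hφ (congrArg Subtype.val h)), fun x => by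
    obtain ⟨r, hr, hrx⟩ := exists_deg φ hdeg 0 x.1 (by rw [map_zero]; exact x.2)
    exact ⟨⟨r, hr⟩, Subtype.ext hrx⟩⟩
  exact ⟨RingEquiv.ofBijective ρ₀ hρ₀, fun c => rfl⟩

include hq hdeg in
/-- the irrelevant ideals have the same radical -/
theorem radical_map {m : HomogeneousIdeal 𝒜}
    (hmsp : m.toIdeal = Ideal.span (⋃ n ∈ Set.Ioi (0 : ℤ), (𝒜 n : Set R))) {m' : HomogeneousIdeal 𝒜'}
    (hm'sp : m'.toIdeal = Ideal.span (⋃ n ∈ Set.Ioi (0 : ℤ), (𝒜' n : Set R'))) :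
    (m'.toIdeal.map φ).radical = m.toIdeal.radical := by
  refine le_antisymm (Ideal.radical_mono ?_) (Ideal.radical_le_radical_iff.2 ?_)
  · rw [hm'sp, Ideal.map_span, Ideal.span_le]
    rintro _ ⟨x, hx, rfl⟩
    obtain ⟨j, hj, hxj⟩ := Set.mem_iUnion₂.1 hx
    refine irr_of_span hmsp (θq q j) ?_ _ (mem_deg φ hdeg j x hxj)
    exact mul_pos (Set.mem_Ioi.1 hj) (by exact_mod_cast hq)
  · rw [hmsp, Ideal.span_le]
    intro x hx
    obtain ⟨j, hj, hxj⟩ := Set.mem_iUnion₂.1 hx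
    refine ⟨q, ?_⟩
    have hp := SetLike.pow_mem_graded q hxj
    rw [nsmul_eq_mul, mul_comm, ← θq_apply] at hp
    obtain ⟨r, hr, hrx⟩ := exists_deg φ hdeg j _ hp
    rw [← hrx]
    exact Ideal.mem_map_of_mem _ (irr_of_span hm'sp j (Set.mem_Ioi.1 hj) r hr)

omit [GradedRing 𝒜] in
theorem irrel_eq {S : Type u} [CommRing S] {ℬ : ℤ → AddSubgroup S} [GradedRing ℬ] :
    (_root_.GrSyz.irrel ℬ).toIdeal = Ideal.span (⋃ n ∈ Set.Ioi (0 : ℤ), (ℬ n : Set S)) := by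
  change Ideal.span {r : S | ∃ n : ℤ, 0 < n ∧ r ∈ ℬ n} = _
  congr 1
  ext r
  simp [Set.mem_iUnion₂]

include hq hφ hdeg in
/-- transfer of local cohomology -/
theorem exists_T [IsNoetherianRing R] {m : HomogeneousIdeal 𝒜}
    (hmsp : m.toIdeal = Ideal.span (⋃ n ∈ Set.Ioi (0 : ℤ), (𝒜 n : Set R))) {m' : HomogeneousIdeal 𝒜'}
    (hm'sp : m'.toIdeal = Ideal.span (⋃ n ∈ Set.Ioi (0 : ℤ), (𝒜' n : Set R')))
    (I : _root_.GrLC.StarInjRes 𝒜 𝒜) (I' : _root_.GrLC.StarInjRes 𝒜' 𝒜') (p : ℕ) :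
    ∃ T : I'.H m' p →ₛₗ[φ] I.H m p, ∀ j : ℤ,
      (∀ x ∈ I'.Hgr m' p j, T x ∈ I.Hgr m p (θq q j)) ∧
      (∀ x ∈ I'.Hgr m' p j, T x = 0 → x = 0) ∧
      ∀ y ∈ I.Hgr m p (θq q j), ∃ x ∈ I'.Hgr m' p j, T x = y := by
  haveI := isNoetherianRing hq φ hφ hdeg
  have hpart : GrTransfer.IsPart φ (θq q) 0 𝒜 𝒜' (φ.toSemilinearMap) :=
    { injective := hφ
      mem := fun j x hx => by rw [zero_add]; exact mem_deg φ hdeg j x hx
      exists_eq := fun j y hy => exists_deg φ hdeg j y (by rwa [zero_add] at hy) }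
  obtain ⟨T, hT⟩ := GrTransfer.transfer_res φ (θq q) (θq_injective hq) (mem_deg φ hdeg) m m'
    (radical_map hq φ hdeg hmsp hm'sp) hpart I I' p
  refine ⟨T, fun j => ?_⟩
  obtain ⟨h1, h2, h3⟩ := hT j
  exact ⟨fun x hx => by simpa using h1 x hx, h2, fun y hy => h3 y (by simpa using hy)⟩

include hq hφ hdeg in
/-- vanishing transfers -/
theorem subsingleton_H' [IsNoetherianRing R] {m : HomogeneousIdeal 𝒜}
    (hmsp : m.toIdeal = Ideal.span (⋃ n ∈ Set.Ioi (0 : ℤ), (𝒜 n : Set R))) {m' : HomogeneousIdeal 𝒜'}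
    (hm'sp : m'.toIdeal = Ideal.span (⋃ n ∈ Set.Ioi (0 : ℤ), (𝒜' n : Set R')))
    (I : _root_.GrLC.StarInjRes 𝒜 𝒜) (I' : _root_.GrLC.StarInjRes 𝒜' 𝒜') {p : ℕ}
    (h : Subsingleton (I.H m p)) : Subsingleton (I'.H m' p) := by
  haveI := isNoetherianRing hq φ hφ hdeg
  obtain ⟨T, hT⟩ := exists_T hq φ hφ hdeg hmsp hm'sp I I' p
  letI := Hdec I' m' p
  refine subsingleton_of_forall_eq 0 fun x => eq_zero_of_cpt (I'.Hgr m' p) fun j => ?_
  exact (hT j).2.1 _ (cpt_mem _ j x) (Subsingleton.elim _ _)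

end Groth.Agent.GrDual.Veronese
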