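import Groth.Agent.GrDual.Veronese

/-!
# Hilbert functions of a Gorenstein ring and a Gorenstein Veronese part
-/

set_option autoImplicit false
set_option linter.unusedSectionVars false
set_option linter.style.haveILetI false
universe u

open DirectSum
open Groth.Agent.GrLC

noncomputable section

namespace Groth.Agent.GrDual

variable {k : Type u} [Field k] {R : Type u} [CommRing R] [Algebra k R] [IsNoetherianRing R]
  {𝒜 : ℤ → AddSubgroup R} [GradedRing 𝒜]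
variable (hB : Base k 𝒜)
variable {k' : Type u} [Field k'] {R' : Type u} [CommRing R'] [Algebra k' R'] [IsNoetherianRing R']
  {𝒜' : ℤ → AddSubgroup R'} [GradedRing 𝒜'] (hB' : Base k' 𝒜')
variable {H : Type u} [AddCommGroup H] [Module R H] [Module k H] [IsScalarTower k R H]
  {τH : Type u} [SetLike τH H] [AddSubgroupClass τH H] {ℋ : ℤ → τH} [DirectSum.Decomposition ℋ]
  [SetLike.GradedSMul 𝒜 ℋ]
variable {H' : Type u} [AddCommGroup H'] [Module R' H'] [Module k' H'] [IsScalarTower k' R' H']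
  {τH' : Type u} [SetLike τH' H'] [AddSubgroupClass τH' H'] {ℋ' : ℤ → τH'} [DirectSum.Decomposition ℋ']
  [SetLike.GradedSMul 𝒜' ℋ']

/-- pieces corresponding under a semilinear map have the same rank -/
theorem rank_pieceK_eq {M : Type u} [AddCommGroup M] [Module R M] [Module k M] [IsScalarTower k R M]
    {τ : Type u} [SetLike τ M] [AddSubgroupClass τ M] (ℳ : ℤ → τ) [DirectSum.Decomposition ℳ]
    [SetLike.GradedSMul 𝒜 ℳ] {M' : Type u} [AddCommGroup M'] [Module R' M'] [Module k' M']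
    [IsScalarTower k' R' M'] {τ' : Type u} [SetLike τ' M'] [AddSubgroupClass τ' M'] (ℳ' : ℤ → τ')
    [DirectSum.Decomposition ℳ'] [SetLike.GradedSMul 𝒜' ℳ'] (φ : R' →+* R) (ρ : k' ≃+* k)
    (hρ : ∀ c, φ (algebraMap k' R' c) = algebraMap k R (ρ c)) (T : M' →ₛₗ[φ] M) {i j : ℤ}
    (h1 : ∀ x ∈ ℳ' j, T x ∈ ℳ i) (h2 : ∀ x ∈ ℳ' j, T x = 0 → x = 0)
    (h3 : ∀ y ∈ ℳ i, ∃ x ∈ ℳ' j, T x = y) :
    Module.rank k' (pieceK hB' ℳ' j) = Module.rank k (pieceK hB ℳ i) := by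
  let Ti : pieceK hB' ℳ' j →+ pieceK hB ℳ i := AddMonoidHom.mk' (fun x => ⟨T x.1, h1 x.1 x.2⟩)
    fun a b => Subtype.ext (map_add T a.1 b.1)
  have hbij : Function.Bijective Ti := by
    refine ⟨(injective_iff_map_eq_zero Ti).2 fun x hx => Subtype.ext (h2 x.1 x.2 (congrArg Subtype.val hx)),
      fun y => ?_⟩
    obtain ⟨x, hx, hxy⟩ := h3 y.1 y.2
    exact ⟨⟨x, hx⟩, Subtype.ext hxy⟩
  have h := rank_eq_of_equiv_equiv (ρ : k' → k) (AddEquiv.ofBijective Ti hbij) ρ.bijective fun c x => by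
    refine Subtype.ext ?_
    change T (c • x.1) = ρ c • T x.1
    rw [← algebraMap_smul R' c x.1, T.map_smulₛₗ, hρ, algebraMap_smul]
  exact h

/-- pieces corresponding under a semilinear map have the same dimension -/
theorem finrank_pieceK_eq {M : Type u} [AddCommGroup M] [Module R M] [Module k M] [IsScalarTower k R M]
    {τ : Type u} [SetLike τ M] [AddSubgroupClass τ M] (ℳ : ℤ → τ) [DirectSum.Decomposition ℳ]
    [SetLike.GradedSMul 𝒜 ℳ] {M' : Type u} [AddCommGroup M'] [Module R' M'] [Module k' M']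
    [IsScalarTower k' R' M'] {τ' : Type u} [SetLike τ' M'] [AddSubgroupClass τ' M'] (ℳ' : ℤ → τ')
    [DirectSum.Decomposition ℳ'] [SetLike.GradedSMul 𝒜' ℳ'] (φ : R' →+* R) (ρ : k' ≃+* k)
    (hρ : ∀ c, φ (algebraMap k' R' c) = algebraMap k R (ρ c)) (T : M' →ₛₗ[φ] M) {i j : ℤ}
    (h1 : ∀ x ∈ ℳ' j, T x ∈ ℳ i) (h2 : ∀ x ∈ ℳ' j, T x = 0 → x = 0)
    (h3 : ∀ y ∈ ℳ i, ∃ x ∈ ℳ' j, T x = y) :
    Module.finrank k' (pieceK hB' ℳ' j) = Module.finrank k (pieceK hB ℳ i) :=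
  congrArg Cardinal.toNat (rank_pieceK_eq hB hB' ℳ ℳ' φ ρ hρ T h1 h2 h3)

variable {g : ℤ} {β : R →ₗ[k] H →ₗ[k] k} {g' : ℤ} {β' : R' →ₗ[k'] H' →ₗ[k'] k'}

include hB in
theorem finrank_shiftDual (hβ : _root_.GrSeg.IsGDual R ℋ (shA 𝒜 g) β) (p : ℤ) :
    Module.finrank k (pieceK hB 𝒜 p) = Module.finrank k (pieceK hB ℋ (-(p + g))) := by
  rw [← (finrank_eq hB ℋ (shA 𝒜 g) hβ (p + g)).2]
  have e : pieceK hB (shA 𝒜 g) (p + g) = pieceK hB 𝒜 p := by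
    ext x
    rw [mem_pieceK, mem_pieceK, mem_shA, add_neg_cancel_right]
  rw [e]

include hB hB' in
/-- `dim R_{eq + δ} = dim R_{eq}` with `δ = g'q - g`. -/
theorem finrank_add_delta (φ : R' →+* R) (hφ : Function.Injective φ) (ρ : k' ≃+* k)
    (hρ : ∀ c, φ (algebraMap k' R' c) = algebraMap k R (ρ c)) {q : ℕ}
    (hφ1 : ∀ (i : ℤ) (r : R'), r ∈ 𝒜' i → φ r ∈ 𝒜 (i * q))
    (hex : ∀ (i : ℤ) (x : R), x ∈ 𝒜 (i * q) → ∃ r ∈ 𝒜' i, φ r = x)
    (T : H' →ₛₗ[φ] H) (hT : ∀ j : ℤ, (∀ x ∈ ℋ' j, T x ∈ ℋ (j * q)) ∧ (∀ x ∈ ℋ' j, T x = 0 → x = 0) ∧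
      ∀ y ∈ ℋ (j * q), ∃ x ∈ ℋ' j, T x = y)
    (hβ : _root_.GrSeg.IsGDual R ℋ (shA 𝒜 g) β) (hβ' : _root_.GrSeg.IsGDual R' ℋ' (shA 𝒜' g') β') (e : ℤ) :
    Module.finrank k (pieceK hB 𝒜 (e * q + (g' * q - g))) = Module.finrank k (pieceK hB 𝒜 (e * q)) := by
  rw [finrank_shiftDual hB hβ, show -(e * (q : ℤ) + (g' * q - g) + g) = -(e + g') * q by ring,
    ← finrank_pieceK_eq hB hB' ℋ ℋ' φ ρ hρ T (hT _).1 (hT _).2.1 (hT _).2.2,
    ← finrank_shiftDual hB' hβ',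
    finrank_pieceK_eq hB hB' 𝒜 𝒜' φ ρ hρ φ.toSemilinearMap (hφ1 e)
      (fun x _ h => hφ (h.trans (map_zero φ).symm)) (hex e)]

end Groth.Agent.GrDual
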